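import Mathlib

/-!
# The group `Sym 3 × Sym 5`
-/

set_option autoImplicit false

namespace Cfsg.Agent.SymEightLocal

open Equiv

/-- `Sym 3 × Sym 5` -/
abbrev SF := Perm (Fin 3) × Perm (Fin 5)

set_option synthInstance.maxHeartbeats 200000
set_option synthInstance.maxSize 1024

def zS : SF := (c[0, 1, 2], 1)
def wS : SF := (1, c[2, 3, 4])
def iS : SF := (1, c[0, 1])
def sS : SF := (c[0, 1], 1)
/-- the odd possibility for the image of `sS` -/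
def bO : SF := (1, c[3, 4])
/-- the even possibility for the image of `sS` -/
def bE : SF := (1, c[0, 1] * c[3, 4])

/-- the Sylow 3-subgroup -/
def dS (a c : Fin 3) : SF := zS ^ (a : ℕ) * wS ^ (c : ℕ)

/-- the centralizer of the Sylow 3-subgroup -/
def cS (x : Fin 3 × Fin 3 × Fin 2) : SF := dS x.1 x.2.1 * iS ^ (x.2.2 : ℕ)

/-- the normalizer of the Sylow 3-subgroup -/
def nS (x : Fin 3 × Fin 3 × Fin 2 × Fin 2 × Fin 2) : SF :=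
  dS x.1 x.2.1 * sS ^ (x.2.2.1 : ℕ) * bO ^ (x.2.2.2.1 : ℕ) * iS ^ (x.2.2.2.2 : ℕ)

theorem z_of_line : ∀ b : Perm (Fin 5), b ^ 3 = 1 →
    (c[0, 1, 2, 3, 4] * b * (c[0, 1, 2, 3, 4] : Perm (Fin 5))⁻¹ = b ∨
      c[0, 1, 2, 3, 4] * b * (c[0, 1, 2, 3, 4] : Perm (Fin 5))⁻¹ = b⁻¹) → b = 1 := by decide +kernel

theorem three_part : ∀ a : Perm (Fin 3), a ^ 3 = 1 → a = 1 ∨ a = c[0, 1, 2] ∨ a = (c[0, 1, 2])⁻¹ := by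
  decide +kernel

theorem exists_conj_c5 : ∀ b : Perm (Fin 5), b ^ 3 = 1 → b ≠ 1 →
    ∃ π : Perm (Fin 5), π * c[2, 3, 4] * π⁻¹ = b := by decide +kernel

theorem commute_z_fst : ∀ a : Perm (Fin 3), a * c[0, 1, 2] = c[0, 1, 2] * a →
    ∃ i : Fin 3, a = c[0, 1, 2] ^ (i : ℕ) := by decide +kernel

theorem centralizer_c5 : ∀ b : Perm (Fin 5), b * c[2, 3, 4] = c[2, 3, 4] * b →
    ∃ (c : Fin 3) (e : Fin 2), b = c[2, 3, 4] ^ (c : ℕ) * c[0, 1] ^ (e : ℕ) := by decide +kernel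

theorem normalizer_c5 : ∀ b : Perm (Fin 5),
    (b * c[2, 3, 4] * b⁻¹ = c[2, 3, 4] ∨ b * c[2, 3, 4] * b⁻¹ = (c[2, 3, 4])⁻¹) →
    ∃ (c : Fin 3) (q e : Fin 2), b = c[2, 3, 4] ^ (c : ℕ) * c[3, 4] ^ (q : ℕ) * c[0, 1] ^ (e : ℕ) := by
  decide +kernel

theorem s_image_spec : ∀ b : Perm (Fin 5), b * b = 1 → b * c[2, 3, 4] * b⁻¹ = (c[2, 3, 4])⁻¹ →
    b * c[0, 1] = c[0, 1] * b →
    ∃ m : Fin 3, b = c[2, 3, 4] ^ (m : ℕ) * c[3, 4] * (c[2, 3, 4] ^ (m : ℕ))⁻¹ ∨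
      b = c[2, 3, 4] ^ (m : ℕ) * (c[0, 1] * c[3, 4]) * (c[2, 3, 4] ^ (m : ℕ))⁻¹ := by decide +kernel

theorem mixed_conj : ∀ a c a' c' : Fin 3, a ≠ 0 → c ≠ 0 → a' ≠ 0 → c' ≠ 0 →
    ∃ p q : Fin 2, sS ^ (p : ℕ) * bO ^ (q : ℕ) * dS a c * (sS ^ (p : ℕ) * bO ^ (q : ℕ))⁻¹ = dS a' c' := by
  decide +kernel

theorem dS_injective : Function.Injective (fun p : Fin 3 × Fin 3 => dS p.1 p.2) := by decide +kernel
theorem nS_injective : Function.Injective nS := by decide +kernel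

theorem line_split : ∀ a c : Fin 3, (a ≠ 0 ∧ c ≠ 0) ∨
    dS a c = 1 ∨ dS a c = zS ∨ dS a c = zS⁻¹ ∨ dS a c = wS ∨ dS a c = wS⁻¹ := by decide +kernel

theorem line_moved : ∀ a c : Fin 3, a ≠ 0 → c ≠ 0 →
    sS * dS a c * sS⁻¹ ≠ dS a c ∧ sS * dS a c * sS⁻¹ ≠ (dS a c)⁻¹ := by decide +kernel

theorem nS_conj : ∀ x, ∀ a c : Fin 3, ∃ a' c' : Fin 3, nS x * dS a c * (nS x)⁻¹ = dS a' c' := by
  decide +kernel

theorem values :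
    zS ^ 3 = 1 ∧ wS ^ 3 = 1 ∧ zS ≠ 1 ∧ wS ≠ 1 ∧ zS ≠ wS ∧ zS ≠ wS⁻¹ ∧
    iS * iS = 1 ∧ sS * sS = 1 ∧ sS * zS * sS⁻¹ = zS⁻¹ ∧ sS * wS * sS⁻¹ = wS ∧
    bO * zS * bO⁻¹ = zS ∧ bO * wS * bO⁻¹ = wS⁻¹ ∧ sS * iS = iS * sS ∧
    zS * bO = bO * zS ∧ zS * bE = bE * zS ∧ bO * bO = 1 ∧ bE * bE = 1 ∧
    iS * zS = zS * iS ∧ iS * wS = wS * iS ∧ dS 0 1 = wS ∧ dS 1 0 = zS ∧ dS 0 0 = 1 := by decide +kernel

theorem not_in_D : ∀ a c : Fin 3, dS a c ≠ iS ∧ dS a c ≠ sS * bO ∧ dS a c ≠ sS * bE ∧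
    dS a c ≠ sS * bO * iS ∧ dS a c ≠ sS * bE * iS ∧ dS a c ≠ iS * (sS * bO * iS)⁻¹ ∧
    dS a c ≠ iS * (sS * bE * iS)⁻¹ := by decide +kernel

theorem invol_cS : ∀ x, cS x * cS x = 1 → cS x ≠ 1 → cS x = iS := by decide +kernel

end Cfsg.Agent.SymEightLocal
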