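import Mathlib
import Cfsg.Agent.Lib.EightLocal.Setup
import Cfsg.Agent.Lib.SymEightLocal.Model

/-!
# The normalised three-local configuration for the symmetric group of degree eight
-/

set_option autoImplicit false

namespace Cfsg.Agent.SymEightLocal

open Equiv EightLocal

universe u

/-- The normalised three-local configuration. -/
structure Data (G : Type u) [Group G] [Finite G] where
  /-- the Sylow 3-subgroup -/
  D : Subgroup G
  /-- the Sylow 3-subgroup, bundled -/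
  P : Sylow 3 G
  hDP : D = P
  hcard : Nat.card D = 9
  /-- the normaliser of the line of `z` -/
  ι : SF →* G
  inj : Function.Injective ι
  range_iff : ∀ x : G, x ∈ ι.range ↔ (x * ι zS * x⁻¹ = ι zS ∨ x * ι zS * x⁻¹ = (ι zS)⁻¹)
  mem_D : ∀ x : G, x ∈ D ↔ ∃ a c : Fin 3, x = ι (dS a c)
  /-- an involution exchanging the two lines -/
  g : G
  g_sq : g * g = 1
  g_z : g * ι zS * g⁻¹ = ι wS
  g_i : g * ι iS * g⁻¹ = ι iS
  g_s : g * ι sS * g⁻¹ = ι bO ∨ g * ι sS * g⁻¹ = ι bE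
  card_C_z : Nat.card (Subgroup.centralizer ({ι zS} : Set G)) = 360
  mixed : ∀ a c : Fin 3, a ≠ 0 → c ≠ 0 →
    Nat.card (Subgroup.centralizer ({ι (dS a c)} : Set G)) = 36 ∧
    Subgroup.centralizer ({ι (dS a c)} : Set G) ≤ Subgroup.normalizer (D : Set G)
  card_ND : Nat.card (Subgroup.normalizer (D : Set G)) = 144
  norm_D : ∀ n ∈ Subgroup.normalizer (D : Set G), ∃ x, n = ι (nS x) ∨ n = ι (nS x) * g

theorem dihedral_squares : ∀ a b : DihedralGroup 4 × Multiplicative (ZMod 2),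
    a * a = 1 ∨ b * b = 1 ∨ a * a = b * b := by decide +kernel

theorem pow_val_inv {G : Type u} [Group G] {a : G} (ha : a ^ 3 = 1) (n : Fin 3) :
    a ^ ((-n : Fin 3) : ℕ) = (a ^ (n : ℕ))⁻¹ := by
  refine eq_inv_of_mul_eq_one_left ?_
  rw [← pow_add]
  fin_cases n <;> first | exact pow_zero a | exact ha

/-- The hypotheses of the recognition theorem yield a normalised configuration. -/
theorem exists_data {G : Type u} [Group G] [Finite G]
    (P : Sylow 3 G) (D : Subgroup G) (hDP : D = P) (y z : G) (hgen : Subgroup.closure {y, z} = D)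
    (hcomm : IsMulCommutative D) (hcard : Nat.card D = 9) (hexp : ∀ a ∈ D, a ^ 3 = 1)
    (eN : Subgroup.normalizer (D : Set G) ⧸ D.subgroupOf (Subgroup.normalizer (D : Set G)) ≃*
      DihedralGroup 4 × Multiplicative (ZMod 2))
    (hycard : Nat.card (Subgroup.centralizer ({y} : Set G)) = 36)
    (hyn : (D.subgroupOf (Subgroup.centralizer ({y} : Set G))).Normal)
    (hzcard : Nat.card (Subgroup.centralizer ({z} : Set G)) = 360)
    (eL : Subgroup.normalizer (Subgroup.zpowers z : Set G) ≃* SF) :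
    ∃ d : Data G, d.D = D := by
  classical
  have hcomm' : ∀ a ∈ D, ∀ b ∈ D, a * b = b * a := fun a ha b hb =>
    congrArg Subtype.val (mul_comm' (⟨a, ha⟩ : D) ⟨b, hb⟩)
  have hzD : z ∈ D := hgen ▸ Subgroup.subset_closure (by simp)
  have hyD : y ∈ D := hgen ▸ Subgroup.subset_closure (by simp)
  have hz3 : z ^ 3 = 1 := hexp z hzD
  have hDlt : ∀ a ∈ D, Subgroup.zpowers a ≠ D := by
    intro a ha h
    have h2 := Nat.card_zpowers a
    rw [h, hcard] at h2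
    have := Nat.le_of_dvd (by norm_num) (orderOf_dvd_of_pow_eq_one (hexp a ha))
    omega
  have hz1 : z ≠ 1 := by
    intro h
    refine hDlt y hyD ?_
    rw [← hgen, h, Subgroup.zpowers_eq_closure]
    refine le_antisymm (Subgroup.closure_mono (by simp)) ((Subgroup.closure_le _).2 ?_)
    rintro _ (rfl | rfl)
    · exact Subgroup.subset_closure rfl
    · exact one_mem _
  obtain ⟨v1, v2, v3, v4, v5, v6, v7, v8, v9, v10, v11, v12, v13, v14, v15, v16, v17, v18, v19, v20,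
    v21, v22⟩ := values
  -- the normaliser of `⟨z⟩`
  set N := Subgroup.normalizer (Subgroup.zpowers z : Set G) with hN
  let ι0 : SF →* G := N.subtype.comp eL.symm.toMonoidHom
  have hι0 : Function.Injective ι0 := N.subtype_injective.comp eL.symm.injective
  have hr0 : ∀ x, x ∈ ι0.range ↔ x ∈ N := fun x =>
    ⟨fun ⟨k, hk⟩ => hk ▸ (eL.symm k).2, fun hx => ⟨eL ⟨x, hx⟩, by simp [ι0]⟩⟩
  have hcz : ∀ x : G, x * z = z * x → x ∈ N := fun x hx =>
    (mem_normalizer_line hz3 hz1 x).2 (Or.inl (by rw [hx]; group))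
  obtain ⟨k0, hk0⟩ := (hr0 z).2 (hcz z rfl)
  have hk03 : k0 ^ 3 = 1 := hι0 (by rw [map_pow, hk0, hz3, map_one])
  have hk01 : k0 ≠ 1 := fun h => hz1 (by rw [← hk0, h, map_one])
  have hb1' : k0.2 = 1 := by
    refine z_of_line _ (congrArg Prod.snd hk03) ?_
    have h := (mem_normalizer_line hz3 hz1 (ι0 (1, c[0, 1, 2, 3, 4]))).1 ((hr0 _).1 ⟨_, rfl⟩)
    rw [← hk0, ← map_inv, ← map_mul, ← map_mul, ← map_inv] at h
    exact h.imp (fun h => congrArg Prod.snd (hι0 h)) (fun h => congrArg Prod.snd (hι0 h))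
  have hk0z : k0 = zS ∨ k0 = zS⁻¹ := by
    rcases three_part _ (congrArg Prod.fst hk03) with h | h | h
    · exact absurd (Prod.ext h hb1') hk01
    · exact Or.inl (Prod.ext h hb1')
    · exact Or.inr (Prod.ext (h.trans rfl) (by simpa [zS] using hb1'))
  obtain ⟨ι1, hι1, hr1, hι1z⟩ : ∃ ι1 : SF →* G, Function.Injective ι1 ∧
      (∀ x, x ∈ ι1.range ↔ x ∈ N) ∧ ι1 zS = z := by
    rcases hk0z with h | h
    · exact ⟨ι0, hι0, hr0, h ▸ hk0⟩
    · let f : SF →* SF := (MulAut.conj sS).toMonoidHom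
      have hf : Function.Bijective f := (MulAut.conj sS).bijective
      refine ⟨ι0.comp f, hι0.comp hf.1, fun x => ?_, ?_⟩
      · rw [← hr0, MonoidHom.range_comp, MonoidHom.range_eq_top.2 hf.2, ← MonoidHom.range_eq_map]
      · show ι0 (sS * zS * sS⁻¹) = z
        rw [v9, ← h, hk0]
  -- normalise the Sylow subgroup
  obtain ⟨ky, hky⟩ := (hr1 y).2 (hcz y (hcomm' y hyD z hzD))
  have hky3 : ky ^ 3 = 1 := hι1 (by rw [map_pow, hky, hexp y hyD, map_one])
  have hkyc : ky * zS = zS * ky := hι1 (by rw [map_mul, map_mul, hky, hι1z]; exact hcomm' y hyD z hzD)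
  obtain ⟨i0, hi0⟩ := commute_z_fst ky.1 (congrArg Prod.fst hkyc)
  have hb1 : ky.2 ≠ 1 := by
    intro hb
    have : ky = zS ^ (i0 : ℕ) := Prod.ext (by simpa [zS] using hi0) (by simp [zS, hb])
    refine hDlt z hzD ?_
    rw [← hgen, Subgroup.zpowers_eq_closure]
    refine le_antisymm (Subgroup.closure_mono (by simp)) ((Subgroup.closure_le _).2 ?_)
    rintro _ (rfl | rfl)
    · rw [← hky, this, map_pow, hι1z]
      exact pow_mem (Subgroup.subset_closure (by rfl)) _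
    · exact Subgroup.subset_closure rfl
  obtain ⟨π, hπ⟩ := exists_conj_c5 _ (congrArg Prod.snd hky3) hb1
  let f : SF →* SF := (MulAut.conj ((1, π) : SF)).toMonoidHom
  have hf : Function.Bijective f := (MulAut.conj ((1, π) : SF)).bijective
  let ι : SF →* G := ι1.comp f
  have hι : Function.Injective ι := hι1.comp hf.1
  have hr : ∀ x, x ∈ ι.range ↔ x ∈ N := fun x => by
    rw [← hr1, MonoidHom.range_comp, MonoidHom.range_eq_top.2 hf.2, ← MonoidHom.range_eq_map]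
  have hιz : ι zS = z := by
    show ι1 ((1, π) * zS * (1, π)⁻¹) = z
    rw [← hι1z]
    congr 1
    simp [zS, Prod.ext_iff]
  have hy : y = ι (dS i0 1) := by
    show y = ι1 ((1, π) * dS i0 1 * (1, π)⁻¹)
    rw [← hky]
    congr 1
    simp only [dS, zS, wS]
    simp [Prod.ext_iff, hi0, hπ]
  have hdD : ∀ i k : Fin 3, ι (dS i k) ∈ D := by
    have hwD : ι wS ∈ D := by
      have : ι wS = (z ^ (i0 : ℕ))⁻¹ * y := by
        rw [hy, dS, map_mul, map_pow, map_pow, hιz, inv_mul_cancel_left]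
        simp
      rw [this]
      exact mul_mem (inv_mem (pow_mem hzD _)) hyD
    intro i k
    rw [dS, map_mul, map_pow, map_pow, hιz]
    exact mul_mem (pow_mem hzD _) (pow_mem hwD _)
  let e : Fin 3 × Fin 3 → D := fun p => ⟨ι (dS p.1 p.2), hdD _ _⟩
  have he : Function.Bijective e := (Nat.bijective_iff_injective_and_card e).2
    ⟨fun p q h => dS_injective (hι (congrArg Subtype.val h)), by simp [hcard]⟩
  have hmemD : ∀ x : G, x ∈ D ↔ ∃ i k : Fin 3, x = ι (dS i k) := fun x =>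
    ⟨fun hx => by
      obtain ⟨p, hp⟩ := he.2 ⟨x, hx⟩
      exact ⟨p.1, p.2, (congrArg Subtype.val hp).symm⟩, fun ⟨i, k, h⟩ => h ▸ hdD i k⟩
  have hrange : ∀ x : G, x ∈ ι.range ↔ (x * ι zS * x⁻¹ = ι zS ∨ x * ι zS * x⁻¹ = (ι zS)⁻¹) :=
    fun x => by rw [hr, hιz, hN, mem_normalizer_line hz3 hz1]
  have hzw : ∀ {x : G}, x * z = z * x → x * ι wS = ι wS * x → ∃ u, x = ι (cS u) := by
    intro x h1 h2
    obtain ⟨k, rfl⟩ := (hr x).2 (hcz x h1)
    rw [← hιz, ← map_mul, ← map_mul] at h1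
    rw [← map_mul, ← map_mul] at h2
    obtain ⟨a, ha⟩ := commute_z_fst k.1 (congrArg Prod.fst (hι h1))
    obtain ⟨c, q, hcq⟩ := centralizer_c5 k.2 (congrArg Prod.snd (hι h2))
    refine ⟨(a, c, q), congrArg ι (Prod.ext ?_ ?_)⟩
    · simp [cS, dS, zS, wS, iS, ha]
    · simp [cS, dS, zS, wS, iS, hcq]
  -- the part of `N(D)` in the normaliser of the line
  set ND := Subgroup.normalizer (D : Set G) with hNDdef
  have hND : Nat.card ND = 144 := by
    rw [Subgroup.card_eq_card_quotient_mul_card_subgroup (D.subgroupOf ND), Nat.card_congr eN.toEquiv,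
      Nat.card_congr (Subgroup.subgroupOfEquivOfLe Subgroup.le_normalizer).toEquiv, hcard, Nat.card_prod,
      DihedralGroup.nat_card]
    simp
  have hw3 : ι wS ^ 3 = 1 := by rw [← map_pow, v2, map_one]
  have hw1 : ι wS ≠ 1 := fun h => v4 (hι (h.trans (map_one ι).symm))
  have hwD : ι wS ∈ D := v20 ▸ hdD 0 1
  have hHiff : ∀ k : SF, ι k ∈ ND ↔ ∃ x, k = nS x := by
    intro k
    constructor
    · intro h
      have hzline := (hrange (ι k)).1 ⟨k, rfl⟩
      obtain ⟨a', c', hac⟩ := (hmemD _).1 ((Subgroup.mem_normalizer_iff.1 h _).1 hwD)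
      rw [← map_inv, ← map_mul, ← map_mul] at hac
      have hsnd : k.2 * c[2, 3, 4] * k.2⁻¹ = (c[2, 3, 4] : Perm (Fin 5)) ^ (c' : ℕ) := by
        simpa [dS, zS, wS] using congrArg Prod.snd (hι hac)
      obtain ⟨cc, q, e', hb⟩ := normalizer_c5 k.2 (by
        have hc0 : c' = 0 ∨ c' = 1 ∨ c' = 2 :=
          (by decide : ∀ n : Fin 3, n = 0 ∨ n = 1 ∨ n = 2) c'
        rcases hc0 with rfl | rfl | rfl
        · exfalso
          simp only [Fin.val_zero, pow_zero, conj_eq_one_iff] at hsnd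
          revert hsnd
          decide +kernel
        · exact Or.inl (by simpa using hsnd)
        · exact Or.inr (hsnd.trans (by decide +kernel)))
      obtain ⟨aa, p, hap⟩ : ∃ (aa : Fin 3) (p : Fin 2), k.1 = c[0, 1, 2] ^ (aa : ℕ) * c[0, 1] ^ (p : ℕ) := by
        have : ∀ a : Perm (Fin 3), ∃ (aa : Fin 3) (p : Fin 2),
            a = c[0, 1, 2] ^ (aa : ℕ) * c[0, 1] ^ (p : ℕ) := by decide +kernel
        exact this _
      refine ⟨(aa, cc, p, q, e'), Prod.ext ?_ ?_⟩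
      · simp [nS, dS, zS, wS, sS, bO, iS, hap]
      · simp [nS, dS, zS, wS, sS, bO, iS, hb]
    · rintro ⟨x, rfl⟩
      refine mem_normalizer_of_conj_mem fun d hd => ?_
      obtain ⟨i, j, rfl⟩ := (hmemD d).1 hd
      obtain ⟨i', j', hij⟩ := nS_conj x i j
      rw [← map_inv, ← map_mul, ← map_mul, hij]
      exact hdD i' j'
  set H := (ι.range).subgroupOf ND with hH
  have hHcard : Nat.card H = 72 := by
    let f : Fin 3 × Fin 3 × Fin 2 × Fin 2 × Fin 2 → H := fun x =>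
      ⟨⟨ι (nS x), (hHiff _).2 ⟨x, rfl⟩⟩, Subgroup.mem_subgroupOf.2 ⟨_, rfl⟩⟩
    have hf : Function.Bijective f := by
      refine ⟨fun a b h => nS_injective (hι (congrArg (fun u : H => (u.1.1 : G)) h)), fun u => ?_⟩
      obtain ⟨k, hk⟩ := Subgroup.mem_subgroupOf.1 u.2
      obtain ⟨x, rfl⟩ := (hHiff k).1 (by rw [hk]; exact u.1.2)
      exact ⟨x, Subtype.ext (Subtype.ext hk)⟩
    rw [← Nat.card_eq_of_bijective f hf]
    simp
  have hHi : H.index = 2 := by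
    have h := Subgroup.card_mul_index H
    rw [hHcard, hND] at h
    omega
  obtain ⟨h0, hh0⟩ : ∃ h0 : ND, h0 ∉ H := by
    by_contra hall
    push Not at hall
    have : H = ⊤ := eq_top_iff.2 fun x _ => hall x
    rw [this, Subgroup.index_top] at hHi
    omega
  have hnz : ¬ (h0.1 * z * (h0.1)⁻¹ = z ∨ h0.1 * z * (h0.1)⁻¹ = z⁻¹) := fun h =>
    hh0 (Subgroup.mem_subgroupOf.2 ((hrange _).2 (by rwa [hιz])))
  have hsN : ι sS ∈ ND := (hHiff _).2 ⟨(0, 0, 1, 0, 0), by decide +kernel⟩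
  haveI hHn : H.Normal := Subgroup.normal_of_index_eq_two hHi
  have hh0z : h0.1 * z * (h0.1)⁻¹ = ι wS ∨ h0.1 * z * (h0.1)⁻¹ = (ι wS)⁻¹ := by
    obtain ⟨i1, k1, hik⟩ := (hmemD _).1 ((Subgroup.mem_normalizer_iff.1 h0.2 _).1 hzD)
    rcases line_split i1 k1 with ⟨hi1, hk1⟩ | h | h | h | h | h
    · exfalso
      have hr' := (hrange _).1 (Subgroup.mem_subgroupOf.1
        (hHn.conj_mem _ (Subgroup.mem_subgroupOf.2 (show ((⟨ι sS, hsN⟩ : ND) : G) ∈ ι.range from ⟨sS, rfl⟩)) h0⁻¹))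
      rw [hιz] at hr'
      simp only [Subgroup.coe_mul, Subgroup.coe_inv, inv_inv] at hr'
      have e : ι (sS * dS i1 k1 * sS⁻¹) =
          h0.1 * ((h0.1)⁻¹ * ι sS * h0.1 * z * ((h0.1)⁻¹ * ι sS * h0.1)⁻¹) * (h0.1)⁻¹ := by
        rw [map_mul, map_mul, map_inv, ← hik]
        group
      rcases hr' with h' | h' <;> rw [h'] at e
      · exact (line_moved i1 k1 hi1 hk1).1 (hι (e.trans hik))
      · refine (line_moved i1 k1 hi1 hk1).2 (hι (e.trans ?_))
        rw [map_inv, ← hik]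
        group
    all_goals rw [h] at hik
    · rw [map_one] at hik; exact absurd (conj_eq_one_iff.1 hik) hz1
    · rw [hιz] at hik; exact absurd (Or.inl hik) hnz
    · rw [map_inv, hιz] at hik; exact absurd (Or.inr hik) hnz
    · exact Or.inl hik
    · rw [map_inv] at hik; exact Or.inr hik
  have hh0w : h0.1 * ι wS * (h0.1)⁻¹ = z ∨ h0.1 * ι wS * (h0.1)⁻¹ = z⁻¹ := by
    have h2 : h0 * h0 ∈ H := Subgroup.mul_self_mem_of_index_two hHi h0
    have h2' := (hrange _).1 (Subgroup.mem_subgroupOf.1 h2)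
    rw [hιz, Subgroup.coe_mul] at h2'
    have e : h0.1 * (h0.1 * z * (h0.1)⁻¹) * (h0.1)⁻¹ = h0.1 * h0.1 * z * (h0.1 * h0.1)⁻¹ := by group
    rcases hh0z with h | h <;> rw [h] at e
    · rw [← e] at h2'; exact h2'
    · rw [← e, ← conj_inv] at h2'
      rcases h2' with h2' | h2'
      · exact Or.inr (inv_eq_iff_eq_inv.1 h2')
      · exact Or.inl (inv_injective h2')
  have cconj : ∀ {p q r : SF}, p * q * p⁻¹ = r → ι p * ι q * (ι p)⁻¹ = ι r := fun h => by
    rw [← map_inv, ← map_mul, ← map_mul, h]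
  have hsz : ι sS * z * (ι sS)⁻¹ = z⁻¹ := by rw [← hιz, cconj v9, map_inv]
  have hsw : ι sS * ι wS * (ι sS)⁻¹ = ι wS := cconj v10
  have hbz : ι bO * z * (ι bO)⁻¹ = z := by rw [← hιz, cconj v11]
  have hbw : ι bO * ι wS * (ι bO)⁻¹ = (ι wS)⁻¹ := by rw [cconj v12, map_inv]
  obtain ⟨g1, hg1N, hg1z, hg1w⟩ : ∃ g1 ∈ ND, g1 * z * g1⁻¹ = ι wS ∧ g1 * ι wS * g1⁻¹ = z := by
    have hbN : ι bO ∈ ND := (hHiff _).2 ⟨(0, 0, 0, 1, 0), by decide +kernel⟩
    obtain ⟨g2, hg2N, hg2z, hg2w⟩ : ∃ g2 ∈ ND, g2 * z * g2⁻¹ = ι wS ∧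
        (g2 * ι wS * g2⁻¹ = z ∨ g2 * ι wS * g2⁻¹ = z⁻¹) := by
      rcases hh0z with h | h
      · exact ⟨h0.1, h0.2, h, hh0w⟩
      · refine ⟨ι bO * h0.1, mul_mem hbN h0.2, ?_, ?_⟩
        · calc ι bO * h0.1 * z * (ι bO * h0.1)⁻¹ = ι bO * (h0.1 * z * (h0.1)⁻¹) * (ι bO)⁻¹ := by group
            _ = ι wS := by rw [h, ← conj_inv, hbw, inv_inv]
        · have e : ι bO * h0.1 * ι wS * (ι bO * h0.1)⁻¹ =
              ι bO * (h0.1 * ι wS * (h0.1)⁻¹) * (ι bO)⁻¹ := by group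
          rw [e]
          rcases hh0w with h' | h' <;> rw [h']
          · exact Or.inl hbz
          · rw [← conj_inv, hbz]; exact Or.inr rfl
    rcases hg2w with h | h
    · exact ⟨g2, hg2N, hg2z, h⟩
    · refine ⟨ι sS * g2, mul_mem hsN hg2N, ?_, ?_⟩
      · calc ι sS * g2 * z * (ι sS * g2)⁻¹ = ι sS * (g2 * z * g2⁻¹) * (ι sS)⁻¹ := by group
          _ = ι wS := by rw [hg2z, hsw]
      · calc ι sS * g2 * ι wS * (ι sS * g2)⁻¹ = ι sS * (g2 * ι wS * g2⁻¹) * (ι sS)⁻¹ := by group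
          _ = z := by rw [h, ← conj_inv, hsz, inv_inv]
  have conjMul : ∀ (a x y : G), x * y = y * x →
      a * x * a⁻¹ * (a * y * a⁻¹) = a * y * a⁻¹ * (a * x * a⁻¹) := fun a x y h => by
    calc a * x * a⁻¹ * (a * y * a⁻¹) = a * (x * y) * a⁻¹ := by group
      _ = a * (y * x) * a⁻¹ := by rw [h]
      _ = _ := by group
  have hiz : ι iS * z = z * ι iS := by rw [← hιz, ← map_mul, ← map_mul, v18]
  have hiw : ι iS * ι wS = ι wS * ι iS := by rw [← map_mul, ← map_mul, v19]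
  have hfixi : ∀ a : G, a * z * a⁻¹ = ι wS → a * ι wS * a⁻¹ = z → a * ι iS * a⁻¹ = ι iS := by
    intro a ha1 ha2
    obtain ⟨u, hu⟩ := hzw (x := a * ι iS * a⁻¹) (by rw [← ha2]; exact conjMul _ _ _ hiw)
      (by rw [← ha1]; exact conjMul _ _ _ hiz)
    rw [hu]
    congr 1
    refine invol_cS u (hι ?_) fun h => ?_
    · rw [map_mul, ← hu, show a * ι iS * a⁻¹ * (a * ι iS * a⁻¹) = a * (ι iS * ι iS) * a⁻¹ by group,
        ← map_mul, v7, map_one]
      group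
    · rw [h, map_one, conj_eq_one_iff] at hu
      exact (by decide +kernel : iS ≠ 1) (hι (hu.trans (map_one ι).symm))
  -- the image of `s`
  have hsi : ι sS * ι iS = ι iS * ι sS := by rw [← map_mul, ← map_mul, v13]
  obtain ⟨k, hk⟩ : g1 * ι sS * g1⁻¹ ∈ ι.range := by
    refine (hrange _).2 (Or.inl ?_)
    rw [hιz]
    have e1 : g1⁻¹ * z * g1 = ι wS := by rw [← hg1w]; group
    calc g1 * ι sS * g1⁻¹ * z * (g1 * ι sS * g1⁻¹)⁻¹
        = g1 * (ι sS * (g1⁻¹ * z * g1) * (ι sS)⁻¹) * g1⁻¹ := by group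
      _ = z := by rw [e1, hsw, hg1w]
  obtain ⟨a0, ha0⟩ : ∃ a : Fin 3, k.1 = c[0, 1, 2] ^ (a : ℕ) := commute_z_fst k.1 (by
    refine congrArg Prod.fst (hι (show ι (k * zS) = ι (zS * k) from ?_))
    rw [map_mul, map_mul, hιz, hk, ← hg1w]
    exact conjMul _ _ _ (by rw [← mul_inv_eq_iff_eq_mul]; exact hsw))
  have hkk : k * k = 1 := hι (by
    rw [map_mul, hk, show g1 * ι sS * g1⁻¹ * (g1 * ι sS * g1⁻¹) = g1 * (ι sS * ι sS) * g1⁻¹ by group,
      ← map_mul, v8, map_one ι]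
    group)
  have hk1 : k.1 = 1 := by
    have h1 : k.1 * k.1 = 1 := congrArg Prod.fst hkk
    rw [ha0] at h1 ⊢
    exact (by decide +kernel : ∀ n : Fin 3, (c[0, 1, 2] : Perm (Fin 3)) ^ (n : ℕ) * c[0, 1, 2] ^ (n : ℕ) = 1 →
      (c[0, 1, 2] : Perm (Fin 3)) ^ (n : ℕ) = 1) a0 h1
  obtain ⟨m, hm⟩ := s_image_spec k.2 (congrArg Prod.snd hkk) (by
      refine congrArg Prod.snd (hι (show ι (k * wS * k⁻¹) = ι wS⁻¹ from ?_))
      rw [map_mul, map_mul, map_inv, map_inv, hk, ← hg1z]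
      calc g1 * ι sS * g1⁻¹ * (g1 * z * g1⁻¹) * (g1 * ι sS * g1⁻¹)⁻¹
          = g1 * (ι sS * z * (ι sS)⁻¹) * g1⁻¹ := by group
        _ = (g1 * z * g1⁻¹)⁻¹ := by rw [hsz, conj_inv])
    (by
      refine congrArg Prod.snd (hι (show ι (k * iS) = ι (iS * k) from ?_))
      rw [map_mul, map_mul, hk]
      conv_lhs => rw [← hfixi g1 hg1z hg1w]
      conv_rhs => rw [← hfixi g1 hg1z hg1w]
      exact conjMul _ _ _ hsi)
  set g2 := (ι (wS ^ (m : ℕ)))⁻¹ * g1 with hg2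
  have hwmN : ι (wS ^ (m : ℕ)) ∈ ND := Subgroup.le_normalizer (by rw [map_pow]; exact pow_mem hwD _)
  have hg2N : g2 ∈ ND := mul_mem (inv_mem hwmN) hg1N
  have hwz : ι wS * z = z * ι wS := hcomm' _ hwD _ hzD
  have hg2z : g2 * z * g2⁻¹ = ι wS := by
    rw [hg2, show (ι (wS ^ (m : ℕ)))⁻¹ * g1 * z * ((ι (wS ^ (m : ℕ)))⁻¹ * g1)⁻¹ =
      (ι (wS ^ (m : ℕ)))⁻¹ * (g1 * z * g1⁻¹) * ι (wS ^ (m : ℕ)) by group, hg1z, map_pow]
    group
  have hg2w : g2 * ι wS * g2⁻¹ = z := by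
    rw [hg2, show (ι (wS ^ (m : ℕ)))⁻¹ * g1 * ι wS * ((ι (wS ^ (m : ℕ)))⁻¹ * g1)⁻¹ =
      (ι (wS ^ (m : ℕ)))⁻¹ * (g1 * ι wS * g1⁻¹) * ι (wS ^ (m : ℕ)) by group, hg1w, map_pow,
      mul_assoc, ← ((show Commute (ι wS) z from hwz).pow_left _).eq, inv_mul_cancel_left]
  have hg2s : g2 * ι sS * g2⁻¹ = ι bO ∨ g2 * ι sS * g2⁻¹ = ι bE := by
    rw [hg2, show (ι (wS ^ (m : ℕ)))⁻¹ * g1 * ι sS * ((ι (wS ^ (m : ℕ)))⁻¹ * g1)⁻¹ =
      (ι (wS ^ (m : ℕ)))⁻¹ * (g1 * ι sS * g1⁻¹) * ι (wS ^ (m : ℕ)) by group, ← hk, ← map_inv,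
      ← map_mul, ← map_mul]
    rcases hm with hm | hm
    · left; congr 1
      refine Prod.ext (by simp [wS, bO, hk1]) ?_
      simp [wS, bO, hm, mul_assoc]
    · right; congr 1
      refine Prod.ext (by simp [wS, bE, hk1]) ?_
      simp [wS, bE, hm, mul_assoc]
  obtain ⟨u, hu⟩ := hzw (x := g2 * g2)
    (mul_inv_eq_iff_eq_mul.1 (by
      rw [show g2 * g2 * z * (g2 * g2)⁻¹ = g2 * (g2 * z * g2⁻¹) * g2⁻¹ by group, hg2z, hg2w]))
    (mul_inv_eq_iff_eq_mul.1 (by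
      rw [show g2 * g2 * ι wS * (g2 * g2)⁻¹ = g2 * (g2 * ι wS * g2⁻¹) * g2⁻¹ by group, hg2w, hg2z]))
  obtain ⟨a, c, e'⟩ := u
  have hc : (g2 : G) * (g2 * g2) * g2⁻¹ = g2 * g2 := by group
  rw [hu] at hc
  have hac : a = c := by
    have e1 : g2 * ι (cS (a, c, e')) * g2⁻¹ = ι (cS (c, a, e')) := by
      have hd : ∀ x y : G, g2 * (x * y) * g2⁻¹ = g2 * x * g2⁻¹ * (g2 * y * g2⁻¹) := fun x y => by group
      rw [cS, cS, dS, dS, map_mul, map_mul, map_mul, map_mul, hd, hd, map_pow, map_pow, map_pow, map_pow,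
        map_pow, ← conj_pow, ← conj_pow, ← conj_pow, hιz, hg2z, hg2w, hfixi g2 hg2z hg2w]
      rw [((show Commute (ι wS) z from hwz).pow_pow _ _).eq]
    exact (by decide +kernel : ∀ (a c : Fin 3) (e : Fin 2), cS (c, a, e) = cS (a, c, e) → a = c)
      a c e' (hι (e1.symm.trans hc))
  subst hac
  set g := (z ^ (a : ℕ))⁻¹ * g2 with hg
  have hgN : g ∈ ND := mul_mem (inv_mem (Subgroup.le_normalizer (pow_mem hzD _))) hg2N
  have hgz : g * z * g⁻¹ = ι wS := by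
    rw [hg, show (z ^ (a : ℕ))⁻¹ * g2 * z * ((z ^ (a : ℕ))⁻¹ * g2)⁻¹ =
      (z ^ (a : ℕ))⁻¹ * (g2 * z * g2⁻¹) * z ^ (a : ℕ) by group, hg2z, mul_assoc,
      ((show Commute (ι wS) z from hwz).pow_right _).eq, inv_mul_cancel_left]
  have hgw : g * ι wS * g⁻¹ = z := by
    rw [hg, show (z ^ (a : ℕ))⁻¹ * g2 * ι wS * ((z ^ (a : ℕ))⁻¹ * g2)⁻¹ =
      (z ^ (a : ℕ))⁻¹ * (g2 * ι wS * g2⁻¹) * z ^ (a : ℕ) by group, hg2w]
    group
  have hgs : g * ι sS * g⁻¹ = ι bO ∨ g * ι sS * g⁻¹ = ι bE := by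
    rw [hg, show (z ^ (a : ℕ))⁻¹ * g2 * ι sS * ((z ^ (a : ℕ))⁻¹ * g2)⁻¹ =
      (z ^ (a : ℕ))⁻¹ * (g2 * ι sS * g2⁻¹) * z ^ (a : ℕ) by group]
    rcases hg2s with h | h
    · left
      rw [h, mul_assoc, ((show Commute (ι bO) z by
        rw [← hιz, commute_iff_eq, ← map_mul, ← map_mul, v14]).pow_right _).eq, inv_mul_cancel_left]
    · right
      rw [h, mul_assoc, ((show Commute (ι bE) z by
        rw [← hιz, commute_iff_eq, ← map_mul, ← map_mul, v15]).pow_right _).eq, inv_mul_cancel_left]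
  have hgi : g * ι iS * g⁻¹ = ι iS := hfixi g hgz hgw
  have hgg : g * g = 1 ∨ g * g = ι iS := by
    have hz' : g2 * (z ^ (a : ℕ))⁻¹ = (ι wS ^ (a : ℕ))⁻¹ * g2 := by
      rw [← hg2z, conj_pow]; group
    have : g * g = (z ^ (a : ℕ))⁻¹ * (ι wS ^ (a : ℕ))⁻¹ * ι (cS (a, a, e')) := by
      rw [← hu, hg]
      calc (z ^ (a : ℕ))⁻¹ * g2 * ((z ^ (a : ℕ))⁻¹ * g2) = (z ^ (a : ℕ))⁻¹ * (g2 * (z ^ (a : ℕ))⁻¹) * g2 := by group
        _ = _ := by rw [hz']; group
    rw [← hιz, ← map_pow, ← map_pow, ← map_inv, ← map_inv, ← map_mul, ← map_mul] at this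
    have hcases : ∀ (a : Fin 3) (e : Fin 2),
        (zS ^ (a : ℕ))⁻¹ * (wS ^ (a : ℕ))⁻¹ * cS (a, a, e) = 1 ∨
          (zS ^ (a : ℕ))⁻¹ * (wS ^ (a : ℕ))⁻¹ * cS (a, a, e) = iS := by decide +kernel
    rcases hcases a e' with h | h <;> rw [this, h]
    · exact Or.inl (map_one ι)
    · exact Or.inr rfl
  have hgsq : g * g = 1 := by
    rcases hgg with h | h
    · exact h
    exfalso
    let q : ND →* DihedralGroup 4 × Multiplicative (ZMod 2) :=
      eN.toMonoidHom.comp (QuotientGroup.mk' (D.subgroupOf ND))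
    have hq1 : ∀ x : ND, q x = 1 → x.1 ∈ D := fun x hx => by
      have : QuotientGroup.mk (s := D.subgroupOf ND) x = 1 := eN.injective (hx.trans (map_one eN).symm)
      exact Subgroup.mem_subgroupOf.1 ((QuotientGroup.eq_one_iff x).1 this)
    set gg : ND := ⟨g, hgN⟩
    set sg : ND := ⟨ι sS * g, mul_mem hsN hgN⟩
    have hsg : ∀ b : SF, g * ι sS * g⁻¹ = ι b → (sg * sg).1 = ι (sS * b * iS) := by
      intro b hb
      show ι sS * g * (ι sS * g) = _
      rw [map_mul, map_mul, ← hb, ← h]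
      group
    have hnotD : ∀ k : SF, (∀ a c, dS a c ≠ k) → ι k ∉ D := fun k hk h => by
      obtain ⟨a, c, hac⟩ := (hmemD _).1 h
      exact hk a c (hι hac).symm
    rcases dihedral_squares (q gg) (q sg) with e1 | e1 | e1
    · have := hq1 (gg * gg) (by rw [map_mul, e1])
      exact hnotD iS (fun a c => (not_in_D a c).1) (by rw [← h]; exact this)
    · have := hq1 (sg * sg) (by rw [map_mul, e1])
      rcases hgs with hb | hb <;> rw [hsg _ hb] at this
      · exact hnotD _ (fun a c => (not_in_D a c).2.2.2.1) this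
      · exact hnotD _ (fun a c => (not_in_D a c).2.2.2.2.1) this
    · have := hq1 (gg * gg * (sg * sg)⁻¹) (by rw [map_mul, map_inv, map_mul, map_mul, e1, mul_inv_cancel])
      rw [Subgroup.coe_mul, Subgroup.coe_inv, show (gg * gg).1 = ι iS from h] at this
      rcases hgs with hb | hb <;> rw [hsg _ hb, ← map_inv, ← map_mul] at this
      · exact hnotD _ (fun a c => (not_in_D a c).2.2.2.2.2.1) this
      · exact hnotD _ (fun a c => (not_in_D a c).2.2.2.2.2.2) this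
  refine ⟨⟨D, P, hDP, hcard, ι, hι, hrange, hmemD, g, hgsq, by rw [hιz]; exact hgz, hgi, hgs,
    by rw [hιz]; exact hzcard, ?_, hND, ?_⟩, rfl⟩
  · -- the mixed lines
    have hi00 : i0 ≠ 0 := by
      intro h
      have h360 : Nat.card (Subgroup.centralizer ({ι wS} : Set G)) = 360 := by
        rw [← hgz, card_centralizer_conj, hzcard]
      rw [hy, h, v20, h360] at hycard
      omega
    intro i k hi hk
    obtain ⟨p, q, hpq⟩ := mixed_conj i0 1 i k hi00 (by decide) hi hk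
    set u := sS ^ (p : ℕ) * bO ^ (q : ℕ) with hu
    have he2 : ι (dS i k) = ι u * y * (ι u)⁻¹ := by
      rw [← hpq, map_mul, map_mul, map_inv, hy]
    refine ⟨by rw [he2, card_centralizer_conj, hycard], fun c hc => ?_⟩
    have huN : ι u ∈ ND := (hHiff u).2 ⟨(0, 0, p, q, 0), by
      rw [hu, nS, v22]; simp⟩
    have hc' : (ι u)⁻¹ * c * ι u ∈ Subgroup.centralizer ({y} : Set G) := by
      rw [Subgroup.mem_centralizer_singleton_iff] at hc ⊢
      rw [he2] at hc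
      calc (ι u)⁻¹ * c * ι u * y = (ι u)⁻¹ * (c * (ι u * y * (ι u)⁻¹)) * ι u := by group
        _ = (ι u)⁻¹ * (ι u * y * (ι u)⁻¹ * c) * ι u := by rw [hc]
        _ = _ := by group
    have hDle : D ≤ Subgroup.centralizer ({y} : Set G) := fun d hd =>
      Subgroup.mem_centralizer_singleton_iff.2 (hcomm' d hd y hyD)
    have hcN : (ι u)⁻¹ * c * ι u ∈ ND := by
      refine mem_normalizer_of_conj_mem fun d hd => ?_
      have h := hyn.conj_mem ⟨d, hDle hd⟩ (Subgroup.mem_subgroupOf.2 hd) ⟨_, hc'⟩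
      simpa [Subgroup.mem_subgroupOf] using h
    have := mul_mem (mul_mem huN hcN) (inv_mem huN)
    rwa [show ι u * ((ι u)⁻¹ * c * ι u) * (ι u)⁻¹ = c by group] at this
  · intro n hn
    have hgH : (⟨g, hgN⟩ : ND) ∉ H := by
      intro h
      have h' := (hrange _).1 (Subgroup.mem_subgroupOf.1 h)
      rw [hιz, hgz] at h'
      rcases h' with h' | h'
      · exact v5 (hι (hιz.trans h'.symm))
      · exact v6 (hι (by rw [map_inv, h', inv_inv, hιz]))
    by_cases hnH : (⟨n, hn⟩ : ND) ∈ H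
    · obtain ⟨k, hk⟩ := Subgroup.mem_subgroupOf.1 hnH
      obtain ⟨x, rfl⟩ := (hHiff k).1 (by rw [hk]; exact hn)
      exact ⟨x, Or.inl hk.symm⟩
    · have hng : (⟨n, hn⟩ : ND) * ⟨g, hgN⟩ ∈ H :=
        (Subgroup.mul_mem_iff_of_index_two hHi).2 (iff_of_false hnH hgH)
      obtain ⟨k, hk⟩ := Subgroup.mem_subgroupOf.1 hng
      obtain ⟨x, rfl⟩ := (hHiff k).1 (by rw [hk]; exact mul_mem hn hgN)
      refine ⟨x, Or.inr ?_⟩
      rw [hk, Subgroup.coe_mul, mul_assoc, hgsq, mul_one]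

end Cfsg.Agent.SymEightLocal
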