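import Mathlib
import Cfsg.Agent.Lib.EightLocal.Basic
import Cfsg.Agent.Lib.SymEightLocal.Setup

/-!
# First consequences of the configuration
-/

set_option autoImplicit false

namespace Cfsg.Agent.SymEightLocal

open Equiv EightLocal

universe u

theorem c5_normalized : ∀ b : Perm (Fin 5), b * c[0, 1] = c[0, 1] * b →
    (b * c[2, 3, 4] * b⁻¹ = c[2, 3, 4] ∨ b * c[2, 3, 4] * b⁻¹ = (c[2, 3, 4])⁻¹) := by decide +kernel

theorem cS_of_commute : ∀ k : Perm (Fin 3), ∀ b : Perm (Fin 5), k * c[0, 1, 2] = c[0, 1, 2] * k →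
    b * c[2, 3, 4] = c[2, 3, 4] * b → ∃ x, ((k, b) : SF) = cS x := by
  intro k b hk hb
  obtain ⟨a, ha⟩ := commute_z_fst k hk
  obtain ⟨c, q, hcq⟩ := centralizer_c5 b hb
  refine ⟨(a, c, q), Prod.ext ?_ ?_⟩
  · simp [cS, dS, zS, wS, iS, ha]
  · simp [cS, dS, zS, wS, iS, hcq]

namespace Data

variable {G : Type u} [Group G] [Finite G] (d : Data G)

/-- the distinguished element `z` -/
abbrev z : G := d.ι zS

/-- the conjugate `w` of `z` -/
abbrev w : G := d.ι wS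

/-- the involution centralising `D` -/
abbrev i : G := d.ι iS

/-- the involution inverting `z` and centralising `C(z)'` -/
abbrev s : G := d.ι sS

/-- the normaliser of the line of `w` -/
def κ : SF →* G := (MulAut.conj d.g).toMonoidHom.comp d.ι

theorem κ_apply (k : SF) : d.κ k = d.g * d.ι k * d.g⁻¹ := rfl

theorem g_inv : d.g⁻¹ = d.g := inv_eq_of_mul_eq_one_right d.g_sq

theorem conj_g (k : SF) : d.g * d.κ k * d.g⁻¹ = d.ι k := by
  rw [κ_apply]
  calc d.g * (d.g * d.ι k * d.g⁻¹) * d.g⁻¹ = d.g * d.g * d.ι k * (d.g * d.g)⁻¹ := by group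
    _ = d.ι k := by rw [d.g_sq]; group

theorem κ_zS : d.κ zS = d.w := d.g_z
theorem κ_iS : d.κ iS = d.i := d.g_i

theorem κ_wS : d.κ wS = d.z := by
  have h := d.conj_g zS
  rw [κ_zS] at h
  exact h

theorem κ_injective : Function.Injective d.κ := (MulAut.conj d.g).injective.comp d.inj

theorem z_cube : d.z ^ 3 = 1 := by rw [z, ← map_pow, values.1, map_one]
theorem w_cube : d.w ^ 3 = 1 := by rw [w, ← map_pow, values.2.1, map_one]
theorem z_ne_one : d.z ≠ 1 := fun h => values.2.2.1 (d.inj (h.trans (map_one _).symm))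
theorem w_ne_one : d.w ≠ 1 := fun h => values.2.2.2.1 (d.inj (h.trans (map_one _).symm))

theorem orderOf_z : orderOf d.z = 3 := by
  haveI : Fact (Nat.Prime 3) := ⟨Nat.prime_three⟩
  exact orderOf_eq_prime d.z_cube d.z_ne_one

theorem orderOf_w : orderOf d.w = 3 := by
  haveI : Fact (Nat.Prime 3) := ⟨Nat.prime_three⟩
  exact orderOf_eq_prime d.w_cube d.w_ne_one

theorem i_sq : d.i * d.i = 1 := by rw [i, ← map_mul, values.2.2.2.2.2.2.1, map_one]
theorem i_ne_one : d.i ≠ 1 := fun h => (by decide +kernel : iS ≠ 1) (d.inj (h.trans (map_one _).symm))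

theorem orderOf_i : orderOf d.i = 2 := by
  haveI : Fact (Nat.Prime 2) := ⟨Nat.prime_two⟩
  exact orderOf_eq_prime (by rw [sq, i_sq]) d.i_ne_one

theorem commute_g_i : Commute d.g d.i := mul_inv_eq_iff_eq_mul.1 d.g_i

theorem z_mem : d.z ∈ d.D := (d.mem_D _).2 ⟨1, 0, by simp [dS]⟩
theorem w_mem : d.w ∈ d.D := (d.mem_D _).2 ⟨0, 1, by simp [dS]⟩

theorem card_C_w : Nat.card (Subgroup.centralizer ({d.w} : Set G)) = 360 := by
  rw [w, ← d.g_z, card_centralizer_conj, d.card_C_z]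

theorem κ_range_iff (x : G) :
    x ∈ d.κ.range ↔ (x * d.w * x⁻¹ = d.w ∨ x * d.w * x⁻¹ = d.w⁻¹) := by
  have h1 : x ∈ d.κ.range ↔ d.g⁻¹ * x * d.g ∈ d.ι.range := by
    constructor
    · rintro ⟨k, rfl⟩
      exact ⟨k, by rw [κ_apply]; group⟩
    · rintro ⟨k, hk⟩
      exact ⟨k, by rw [κ_apply, hk]; group⟩
  rw [h1, d.range_iff]
  have e : d.g⁻¹ * x * d.g * d.z * (d.g⁻¹ * x * d.g)⁻¹ = d.g⁻¹ * (x * d.w * x⁻¹) * d.g := by
    rw [w, ← d.g_z]; group
  have hz' : d.z = d.g⁻¹ * d.w * d.g := by rw [w, ← d.g_z]; group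
  constructor
  · rintro (h | h) <;> rw [e] at h
    · exact Or.inl (mul_left_cancel (mul_right_cancel (h.trans hz')))
    · replace h := h.trans (congrArg (·⁻¹) hz')
      refine Or.inr (mul_left_cancel (a := d.g⁻¹) (mul_right_cancel (b := d.g) (h.trans ?_)))
      group
  · rintro (h | h) <;> rw [e, h]
    · exact Or.inl hz'.symm
    · right
      show _ = d.z⁻¹
      rw [hz']; group

theorem exists_ι_of_commute {x : G} (h : x * d.z = d.z * x) :
    ∃ k : SF, d.ι k = x ∧ k * zS = zS * k := by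
  obtain ⟨k, hk⟩ := (d.range_iff x).2 (Or.inl (by rw [h]; group))
  exact ⟨k, hk, d.inj (by rw [map_mul, map_mul, hk]; exact h)⟩

theorem exists_κ_of_commute {x : G} (h : x * d.w = d.w * x) :
    ∃ k : SF, d.κ k = x ∧ k * zS = zS * k := by
  obtain ⟨k, hk⟩ := (d.κ_range_iff x).2 (Or.inl (by rw [h]; group))
  exact ⟨k, hk, d.κ_injective (by rw [map_mul, map_mul, hk, κ_zS]; exact h)⟩

theorem D_comm {a b : G} (ha : a ∈ d.D) (hb : b ∈ d.D) : a * b = b * a := by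
  obtain ⟨p, q, rfl⟩ := (d.mem_D a).1 ha
  obtain ⟨p', q', rfl⟩ := (d.mem_D b).1 hb
  have h : ∀ p q p' q' : Fin 3, dS p q * dS p' q' = dS p' q' * dS p q := by decide +kernel
  rw [← map_mul, ← map_mul, h]

theorem D_cases {a : G} (ha : a ∈ d.D) : (∃ p q : Fin 3, p ≠ 0 ∧ q ≠ 0 ∧ a = d.ι (dS p q)) ∨
    a = 1 ∨ a = d.z ∨ a = d.z⁻¹ ∨ a = d.w ∨ a = d.w⁻¹ := by
  obtain ⟨p, q, rfl⟩ := (d.mem_D a).1 ha
  rcases line_split p q with h | h | h | h | h | h
  · exact Or.inl ⟨p, q, h.1, h.2, rfl⟩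
  all_goals rw [h]
  · simp
  · simp
  · simp
  · simp
  · simp

theorem D_cube {a : G} (ha : a ∈ d.D) : a ^ 3 = 1 := by
  obtain ⟨p, q, rfl⟩ := (d.mem_D a).1 ha
  have h : ∀ p q : Fin 3, dS p q ^ 3 = 1 := by decide +kernel
  rw [← map_pow, h, map_one]

theorem i_commute_D {a : G} (ha : a ∈ d.D) : d.i * a = a * d.i := by
  obtain ⟨p, q, rfl⟩ := (d.mem_D a).1 ha
  have h : ∀ p q : Fin 3, iS * dS p q = dS p q * iS := by decide +kernel
  rw [i, ← map_mul, ← map_mul, h]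

theorem centralizer_D {x : G} (h1 : x * d.z = d.z * x) (h2 : x * d.w = d.w * x) :
    ∃ u, x = d.ι (cS u) := by
  obtain ⟨k, rfl, hk⟩ := d.exists_ι_of_commute h1
  rw [w, ← map_mul, ← map_mul] at h2
  obtain ⟨u, hu⟩ := cS_of_commute k.1 k.2 (congrArg Prod.fst hk) (congrArg Prod.snd (d.inj h2))
  exact ⟨u, congrArg d.ι hu⟩

theorem eq_i_of_centralizes {x : G} (hxx : x * x = 1) (hx1 : x ≠ 1)
    (h : ∀ a ∈ d.D, x * a = a * x) : x = d.i := by
  obtain ⟨u, rfl⟩ := d.centralizer_D (h _ d.z_mem) (h _ d.w_mem)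
  rw [i]
  congr 1
  refine invol_cS u (d.inj ?_) fun e => hx1 (by rw [e, map_one])
  rw [map_mul, hxx, map_one]

theorem line_of_card {a : G} (ha : a ∈ d.D) (ha1 : a ≠ 1)
    (hc : Nat.card (Subgroup.centralizer ({a} : Set G)) = 360) :
    a = d.z ∨ a = d.z⁻¹ ∨ a = d.w ∨ a = d.w⁻¹ := by
  rcases d.D_cases ha with ⟨p, q, hp, hq, rfl⟩ | h | h
  · rw [(d.mixed p q hp hq).1] at hc; omega
  · exact absurd h ha1
  · exact h

theorem ι_mem_normalizer (x : Fin 3 × Fin 3 × Fin 2 × Fin 2 × Fin 2) :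
    d.ι (nS x) ∈ Subgroup.normalizer (d.D : Set G) := by
  refine mem_normalizer_of_conj_mem fun a ha => ?_
  obtain ⟨p, q, rfl⟩ := (d.mem_D a).1 ha
  obtain ⟨p', q', h⟩ := nS_conj x p q
  exact (d.mem_D _).2 ⟨p', q', by rw [← h, map_mul, map_mul, map_inv]⟩

theorem g_mem_normalizer : d.g ∈ Subgroup.normalizer (d.D : Set G) := by
  refine mem_normalizer_of_conj_mem fun a ha => ?_
  obtain ⟨p, q, rfl⟩ := (d.mem_D a).1 ha
  refine (d.mem_D _).2 ⟨q, p, ?_⟩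
  have h : ∀ p q : Fin 3, dS q p = wS ^ (p : ℕ) * zS ^ (q : ℕ) := by decide +kernel
  rw [h, ← κ_apply, dS, map_mul, map_mul, map_pow, map_pow, κ_zS, κ_wS, map_pow, map_pow]

/-- Conjugacy with `i`. -/
def IsI (x : G) : Prop := ∃ h : G, h * d.i * h⁻¹ = x

theorem isI_i : d.IsI d.i := ⟨1, by simp⟩

theorem isI_conj {x : G} (h : d.IsI x) (g : G) : d.IsI (g * x * g⁻¹) := by
  obtain ⟨h, rfl⟩ := h
  exact ⟨g * h, by group⟩

theorem not_nine_of_not_isI {t : G} (ht : t * t = 1) (ht1 : t ≠ 1) (hI : ¬ d.IsI t) (X : Subgroup G)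
    (hX : ∀ x ∈ X, Commute x t) : ¬ 9 ∣ Nat.card X := by
  haveI : Fact (Nat.Prime 3) := ⟨Nat.prime_three⟩
  intro h9
  obtain ⟨Q, hQ⟩ := Sylow.exists_subgroup_card_pow_prime 3 (n := 2) (show 3 ^ 2 ∣ Nat.card X by simpa using h9)
  have hQ' : Nat.card (Q.map X.subtype) = 3 ^ 2 := by
    rw [Subgroup.card_map_of_injective X.subtype_injective, hQ]
  obtain ⟨R, hR⟩ := (IsPGroup.of_card hQ').exists_le_sylow
  obtain ⟨h, hh⟩ := MulAction.exists_smul_eq G d.P R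
  have hRc : Nat.card (R : Subgroup G) = 9 := by
    rw [Sylow.card_eq_multiplicity, ← Sylow.card_eq_multiplicity d.P, ← d.hDP, d.hcard]
  have hRQ : Q.map X.subtype = (R : Subgroup G) :=
    Subgroup.eq_of_le_of_card_ge hR (by rw [hRc, hQ']; norm_num)
  have hkey : h⁻¹ * t * h = d.i := by
    refine d.eq_i_of_centralizes ?_ ?_ ?_
    · calc h⁻¹ * t * h * (h⁻¹ * t * h) = h⁻¹ * (t * t) * h := by group
        _ = 1 := by rw [ht]; group
    · intro e
      apply ht1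
      calc t = h * (h⁻¹ * t * h) * h⁻¹ := by group
        _ = 1 := by rw [e]; group
    · intro a ha
      have hm : h * a * h⁻¹ ∈ Q.map X.subtype := by
        rw [hRQ, ← hh, Sylow.coe_subgroup_smul]
        exact ⟨a, d.hDP ▸ ha, rfl⟩
      obtain ⟨q, -, hq⟩ := hm
      have hc : h * a * h⁻¹ * t = t * (h * a * h⁻¹) := hq ▸ hX _ q.2
      calc h⁻¹ * t * h * a = h⁻¹ * (t * (h * a * h⁻¹)) * h := by group
        _ = h⁻¹ * (h * a * h⁻¹ * t) * h := by rw [hc]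
        _ = _ := by group
  exact hI ⟨h, by rw [← hkey]; group⟩

/-- Elements of `C(w)` with even second component are not conjugate to `i`. -/
theorem not_isI_κ {k : SF} (hk : k * zS = zS * k) (hs : Perm.sign k.2 = 1) : ¬ d.IsI (d.κ k) := by
  haveI : Fact (Nat.Prime 3) := ⟨Nat.prime_three⟩
  rintro ⟨h, hh⟩
  set Ci := Subgroup.centralizer ({d.i} : Set G) with hCi
  have hmem : ∀ {x}, x ∈ Ci ↔ x * d.i = d.i * x := Subgroup.mem_centralizer_singleton_iff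
  have hPle : (d.P : Subgroup G) ≤ Ci := by
    rw [← d.hDP]
    exact fun a ha => hmem.2 (d.i_commute_D ha).symm
  have hcw : d.w * d.κ k = d.κ k * d.w := by rw [← κ_zS, ← map_mul, ← map_mul, hk]
  have ha : h⁻¹ * d.w * h ∈ Ci := by
    refine hmem.2 ?_
    have e : d.i = h⁻¹ * d.κ k * h := by rw [← hh]; group
    rw [e]
    calc h⁻¹ * d.w * h * (h⁻¹ * d.κ k * h) = h⁻¹ * (d.w * d.κ k) * h := by group
      _ = h⁻¹ * (d.κ k * d.w) * h := by rw [hcw]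
      _ = _ := by group
  have hap : IsPGroup 3 (Subgroup.zpowers (⟨_, ha⟩ : Ci)) := by
    refine IsPGroup.of_card (n := 1) ?_
    rw [Nat.card_zpowers, Subgroup.orderOf_mk, pow_one]
    have := MulEquiv.orderOf_eq (MulAut.conj h⁻¹) d.w
    rw [MulAut.conj_apply, inv_inv] at this
    rw [this, orderOf_w]
  obtain ⟨R, hR⟩ := hap.exists_le_sylow
  obtain ⟨m, hm⟩ := MulAction.exists_smul_eq Ci R (d.P.subtype hPle)
  have hmD : m.1 * (h⁻¹ * d.w * h) * (m.1)⁻¹ ∈ d.D := by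
    have h1 : m * ⟨_, ha⟩ * m⁻¹ ∈ ((d.P.subtype hPle : Sylow 3 Ci) : Subgroup Ci) := by
      rw [← hm, Sylow.coe_subgroup_smul]
      exact ⟨_, hR (Subgroup.mem_zpowers _), rfl⟩
    rw [Sylow.coe_subtype, Subgroup.mem_subgroupOf] at h1
    rw [d.hDP]
    simpa using h1
  have e0 : m.1 * (h⁻¹ * d.w * h) * (m.1)⁻¹ = m.1 * h⁻¹ * d.w * (m.1 * h⁻¹)⁻¹ := by group
  rw [e0] at hmD
  have hmi : m.1 * d.i = d.i * m.1 := hmem.1 m.2
  obtain ⟨n, hni, hn⟩ : ∃ n : G, n * d.κ k * n⁻¹ = d.i ∧ (n * d.w * n⁻¹ = d.w ∨ n * d.w * n⁻¹ = d.w⁻¹) := by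
    have hbase : m.1 * h⁻¹ * d.κ k * (m.1 * h⁻¹)⁻¹ = d.i := by
      rw [← hh]
      calc m.1 * h⁻¹ * (h * d.i * h⁻¹) * (m.1 * h⁻¹)⁻¹ = m.1 * d.i * (m.1)⁻¹ := by group
        _ = d.i := by rw [hmi]; group
    have hg' : d.g * (m.1 * h⁻¹) * d.κ k * (d.g * (m.1 * h⁻¹))⁻¹ = d.i := by
      calc d.g * (m.1 * h⁻¹) * d.κ k * (d.g * (m.1 * h⁻¹))⁻¹
          = d.g * (m.1 * h⁻¹ * d.κ k * (m.1 * h⁻¹)⁻¹) * d.g⁻¹ := by group
        _ = d.i := by rw [hbase]; exact d.g_i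
    have hgw' : ∀ a : G, d.g * (m.1 * h⁻¹) * a * (d.g * (m.1 * h⁻¹))⁻¹ =
        d.g * (m.1 * h⁻¹ * a * (m.1 * h⁻¹)⁻¹) * d.g⁻¹ := fun a => by group
    rcases d.line_of_card hmD (fun e => d.w_ne_one (conj_eq_one_iff.1 e))
      (by rw [card_centralizer_conj]; exact d.card_C_w) with e | e | e | e
    · exact ⟨_, hg', Or.inl (by rw [hgw', e]; exact d.g_z)⟩
    · exact ⟨_, hg', Or.inr (by rw [hgw', e, ← conj_inv]; congr 1; exact d.g_z)⟩
    · exact ⟨_, hbase, Or.inl e⟩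
    · exact ⟨_, hbase, Or.inr e⟩
  obtain ⟨q, rfl⟩ := (d.κ_range_iff n).2 hn
  rw [← κ_iS, ← map_inv, ← map_mul, ← map_mul] at hni
  have := congrArg Perm.sign (congrArg Prod.snd (d.κ_injective hni))
  simp [iS, hs, mul_comm] at this
  exact absurd this (by decide)

end Data

end Cfsg.Agent.SymEightLocal
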