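import Mathlib
import Cfsg.Agent.Lib.SymEightLocal.Basics
import Cfsg.Agent.S3333

/-!
# The centraliser of the involution centralising the Sylow 3-subgroup
-/

set_option autoImplicit false

namespace Cfsg.Agent.SymEightLocal

open Equiv EightLocal

universe u

namespace Data

variable {G : Type u} [Group G] [Finite G] (d : Data G)

/-- the centraliser of `i` -/
abbrev Ci : Subgroup G := Subgroup.centralizer ({d.i} : Set G)

theorem mem_Ci {x : G} : x ∈ d.Ci ↔ x * d.i = d.i * x := Subgroup.mem_centralizer_singleton_iff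

theorem centI_D_le {a : G} (ha : a ∈ d.D) : a ∈ d.Ci := d.mem_Ci.2 (d.i_commute_D ha).symm

theorem ND_le_Ci : Subgroup.normalizer (d.D : Set G) ≤ d.Ci := by
  intro n hn
  refine d.mem_Ci.2 (mul_inv_eq_iff_eq_mul.1 ?_)
  have hni : n * d.i * n⁻¹ * (n * d.i * n⁻¹) = 1 := by
    calc n * d.i * n⁻¹ * (n * d.i * n⁻¹) = n * (d.i * d.i) * n⁻¹ := by group
      _ = 1 := by rw [i_sq]; group
  refine d.eq_i_of_centralizes hni (fun e => d.i_ne_one (conj_eq_one_iff.1 e)) fun a ha => ?_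
  have ha' : n⁻¹ * a * n ∈ d.D := by
    have := (Subgroup.mem_normalizer_iff.1 (inv_mem hn) a).1 ha
    rwa [inv_inv] at this
  calc n * d.i * n⁻¹ * a = n * (d.i * (n⁻¹ * a * n)) * n⁻¹ := by group
    _ = n * (n⁻¹ * a * n * d.i) * n⁻¹ := by rw [d.i_commute_D ha']
    _ = _ := by group

/-- the kernel of the passage to `C(i)/⟨i⟩` -/
def Zi : Subgroup d.Ci := Subgroup.zpowers ⟨d.i, d.mem_Ci.2 rfl⟩

instance : d.Zi.Normal := ⟨fun n hn g => by
  obtain ⟨k, rfl⟩ := Subgroup.mem_zpowers_iff.1 hn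
  have hc : Commute g (⟨d.i, d.mem_Ci.2 rfl⟩ : d.Ci) := Subtype.ext (d.mem_Ci.1 g.2)
  rw [(hc.zpow_right k).eq, mul_inv_cancel_right]
  exact hn⟩

theorem mem_Zi {c : d.Ci} (h : c ∈ d.Zi) : c.1 = 1 ∨ c.1 = d.i := by
  classical
  rw [Zi, mem_zpowers_iff_mem_range_orderOf, Subgroup.orderOf_mk, d.orderOf_i] at h
  simp only [Finset.mem_image, Finset.mem_range] at h
  obtain ⟨j, hj, rfl⟩ := h
  interval_cases j <;> simp

theorem card_Zi : Nat.card d.Zi = 2 := by
  rw [Zi, Nat.card_zpowers, Subgroup.orderOf_mk, d.orderOf_i]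

/-- Elements of `C(i)` commuting with an element of `D` modulo `i` commute with it. -/
theorem commute_of_mod {x a : G} (ha : a ∈ d.D) (hx : x * d.i = d.i * x)
    (h : x * a * x⁻¹ = a ∨ x * a * x⁻¹ = a * d.i) : x * a = a * x := by
  rcases h with h | h
  · exact mul_inv_eq_iff_eq_mul.1 h
  · exfalso
    have h3 : (a * d.i) ^ 3 = 1 := by rw [← h, conj_pow, d.D_cube ha]; group
    rw [(show Commute a d.i from (d.i_commute_D ha).symm).mul_pow, d.D_cube ha, one_mul, pow_succ,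
      pow_two, i_sq, one_mul] at h3
    exact d.i_ne_one h3

theorem centralizer_le_ND {a : G} (ha : a ∈ d.D) (ha1 : a ≠ 1) {x : G} (hx : x * a = a * x)
    (hxi : x * d.i = d.i * x) : x ∈ Subgroup.normalizer (d.D : Set G) := by
  have hzcase : ∀ x : G, x * d.z = d.z * x → x * d.i = d.i * x →
      x ∈ Subgroup.normalizer (d.D : Set G) := by
    intro x h1 h2
    obtain ⟨k, rfl, hk⟩ := d.exists_ι_of_commute h1
    rw [i, ← map_mul, ← map_mul] at h2
    obtain ⟨c, q, e, hb⟩ := normalizer_c5 k.2 (c5_normalized k.2 (congrArg Prod.snd (d.inj h2)))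
    obtain ⟨a, ha⟩ := commute_z_fst k.1 (congrArg Prod.fst hk)
    have : k = nS (a, c, 0, q, e) := Prod.ext (by simp [nS, dS, zS, wS, sS, bO, iS, ha])
      (by simp [nS, dS, zS, wS, sS, bO, iS, hb])
    rw [this]
    exact d.ι_mem_normalizer _
  have hwcase : ∀ x : G, x * d.w = d.w * x → x * d.i = d.i * x →
      x ∈ Subgroup.normalizer (d.D : Set G) := by
    intro x h1 h2
    have e1 : Commute (d.g * x * d.g⁻¹) d.z := by
      rw [← κ_wS, κ_apply]
      exact (show Commute x d.w from h1).map (MulAut.conj d.g).toMonoidHom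
    have e2 : Commute (d.g * x * d.g⁻¹) d.i := by
      rw [← κ_iS, κ_apply]
      exact (show Commute x d.i from h2).map (MulAut.conj d.g).toMonoidHom
    have := mul_mem (mul_mem (inv_mem d.g_mem_normalizer) (hzcase _ e1 e2)) d.g_mem_normalizer
    rwa [show d.g⁻¹ * (d.g * x * d.g⁻¹) * d.g = x by group] at this
  rcases d.D_cases ha with ⟨p, q, hp, hq, rfl⟩ | rfl | rfl | rfl | rfl | rfl
  · exact (d.mixed p q hp hq).2 (Subgroup.mem_centralizer_singleton_iff.2 hx)
  · exact absurd rfl ha1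
  · exact hzcase x hx hxi
  · exact hzcase x (Commute.inv_right_iff.1 hx) hxi
  · exact hwcase x hx hxi
  · exact hwcase x (Commute.inv_right_iff.1 hx) hxi

theorem centI_cases
    [hcn : ((Subgroup.centralizer (d.D : Set G)).subgroupOf (Subgroup.normalizer (d.D : Set G))).Normal]
    (eNC : Subgroup.normalizer (d.D : Set G) ⧸
      (Subgroup.centralizer (d.D : Set G)).subgroupOf (Subgroup.normalizer (d.D : Set G)) ≃* DihedralGroup 4) :
    d.Ci ≤ Subgroup.normalizer (d.D : Set G) ∨ Nonempty (d.Ci ⧸ d.Zi ≃* Perm (Fin 6)) := by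
  haveI : Fact (Nat.Prime 3) := ⟨Nat.prime_three⟩
  set π := QuotientGroup.mk' d.Zi with hπ
  have hπs : Function.Surjective π := QuotientGroup.mk'_surjective _
  have hmk : ∀ c : d.Ci, π c = 1 ↔ c ∈ d.Zi := QuotientGroup.eq_one_iff
  have hinjD : ∀ (a : G) (ha : a ∈ d.D), π ⟨a, d.centI_D_le ha⟩ = 1 → a = 1 := by
    intro a ha h
    rcases d.mem_Zi ((hmk _).1 h) with e | e
    · exact e
    · exfalso
      have h3 := d.D_cube ha
      rw [show a = d.i from e, pow_succ, pow_two, i_sq, one_mul] at h3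
      exact d.i_ne_one h3
  let f : d.D →* d.Ci ⧸ d.Zi := π.comp (Subgroup.inclusion fun a ha => d.centI_D_le ha)
  set S := f.range with hS
  have hScard : Nat.card S = 9 := by
    rw [← d.hcard]
    refine (Nat.card_congr (MonoidHom.ofInjective (f := f) ?_).toEquiv).symm
    rw [injective_iff_map_eq_one]
    exact fun a h => Subtype.ext (hinjD a.1 a.2 h)
  have hCi2 : Nat.card d.Ci = Nat.card (d.Ci ⧸ d.Zi) * 2 := by
    rw [Subgroup.card_eq_card_quotient_mul_card_subgroup d.Zi, d.card_Zi]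
  have hidx : ¬ 3 ∣ S.index := by
    intro h3
    apply d.P.not_dvd_index
    have h1 := Subgroup.card_mul_index S
    have h2 := Subgroup.card_subgroup_dvd_card d.Ci
    rw [hCi2, ← h1, hScard] at h2
    have h3' : 9 * 3 ∣ Nat.card G :=
      (mul_dvd_mul (dvd_refl 9) h3).trans ((Dvd.intro 2 rfl).trans h2)
    have h4 := Subgroup.card_mul_index (d.P : Subgroup G)
    rw [← d.hDP, d.hcard] at h4
    rw [← h4] at h3'
    rw [← d.hDP]
    exact (Nat.mul_dvd_mul_iff_left (by norm_num : 0 < 9)).1 h3'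
  let R : Sylow 3 (d.Ci ⧸ d.Zi) := (IsPGroup.of_card (n := 2) (show Nat.card S = 3 ^ 2 by simpa using hScard)).toSylow hidx
  have hlift : ∀ (a : G) (ha : a ∈ d.D) (x : d.Ci),
      π x * π ⟨a, d.centI_D_le ha⟩ = π ⟨a, d.centI_D_le ha⟩ * π x → x.1 * a = a * x.1 := by
    intro a ha x h
    refine d.commute_of_mod ha (d.mem_Ci.1 x.2) ?_
    have hm : (⟨a, d.centI_D_le ha⟩ : d.Ci)⁻¹ * (x * ⟨a, d.centI_D_le ha⟩ * x⁻¹) ∈ d.Zi := by
      rw [← hmk, map_mul, map_mul, map_mul, map_inv, map_inv, h]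
      group
    rcases d.mem_Zi hm with e | e
    · have e' : a⁻¹ * (x.1 * a * (x.1)⁻¹) = 1 := e
      exact Or.inl (inv_mul_eq_one.1 e').symm
    · have e' : a⁻¹ * (x.1 * a * (x.1)⁻¹) = d.i := e
      exact Or.inr (inv_mul_eq_iff_eq_mul.1 e')
  have hnorm : ∀ x : d.Ci, π x ∈ Subgroup.normalizer (S : Set (d.Ci ⧸ d.Zi)) →
      x.1 ∈ Subgroup.normalizer (d.D : Set G) := by
    intro x hx
    refine mem_normalizer_of_conj_mem fun a ha => ?_
    obtain ⟨⟨b, hb⟩, hb'⟩ := (Subgroup.mem_normalizer_iff.1 hx _).1 (show π ⟨a, d.centI_D_le ha⟩ ∈ S from ⟨⟨a, ha⟩, rfl⟩)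
    have hb'' : π ⟨b, d.centI_D_le hb⟩ = π x * π ⟨a, d.centI_D_le ha⟩ * (π x)⁻¹ := hb'
    have hm : (⟨b, d.centI_D_le hb⟩ : d.Ci)⁻¹ * (x * ⟨a, d.centI_D_le ha⟩ * x⁻¹) ∈ d.Zi := by
      rw [← hmk, map_mul, map_mul, map_mul, map_inv, map_inv, hb'']
      group
    rcases d.mem_Zi hm with e | e
    · have e' : b⁻¹ * (x.1 * a * (x.1)⁻¹) = 1 := e
      rw [← inv_mul_eq_one.1 e']
      exact hb
    · exfalso
      have e' : b⁻¹ * (x.1 * a * (x.1)⁻¹) = d.i := e
      rw [inv_mul_eq_iff_eq_mul] at e'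
      have h3 : (b * d.i) ^ 3 = 1 := by rw [← e', conj_pow, d.D_cube ha]; group
      rw [(show Commute b d.i from (d.i_commute_D hb).symm).mul_pow, d.D_cube hb, one_mul, pow_succ,
        pow_two, i_sq, one_mul] at h3
      exact d.i_ne_one h3
  have hC : Subgroup.centralizer (S : Set (d.Ci ⧸ d.Zi)) = S := by
    refine le_antisymm (fun q hq => ?_) ?_
    · obtain ⟨x, rfl⟩ := hπs q
      have h : ∀ a ∈ d.D, x.1 * a = a * x.1 := fun a ha =>
        hlift a ha x (Subgroup.mem_centralizer_iff.1 hq _ ⟨⟨a, ha⟩, rfl⟩).symm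
      obtain ⟨⟨p, c, e⟩, hu⟩ := d.centralizer_D (h _ d.z_mem) (h _ d.w_mem)
      have hx : x = ⟨d.ι (dS p c), d.centI_D_le ((d.mem_D _).2 ⟨p, c, rfl⟩)⟩ *
          (⟨d.i, d.mem_Ci.2 rfl⟩ : d.Ci) ^ (e : ℕ) := by
        apply Subtype.ext
        rw [hu, cS, map_mul, map_pow]
        rfl
      rw [hx, map_mul, map_pow, (hmk _).2 (Subgroup.mem_zpowers _), one_pow, mul_one]
      exact ⟨⟨_, (d.mem_D _).2 ⟨p, c, rfl⟩⟩, rfl⟩
    · intro q hq
      rw [Subgroup.mem_centralizer_iff]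
      rintro _ ⟨a, rfl⟩
      obtain ⟨b, rfl⟩ := hq
      rw [← map_mul, ← map_mul, show a * b = b * a from Subtype.ext (d.D_comm a.2 b.2)]
  set N := Subgroup.normalizer (d.D : Set G)
  set NX := Subgroup.normalizer (S : Set (d.Ci ⧸ d.Zi))
  let q : N →* NX := (π.comp (Subgroup.inclusion d.ND_le_Ci)).codRestrict NX fun n => by
    refine mem_normalizer_of_conj_mem ?_
    rintro _ ⟨a, rfl⟩
    refine ⟨⟨n.1 * a.1 * (n.1)⁻¹, (Subgroup.mem_normalizer_iff.1 n.2 _).1 a.2⟩, ?_⟩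
    show π _ = π _ * π _ * (π _)⁻¹
    rw [← map_inv, ← map_mul, ← map_mul]
    rfl
  have hqs : Function.Surjective q := by
    rintro ⟨u, hu⟩
    obtain ⟨x, rfl⟩ := hπs u
    exact ⟨⟨x.1, hnorm x hu⟩, Subtype.ext rfl⟩
  let q' := (QuotientGroup.mk' (S.subgroupOf NX)).comp q
  have hker : q'.ker = (Subgroup.centralizer (d.D : Set G)).subgroupOf N := by
    ext n
    rw [MonoidHom.mem_ker, Subgroup.mem_subgroupOf]
    show QuotientGroup.mk' (S.subgroupOf NX) (q n) = 1 ↔ _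
    rw [QuotientGroup.mk'_apply, QuotientGroup.eq_one_iff, Subgroup.mem_subgroupOf]
    constructor
    · intro hn
      rw [Subgroup.mem_centralizer_iff]
      intro a ha
      refine (hlift a ha ⟨n.1, d.ND_le_Ci n.2⟩ ?_).symm
      rw [← hC] at hn
      exact (Subgroup.mem_centralizer_iff.1 hn _ ⟨⟨a, ha⟩, rfl⟩).symm
    · intro hn
      rw [← hC, Subgroup.mem_centralizer_iff]
      rintro _ ⟨a, rfl⟩
      show π _ * π _ = π _ * π _
      rw [← map_mul, ← map_mul]
      congr 1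
      exact Subtype.ext (Subgroup.mem_centralizer_iff.1 hn a.1 a.2)
  have eN : NX ⧸ S.subgroupOf NX ≃* DihedralGroup 4 :=
    ((QuotientGroup.quotientMulEquivOfEq hker.symm).trans
      (QuotientGroup.quotientKerEquivOfSurjective q' ((QuotientGroup.mk'_surjective _).comp hqs))).symm.trans eNC
  rcases S3333.result R S rfl hScard hC eN (by
    rintro _ ⟨a, rfl⟩ ha1 u hu
    obtain ⟨x, rfl⟩ := hπs u
    rw [Subgroup.mem_centralizer_singleton_iff] at hu
    have hane : a.1 ≠ 1 := fun e => ha1 (by rw [show a = 1 from Subtype.ext e, map_one])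
    have hxN := d.centralizer_le_ND a.2 hane (hlift a.1 a.2 x hu) (d.mem_Ci.1 x.2)
    exact (q ⟨x.1, hxN⟩).2) with h | h
  · left
    intro x hx
    exact hnorm ⟨x, hx⟩ (by rw [show NX = ⊤ from Subgroup.normalizer_eq_top_iff.2 h]; trivial)
  · exact Or.inr h

/-- In the odd case the centraliser of `i` is large. -/
theorem not_le_of_odd (hs : d.g * d.s * d.g⁻¹ = d.ι bO) :
    ¬ d.Ci ≤ Subgroup.normalizer (d.D : Set G) := by
  intro hle
  set π : Perm (Fin 5) := c[0, 3] * c[1, 4]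
  have hconj : d.ι (1, π) * d.i * (d.ι (1, π))⁻¹ = d.ι bO := by
    rw [i, ← map_inv, ← map_mul, ← map_mul, show ((1, π) : SF) * iS * (1, π)⁻¹ = bO by decide +kernel]
  have h1 : Nat.card (Subgroup.centralizer ({d.s} : Set G)) = Nat.card d.Ci := by
    rw [Ci, ← card_centralizer_conj d.g d.s, hs, ← hconj, card_centralizer_conj]
  have hge : 240 ≤ Nat.card (Subgroup.centralizer ({d.s} : Set G)) := by
    let f : Fin 2 × Perm (Fin 5) → Subgroup.centralizer ({d.s} : Set G) := fun x =>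
      ⟨d.ι (sS ^ (x.1 : ℕ) * (1, x.2)), Subgroup.mem_centralizer_singleton_iff.2 (by
        rw [s, ← map_mul, ← map_mul]
        congr 1
        have h : ∀ a : Fin 2, sS ^ (a : ℕ) * sS = sS * sS ^ (a : ℕ) := fun a => (Commute.refl _).pow_left _
        rw [mul_assoc, show ((1, x.2) : SF) * sS = sS * (1, x.2) by simp [sS, Prod.ext_iff],
          ← mul_assoc, h, mul_assoc])⟩
    have hf : Function.Injective f := by
      intro a b e
      have e' := d.inj (congrArg Subtype.val e)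
      have h1 := congrArg Prod.fst e'
      have h2 := congrArg Prod.snd e'
      simp [sS] at h1 h2
      exact Prod.ext ((by decide +kernel : ∀ a b : Fin 2, (c[0, 1] : Perm (Fin 3)) ^ (a : ℕ) = c[0, 1] ^ (b : ℕ) → a = b) _ _ h1) h2
    have := Nat.card_le_card_of_injective f hf
    rw [Nat.card_prod, Nat.card_perm, Nat.card_fin, Nat.card_fin] at this
    simpa [Nat.factorial] using this
  have := Subgroup.card_le_of_le hle
  rw [d.card_ND, ← h1] at this
  omega

end Data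

end Cfsg.Agent.SymEightLocal
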