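import Mathlib
import Cfsg.Agent.Lib.SymEightLocal.Model

/-!
# Computations for the even configuration
-/

set_option autoImplicit false

namespace Cfsg.Agent.SymEightLocal

open Equiv

set_option synthInstance.maxHeartbeats 200000
set_option synthInstance.maxSize 1024

/-- the generator of the four-group centralising `bE` -/
def v5 : Perm (Fin 5) := c[0, 3] * c[1, 4]
/-- the second component of `bE` -/
def b5 : Perm (Fin 5) := c[0, 1] * c[3, 4]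
/-- the three-cycle -/
def c5 : Perm (Fin 5) := c[2, 3, 4]
/-- the transposition -/
def i5 : Perm (Fin 5) := c[0, 1]

theorem five_eqs : iS = (1, i5) ∧ wS = (1, c5) ∧ bE = (1, b5) ∧ bO = (1, i5 * b5) := by decide +kernel

theorem five_values :
    v5 * v5 = 1 ∧ b5 * b5 = 1 ∧ i5 * i5 = 1 ∧ c5 ^ 3 = 1 ∧ v5 ≠ 1 ∧ v5 * b5 = b5 * v5 ∧
      i5 * v5 * i5⁻¹ = v5 * b5 ∧ i5 * b5 = b5 * i5 ∧ (v5 * c5) ^ 5 = 1 ∧ (v5 * b5 * c5) ^ 5 = 1 ∧
      b5 * c5 * b5⁻¹ = c5⁻¹ ∧ c5 * i5 = i5 * c5 ∧ Perm.sign v5 = 1 ∧ Perm.sign b5 = 1 ∧ Perm.sign c5 = 1 ∧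
      Perm.sign i5 = -1 := by decide +kernel

/-- the four-group fixing the point one -/
def V5set : List (Perm (Fin 5)) := [1, c[0, 4] * c[2, 3], c[0, 3] * c[2, 4], c[0, 2] * c[3, 4]]

theorem V5_mul : ∀ a ∈ V5set, ∀ b ∈ V5set, a * b ∈ V5set ∧ a * b = b * a ∧ a * a = 1 := by decide +kernel

/-- the four-group fixing the point one, as a subgroup -/
def V5 : Subgroup (Perm (Fin 5)) where
  carrier := {p | p ∈ V5set}
  one_mem' := by decide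
  mul_mem' := fun {a b} ha hb => (V5_mul a ha b hb).1
  inv_mem' := fun {a} ha => by
    show a⁻¹ ∈ V5set
    rw [inv_eq_of_mul_eq_one_right (V5_mul a ha a ha).2.2]
    exact ha

theorem mem_V5 {p : Perm (Fin 5)} : p ∈ V5 ↔ p ∈ V5set := Iff.rfl

theorem V5_conj : ∀ p ∈ V5set, c5 * p * c5⁻¹ ∈ V5set ∧ c5⁻¹ * p * c5 ∈ V5set := by decide +kernel

theorem V5_centralizer : ∀ b : Perm (Fin 5), (∀ p ∈ V5set, b * p = p * b) → b ∈ V5set := by decide +kernel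

theorem V5_normalizes : ∀ b ∈ V5set, (b * c5 * b⁻¹ = c5 ∨ b * c5 * b⁻¹ = c5⁻¹) → b = 1 := by decide +kernel

theorem c5_not_central : ∃ p ∈ V5set, c5 * p ≠ p * c5 ∧ c5⁻¹ * p ≠ p * c5⁻¹ := by decide +kernel

theorem i5_not_central : ∃ p ∈ V5set, i5 * p ≠ p * i5 := by decide +kernel

theorem V5_to_W : ∀ p ∈ V5set, c[1, 2] * p * (c[1, 2] : Perm (Fin 5))⁻¹ ∈ [1, b5, v5, v5 * b5] := by
  decide +kernel

theorem W_to_V5 : (c[1, 2] : Perm (Fin 5))⁻¹ * v5 * c[1, 2] ∈ V5set ∧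
    (c[1, 2] : Perm (Fin 5))⁻¹ * b5 * c[1, 2] ∈ V5set := by decide +kernel

/-- a conjugate -/
def conjW (g e : Perm (Fin 5)) : Perm (Fin 5) := g * e * g⁻¹

/-- the order is a multiple of three -/
abbrev HasThree (x : Perm (Fin 5)) : Prop := x ^ 4 ≠ 1 ∧ x ^ 5 ≠ 1

theorem order_cases : ∀ x : Perm (Fin 5), x ^ 4 = 1 ∨ x ^ 5 = 1 ∨ x ^ 6 = 1 := by decide +kernel

theorem orbit_invol : ∀ e : Perm (Fin 5), e * e = 1 → e ≠ 1 → e ≠ i5 →
    HasThree (e * conjW c5 e * e * conjW c5⁻¹ e * conjW c5 e * conjW c5⁻¹ e) ∨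
    HasThree (e * conjW b5 (conjW c5⁻¹ e) * conjW c5 e * conjW b5 (conjW c5⁻¹ e) * conjW c5⁻¹ e *
      conjW b5 (conjW c5⁻¹ e)) := by decide +kernel

theorem orbit_big : ∀ e : Perm (Fin 5), e * e ≠ 1 →
    HasThree e ∨ (e * e * (e * e) = 1 ∧ e * e ≠ i5) ∨ HasThree (e * conjW c5 e) ∨
    HasThree (e * conjW b5 (conjW c5⁻¹ e)) ∨ HasThree (e * conjW c5⁻¹ (conjW b5 e)) ∨
    HasThree (e * conjW c5 (conjW b5 (conjW c5 e))) := by decide +kernel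

theorem a5_word : ∀ p : Perm (Fin 5), Perm.sign p = 1 → ∃ (i l n : Fin 3) (j k m : Fin 2),
    p = c5 ^ (i : ℕ) * b5 ^ (j : ℕ) * v5 ^ (k : ℕ) * c5 ^ (l : ℕ) * v5 ^ (m : ℕ) * c5 ^ (n : ℕ) := by
  decide +kernel

theorem i5_word : i5 = c5 * c5 * (i5 * v5) * c5 * (i5 * v5) * c5 * b5 * (i5 * v5) * c5 * (i5 * v5) * c5 *
    (i5 * v5) := by decide +kernel

theorem fix_pair : ∀ x : Fin 3 × Fin 3 × Fin 2 × Fin 2 × Fin 2,
    nS x * sS = sS * nS x → nS x * bE = bE * nS x →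
    ∃ a b c : Fin 2, nS x = iS ^ (a : ℕ) * sS ^ (b : ℕ) * bE ^ (c : ℕ) := by decide +kernel

theorem no_swap_pair : ∀ x : Fin 3 × Fin 3 × Fin 2 × Fin 2 × Fin 2,
    nS x * bE * (nS x)⁻¹ ≠ sS := by decide +kernel

end Cfsg.Agent.SymEightLocal
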