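import Mathlib
import Cfsg.Agent.Lib.SymEightLocal.CentI

/-!
# Conjugates of the involution centralising the Sylow 3-subgroup
-/

set_option autoImplicit false

namespace Cfsg.Agent.SymEightLocal

open Equiv EightLocal

universe u

namespace Data

variable {G : Type u} [Group G] [Finite G] (d : Data G)

theorem mem_D_of_pow {x : G} (hx : x ∈ Subgroup.normalizer (d.D : Set G)) (h3 : x ^ 3 = 1) : x ∈ d.D := by
  haveI : Fact (Nat.Prime 3) := ⟨Nat.prime_three⟩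
  set N := Subgroup.normalizer (d.D : Set G) with hN
  have hPle : (d.P : Subgroup G) ≤ N := by rw [← d.hDP]; exact Subgroup.le_normalizer
  have hnm : ((d.P.subtype hPle : Sylow 3 N) : Subgroup N).Normal := by
    rw [Sylow.coe_subtype, ← d.hDP]
    exact Subgroup.normal_in_normalizer
  have hp : IsPGroup 3 (Subgroup.zpowers (⟨x, hx⟩ : N)) := by
    obtain ⟨k, -, hk⟩ := (Nat.dvd_prime_pow Nat.prime_three (m := 1)).1
      (show orderOf (⟨x, hx⟩ : N) ∣ 3 ^ 1 from orderOf_dvd_of_pow_eq_one (Subtype.ext (by simpa using h3)))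
    exact IsPGroup.of_card (by rw [Nat.card_zpowers, hk])
  obtain ⟨R, hR⟩ := hp.exists_le_sylow
  haveI := Sylow.unique_of_normal (d.P.subtype hPle) hnm
  have hm : (⟨x, hx⟩ : N) ∈ ((d.P.subtype hPle : Sylow 3 N) : Subgroup N) := by
    rw [Subsingleton.elim (d.P.subtype hPle) R]
    exact hR (Subgroup.mem_zpowers _)
  rw [Sylow.coe_subtype, Subgroup.mem_subgroupOf] at hm
  exact d.hDP ▸ hm

/-- An `i`-type involution commuting with a mixed element is `i`. -/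
theorem eq_i_of_isI {x : G} (hI : d.IsI x) {p q : Fin 3} (hp : p ≠ 0) (hq : q ≠ 0)
    (hc : x * d.ι (dS p q) = d.ι (dS p q) * x) : x = d.i := by
  haveI : Fact (Nat.Prime 3) := ⟨Nat.prime_three⟩
  obtain ⟨h, hh⟩ := hI
  set a := d.ι (dS p q) with hadef
  have haD : a ∈ d.D := (d.mem_D a).2 ⟨p, q, rfl⟩
  have hPle : (d.P : Subgroup G) ≤ d.Ci := by
    rw [← d.hDP]
    exact fun b hb => d.centI_D_le hb
  have ha : h⁻¹ * a * h ∈ d.Ci := by
    refine d.mem_Ci.2 ?_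
    have e : d.i = h⁻¹ * x * h := by rw [← hh]; group
    rw [e]
    calc h⁻¹ * a * h * (h⁻¹ * x * h) = h⁻¹ * (a * x) * h := by group
      _ = h⁻¹ * (x * a) * h := by rw [hc]
      _ = _ := by group
  have h3 : (⟨_, ha⟩ : d.Ci) ^ (3 ^ 1) = 1 := Subtype.ext (by
    show (h⁻¹ * a * h) ^ (3 ^ 1) = 1
    rw [pow_one, show h⁻¹ * a * h = h⁻¹ * a * h⁻¹⁻¹ by group, conj_pow, d.D_cube haD]
    group)
  have hap : IsPGroup 3 (Subgroup.zpowers (⟨_, ha⟩ : d.Ci)) := by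
    obtain ⟨k, -, hk⟩ := (Nat.dvd_prime_pow Nat.prime_three (m := 1)).1 (orderOf_dvd_of_pow_eq_one h3)
    exact IsPGroup.of_card (by rw [Nat.card_zpowers, hk])
  obtain ⟨R, hR⟩ := hap.exists_le_sylow
  obtain ⟨m, hm⟩ := MulAction.exists_smul_eq d.Ci R (d.P.subtype hPle)
  have hmD : m.1 * (h⁻¹ * a * h) * (m.1)⁻¹ ∈ d.D := by
    have h1 : m * ⟨_, ha⟩ * m⁻¹ ∈ ((d.P.subtype hPle : Sylow 3 d.Ci) : Subgroup d.Ci) := by
      rw [← hm, Sylow.coe_subgroup_smul]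
      exact ⟨_, hR (Subgroup.mem_zpowers _), rfl⟩
    rw [Sylow.coe_subtype, Subgroup.mem_subgroupOf] at h1
    rw [d.hDP]
    simpa using h1
  set n := m.1 * h⁻¹ with hn
  have hmi : m.1 * d.i = d.i * m.1 := d.mem_Ci.1 m.2
  have hnx : n * x * n⁻¹ = d.i := by
    rw [hn, ← hh]
    calc m.1 * h⁻¹ * (h * d.i * h⁻¹) * (m.1 * h⁻¹)⁻¹ = m.1 * d.i * (m.1)⁻¹ := by group
      _ = d.i := by rw [hmi]; group
  rw [show m.1 * (h⁻¹ * a * h) * (m.1)⁻¹ = n * a * n⁻¹ by rw [hn]; group] at hmD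
  -- `n⁻¹ D n` centralises `a`, hence equals `D`
  have hle : ∀ b ∈ d.D, n⁻¹ * b * n ∈ d.D := by
    intro b hb
    refine d.mem_D_of_pow ((d.mixed p q hp hq).2 (Subgroup.mem_centralizer_singleton_iff.2 ?_)) ?_
    · have hbc := d.D_comm hb hmD
      calc n⁻¹ * b * n * a = n⁻¹ * (b * (n * a * n⁻¹)) * n := by group
        _ = n⁻¹ * (n * a * n⁻¹ * b) * n := by rw [hbc]
        _ = a * (n⁻¹ * b * n) := by group
        _ = _ := by rw [hadef]
    · rw [show n⁻¹ * b * n = n⁻¹ * b * n⁻¹⁻¹ by group, conj_pow, d.D_cube hb]; group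
  refine d.eq_i_of_centralizes ?_ ?_ ?_
  · rw [← hh, show h * d.i * h⁻¹ * (h * d.i * h⁻¹) = h * (d.i * d.i) * h⁻¹ by group, i_sq]; group
  · rw [← hh]; exact fun e => d.i_ne_one (conj_eq_one_iff.1 e)
  · intro b hb
    have hnN : n⁻¹ ∈ Subgroup.normalizer (d.D : Set G) := mem_normalizer_of_conj_mem fun b hb => by
      rw [inv_inv]; exact hle b hb
    have hb' : n * b * n⁻¹ ∈ d.D := (Subgroup.mem_normalizer_iff.1 ((Subgroup.inv_mem_iff _).1 hnN) b).1 hb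
    have hx : x = n⁻¹ * d.i * n := by rw [← hnx]; group
    rw [hx]
    calc n⁻¹ * d.i * n * b = n⁻¹ * (d.i * (n * b * n⁻¹)) * n := by group
      _ = n⁻¹ * (n * b * n⁻¹ * d.i) * n := by rw [d.i_commute_D hb']
      _ = _ := by group

end Data

end Cfsg.Agent.SymEightLocal
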