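import Mathlib
import Cfsg.Agent.Lib.SymEightLocal.IsI
import Cfsg.Agent.Lib.SymEightLocal.EvenModel
import Cfsg.Agent.Lib.Coprime.Generation
import Cfsg.Agent.Lib.PCore.Basic
import Cfsg.Agent.Lib.Components.Subnormal
import Cfsg.Agent.Lib.PSL2.Recognition
import Cfsg.Agent.S3331

/-!
# The centraliser of a four-group centralised by `w` and normalised by `z`
-/

set_option autoImplicit false

namespace Cfsg.Agent.SymEightLocal

open Equiv EightLocal

universe u

theorem not_three_dvd_order {G : Type u} [Group G] [Finite G] {M : Subgroup G} (hM : ¬ 3 ∣ Nat.card M)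
    {x : G} (hx : x ∈ M) : ¬ 3 ∣ orderOf x := fun h => hM (h.trans (Subgroup.orderOf_dvd_natCard M hx))

theorem eq_one_of_pow_three {H : Type*} [Group H] {a : H} {n : ℕ} (hn : ¬ 3 ∣ n) (h3 : a ^ 3 = 1)
    (hn' : a ^ n = 1) : a = 1 := by
  have := pow_gcd_eq_one.2 ⟨h3, hn'⟩
  rwa [(Nat.Prime.coprime_iff_not_dvd Nat.prime_three).2 hn, pow_one] at this

theorem not_hasThree {b : Perm (Fin 5)} {n : ℕ} (hn : ¬ 3 ∣ n) (hb : b ^ n = 1) : ¬ HasThree b := by
  rintro ⟨h4, h5⟩
  rcases order_cases b with h | h | h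
  · exact h4 h
  · exact h5 h
  · apply h4
    have h2 : b ^ 2 = 1 := eq_one_of_pow_three hn (by rw [← pow_mul]; exact h)
      (by rw [← pow_mul, mul_comm, pow_mul, hb, one_pow])
    rw [show (4 : ℕ) = 2 * 2 from rfl, pow_mul, h2, one_pow]

namespace Data

variable {G : Type u} [Group G] [Finite G] (d : Data G)

/-- the second factor of the normaliser of the line of `z` -/
def ι5 : Perm (Fin 5) →* G := d.ι.comp (MonoidHom.inr _ _)

/-- the second factor of the normaliser of the line of `w` -/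
def κ5 : Perm (Fin 5) →* G := d.κ.comp (MonoidHom.inr _ _)

theorem ι5_apply (b : Perm (Fin 5)) : d.ι5 b = d.ι (1, b) := rfl
theorem κ5_apply (b : Perm (Fin 5)) : d.κ5 b = d.κ (1, b) := rfl

theorem ι5_injective : Function.Injective d.ι5 := fun a b h => congrArg Prod.snd (d.inj h)
theorem κ5_injective : Function.Injective d.κ5 := fun a b h => congrArg Prod.snd (d.κ_injective h)

theorem κ5_i : d.κ5 i5 = d.i := by rw [κ5_apply, ← five_eqs.1]; exact d.κ_iS
theorem ι5_i : d.ι5 i5 = d.i := by rw [ι5_apply, ← five_eqs.1]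
theorem κ5_c : d.κ5 c5 = d.z := by rw [κ5_apply, ← five_eqs.2.1]; exact d.κ_wS
theorem ι5_c : d.ι5 c5 = d.w := by rw [ι5_apply, ← five_eqs.2.1]
theorem conj_g5 (b : Perm (Fin 5)) : d.g * d.κ5 b * d.g⁻¹ = d.ι5 b := d.conj_g _
theorem conj_g5' (b : Perm (Fin 5)) : d.g * d.ι5 b * d.g⁻¹ = d.κ5 b := rfl

theorem κ5_commute_w (b : Perm (Fin 5)) : Commute (d.κ5 b) d.w := by
  rw [← κ_zS, κ5_apply]
  exact (show Commute ((1, b) : SF) zS by simp [Commute, SemiconjBy, zS]).map d.κ

theorem ι5_commute_z (b : Perm (Fin 5)) : Commute (d.ι5 b) d.z := by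
  rw [ι5_apply, z]
  exact (show Commute ((1, b) : SF) zS by simp [Commute, SemiconjBy, zS]).map d.ι

/-- the four-group -/
def Vk : Subgroup G := V5.map d.κ5

/-- its centraliser -/
def CV : Subgroup G := Subgroup.centralizer (d.Vk : Set G)

theorem mem_CV {x : G} : x ∈ d.CV ↔ ∀ p ∈ V5set, Commute x (d.κ5 p) := by
  rw [CV, Subgroup.mem_centralizer_iff]
  constructor
  · exact fun h p hp => (h _ ⟨p, hp, rfl⟩).symm
  · rintro h _ ⟨p, hp, rfl⟩
    exact (h p hp).eq.symm

theorem κ5_mem_CV {b : Perm (Fin 5)} : d.κ5 b ∈ d.CV ↔ b ∈ V5set := by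
  rw [d.mem_CV]
  constructor
  · intro h
    refine V5_centralizer b fun p hp => d.κ5_injective ?_
    rw [map_mul, map_mul]
    exact h p hp
  · intro hb p hp
    exact (show Commute b p from (V5_mul b hb p hp).2.1).map d.κ5

theorem w_mem_CV : d.w ∈ d.CV := d.mem_CV.2 fun p _ => (d.κ5_commute_w p).symm

theorem r_mem_CV : d.κ sS ∈ d.CV := d.mem_CV.2 fun p _ => by
  rw [κ5_apply]
  exact (show Commute sS ((1, p) : SF) by simp [Commute, SemiconjBy, sS]).map d.κ

theorem z_notMem_CV : d.z ∉ d.CV ∧ d.z⁻¹ ∉ d.CV := by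
  have h : d.z ∉ d.CV := by
    rw [← κ5_c, κ5_mem_CV]
    decide +kernel
  exact ⟨h, fun h' => h (by simpa using inv_mem h')⟩

theorem Vk_le_CV : d.Vk ≤ d.CV := by
  rintro _ ⟨p, hp, rfl⟩
  exact d.κ5_mem_CV.2 hp

theorem i_notMem_CV : d.i ∉ d.CV := by
  rw [← κ5_i, κ5_mem_CV]
  decide +kernel

theorem z_normalizes_CV : d.z ∈ Subgroup.normalizer (d.CV : Set G) := by
  refine mem_normalizer_of_conj_mem fun x hx => ?_
  rw [d.mem_CV] at hx ⊢
  intro p hp
  have h := (hx _ (V5_conj p hp).2).map (MulAut.conj d.z).toMonoidHom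
  have e : d.z * d.κ5 (c5⁻¹ * p * c5) * d.z⁻¹ = d.κ5 p := by
    rw [← κ5_c, ← map_inv, ← map_mul, ← map_mul]
    congr 1
    group
  have h' : Commute (d.z * x * d.z⁻¹) (d.z * d.κ5 (c5⁻¹ * p * c5) * d.z⁻¹) := h
  rwa [e] at h'

theorem D_le_normalizer_CV : d.D ≤ Subgroup.normalizer (d.CV : Set G) := by
  intro a ha
  obtain ⟨p, q, rfl⟩ := (d.mem_D a).1 ha
  rw [dS, map_mul, map_pow, map_pow]
  exact mul_mem (pow_mem d.z_normalizes_CV _) (pow_mem (Subgroup.le_normalizer d.w_mem_CV) _)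

theorem centralizer_w_CV {x : G} (hx : x ∈ d.CV) (hw : x * d.w = d.w * x) :
    ∃ (a : Fin 3), ∃ b ∈ V5set, x = d.w ^ (a : ℕ) * d.κ5 b := by
  obtain ⟨k, rfl, hk⟩ := d.exists_κ_of_commute hw
  obtain ⟨a, ha⟩ := commute_z_fst k.1 (congrArg Prod.fst hk)
  refine ⟨a, k.2, V5_centralizer k.2 fun p hp => ?_, ?_⟩
  · have h := d.mem_CV.1 hx p hp
    have h' : d.κ (k * (1, p)) = d.κ ((1, p) * k) := by rw [map_mul, map_mul]; exact h
    exact congrArg Prod.snd (d.κ_injective h')
  · rw [← κ_zS, κ5_apply, ← map_pow, ← map_mul]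
    congr 1
    ext1 <;> simp [zS, ha]

theorem D_not_cyclic : ¬ IsCyclic d.D := by
  intro h
  obtain ⟨a, ha⟩ := h.exists_generator
  have h9 : orderOf a = 9 := by rw [orderOf_eq_card_of_forall_mem_zpowers ha, d.hcard]
  have h3 : a ^ 3 = 1 := Subtype.ext (d.D_cube a.2)
  have := orderOf_dvd_of_pow_eq_one h3
  rw [h9] at this
  omega

/-- Generation: a `D`-invariant 3′-subgroup of `C(V)` meeting `C(z)` trivially lies in `V`. -/
theorem le_Vk {M : Subgroup G} (hM : M ≤ d.CV) (hD : d.D ≤ Subgroup.normalizer (M : Set G))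
    (h3 : ¬ 3 ∣ Nat.card M) (hz : ∀ x ∈ M, x * d.z = d.z * x → x = 1) : M ≤ d.Vk := by
  haveI : IsMulCommutative d.D := ⟨⟨fun a b => Subtype.ext (d.D_comm a.2 b.2)⟩⟩
  have hcop : (Nat.card d.D).Coprime (Nat.card M) := by
    rw [d.hcard, show (9 : ℕ) = 3 ^ 2 by norm_num]
    exact Nat.Coprime.pow_left _ ((Nat.Prime.coprime_iff_not_dvd Nat.prime_three).2 h3)
  have hn : ∀ {x : G}, x ∈ M → ¬ 3 ∣ orderOf x := fun hx => not_three_dvd_order h3 hx
  suffices H : M ⊓ d.Vk = M from inf_eq_left.1 H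
  refine Coprime.eq_of_forall_centralizer_le d.D_not_cyclic hD hcop inf_le_left fun a ha ha1 x hx => ?_
  obtain ⟨hxM, hxa⟩ := Subgroup.mem_inf.1 hx
  rw [Subgroup.mem_centralizer_singleton_iff] at hxa
  refine Subgroup.mem_inf.2 ⟨hxM, ?_⟩
  have hxC := hM hxM
  have wcase : x * d.w = d.w * x → x ∈ d.Vk := by
    intro hw
    obtain ⟨k, b, hb, hk⟩ := d.centralizer_w_CV hxC hw
    have hc : Commute (d.w ^ (k : ℕ)) (d.κ5 b) := (d.κ5_commute_w b).symm.pow_left _
    have hp : (d.w ^ (k : ℕ)) ^ orderOf x * (d.κ5 b) ^ orderOf x = 1 := by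
      rw [← hc.mul_pow, ← hk, pow_orderOf_eq_one]
    have h3' : (d.w ^ (k : ℕ)) ^ 3 = 1 := by rw [← pow_mul, mul_comm, pow_mul, w_cube, one_pow]
    have hbn : ∀ n : ℕ, (b ^ n) ^ 2 = 1 := fun n => by
      rw [← pow_mul, mul_comm, pow_mul, pow_two, (V5_mul b hb b hb).2.2, one_pow]
    have hwn : ((d.w ^ (k : ℕ)) ^ orderOf x) ^ 2 = 1 := by
      rw [eq_inv_of_mul_eq_one_left hp, inv_pow, ← map_pow, ← map_pow, hbn, map_one, inv_one]
    rw [← pow_mul] at hwn
    have h1 : d.w ^ (k : ℕ) = 1 := eq_one_of_pow_three (n := orderOf x * 2)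
      (fun h => ((Nat.Prime.dvd_mul Nat.prime_three).1 h).elim (hn hxM) (by norm_num)) h3' hwn
    rw [hk, h1, one_mul]
    exact ⟨b, hb, rfl⟩
  rcases d.D_cases ha with ⟨p, q, hp, hq, rfl⟩ | rfl | rfl | rfl | rfl | rfl
  · have hxN := (d.mixed p q hp hq).2 (Subgroup.mem_centralizer_singleton_iff.2 hxa)
    have hzD := (Subgroup.mem_normalizer_iff.1 hxN _).1 d.z_mem
    have hwD := (Subgroup.mem_normalizer_iff.1 hxN _).1 d.w_mem
    have hwne : ∀ {y : G}, x * d.z * x⁻¹ = y → y ≠ 1 := fun {y} h e => d.z_ne_one (conj_eq_one_iff.1 (h.trans e))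
    rcases d.line_of_card hzD (hwne rfl) (by rw [card_centralizer_conj]; exact d.card_C_z) with e | e | e | e
    rotate_left 2
    · exfalso
      apply d.z_notMem_CV.1
      rw [show d.z = x⁻¹ * (x * d.z * x⁻¹) * x by group, e]
      exact mul_mem (mul_mem (inv_mem hxC) d.w_mem_CV) hxC
    · exfalso
      apply d.z_notMem_CV.1
      rw [show d.z = x⁻¹ * (x * d.z * x⁻¹) * x by group, e]
      exact mul_mem (mul_mem (inv_mem hxC) (inv_mem d.w_mem_CV)) hxC
    all_goals
      have hw : x * d.w * x⁻¹ = d.w ∨ x * d.w * x⁻¹ = d.w⁻¹ := by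
        rcases d.line_of_card hwD (fun h => d.w_ne_one (conj_eq_one_iff.1 h))
          (by rw [card_centralizer_conj]; exact d.card_C_w) with f | f | f | f
        rotate_left 2
        · exact Or.inl f
        · exact Or.inr f
        all_goals exfalso
        · apply d.z_notMem_CV.1
          rw [← f]
          exact mul_mem (mul_mem hxC d.w_mem_CV) (inv_mem hxC)
        · apply d.z_notMem_CV.2
          rw [← f]
          exact mul_mem (mul_mem hxC d.w_mem_CV) (inv_mem hxC)
      obtain ⟨k, rfl⟩ := (d.κ_range_iff x).2 hw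
      have hcm : ∀ p ∈ V5set, k.2 * p = p * k.2 := fun p hp => by
        have h := d.mem_CV.1 hxC p hp
        have h' : d.κ (k * (1, p)) = d.κ ((1, p) * k) := by rw [map_mul, map_mul]; exact h
        exact congrArg Prod.snd (d.κ_injective h')
      have hk2 : k.2 = 1 := by
        refine V5_normalizes k.2 (V5_centralizer k.2 hcm) ?_
        have e' : d.κ k * d.κ wS * (d.κ k)⁻¹ = d.κ wS ∨ d.κ k * d.κ wS * (d.κ k)⁻¹ = (d.κ wS)⁻¹ := by
          rw [κ_wS]
          first
            | exact Or.inl e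
            | exact Or.inr e
        simp only [← map_inv, ← map_mul] at e'
        rcases e' with e' | e'
        · exact Or.inl (congrArg Prod.snd (d.κ_injective e'))
        · exact Or.inr (congrArg Prod.snd (d.κ_injective e'))
      have hk3 : k.1 ^ 3 = 1 := by
        have hm : d.ι (dS p q) = d.κ (dS q p) := by
          rw [dS, dS, map_mul, map_mul, map_pow, map_pow, map_pow, map_pow, κ_zS, κ_wS]
          exact (((show Commute d.z d.w from d.D_comm d.z_mem d.w_mem).pow_pow _ _)).eq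
        rw [hm, ← map_mul, ← map_mul] at hxa
        have h1 := congrArg Prod.fst (d.κ_injective hxa)
        exact (by decide +kernel : ∀ q p : Fin 3, q ≠ 0 → ∀ a : Perm (Fin 3),
          a * (dS q p).1 = (dS q p).1 * a → a ^ 3 = 1) q p hq k.1 h1
      have hpow : k.1 ^ orderOf (d.κ k) = 1 := by
        have h := pow_orderOf_eq_one (d.κ k)
        rw [← map_pow] at h
        exact congrArg Prod.fst (d.κ_injective (h.trans (map_one _).symm))
      have hk1 : k.1 = 1 := eq_one_of_pow_three (hn hxM) hk3 hpow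
      rw [show k = 1 from Prod.ext hk1 hk2, map_one]
      exact one_mem _
  · exact absurd rfl ha1
  · rw [hz x hxM hxa]; exact one_mem _
  · rw [hz x hxM (Commute.inv_right_iff.1 hxa)]; exact one_mem _
  · exact wcase hxa
  · exact wcase (Commute.inv_right_iff.1 hxa)

theorem normal3_meets_z {M : Subgroup G} (hM : M ≤ d.CV) (hN : d.CV ≤ Subgroup.normalizer (M : Set G))
    (h3 : ¬ 3 ∣ Nat.card M) (hs : d.κ sS = d.ι bE) {x : G} (hx : x ∈ M) (hz : x * d.z = d.z * x) : x = 1 := by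
  have hn : ∀ {x : G}, x ∈ M → ¬ 3 ∣ orderOf x := fun hx => not_three_dvd_order h3 hx
  set K : Subgroup (Perm (Fin 5)) := M.comap d.ι5 with hK
  have hconj : ∀ {c : Perm (Fin 5)}, d.ι5 c ∈ d.CV → ∀ {e}, e ∈ K → conjW c e ∈ K := fun hc e he => by
    show d.ι5 (_ * e * _⁻¹) ∈ M
    rw [map_mul, map_mul, map_inv]
    exact (Subgroup.mem_normalizer_iff.1 (hN hc) _).1 he
  have hc : d.ι5 c5 ∈ d.CV := by rw [ι5_c]; exact d.w_mem_CV
  have hc' : d.ι5 c5⁻¹ ∈ d.CV := by rw [map_inv]; exact inv_mem hc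
  have hb : d.ι5 b5 ∈ d.CV := by rw [ι5_apply, ← five_eqs.2.2.1, ← hs]; exact d.r_mem_CV
  have hnot : ∀ {e}, e ∈ K → ¬ HasThree e := fun {e} he => not_hasThree (hn he) (d.ι5_injective (by
    rw [map_pow, pow_orderOf_eq_one, map_one]))
  have hi : i5 ∉ K := fun h => d.i_notMem_CV (d.ι5_i ▸ hM h)
  have hinv : ∀ e ∈ K, e * e = 1 → e = 1 := by
    intro e he h2
    by_contra h1
    have he' : e ≠ i5 := fun h => hi (h ▸ he)
    rcases orbit_invol e h2 h1 he' with h | h
    · exact hnot (mul_mem (mul_mem (mul_mem (mul_mem (mul_mem he (hconj hc he)) he) (hconj hc' he))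
        (hconj hc he)) (hconj hc' he)) h
    · exact hnot (mul_mem (mul_mem (mul_mem (mul_mem (mul_mem he (hconj hb (hconj hc' he))) (hconj hc he))
        (hconj hb (hconj hc' he))) (hconj hc' he)) (hconj hb (hconj hc' he))) h
  have hall : ∀ e ∈ K, e = 1 := by
    intro e he
    refine hinv e he (by_contra fun h => ?_)
    rcases orbit_big e h with h' | ⟨h', -⟩ | h' | h' | h' | h'
    · exact hnot he h'
    · exact h (hinv _ (mul_mem he he) h')
    · exact hnot (mul_mem he (hconj hc he)) h'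
    · exact hnot (mul_mem he (hconj hb (hconj hc' he))) h'
    · exact hnot (mul_mem he (hconj hc' (hconj hb he))) h'
    · exact hnot (mul_mem he (hconj hc (hconj hb (hconj hc he)))) h'
  obtain ⟨k, rfl, hk⟩ := d.exists_ι_of_commute hz
  have hpow : k.1 ^ orderOf (d.ι k) = 1 := by
    have h := pow_orderOf_eq_one (d.ι k)
    rw [← map_pow] at h
    exact congrArg Prod.fst (d.inj (h.trans (map_one _).symm))
  obtain ⟨a, ha⟩ := commute_z_fst k.1 (congrArg Prod.fst hk)
  have hk1 : k.1 = 1 := eq_one_of_pow_three (hn hx) (by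
    rw [ha, ← pow_mul, mul_comm, pow_mul, show (c[0, 1, 2] : Perm (Fin 3)) ^ 3 = 1 by decide +kernel, one_pow]) hpow
  have hk2 : k.2 ∈ K := by
    show d.ι (1, k.2) ∈ M
    rwa [show ((1, k.2) : SF) = k from Prod.ext hk1.symm rfl]
  rw [show k = 1 from Prod.ext hk1 (hall _ hk2), map_one]

/-- A normal 3′-subgroup of `C(V)` lies in `V`. -/
theorem normal3_le_Vk (hs : d.κ sS = d.ι bE) {M : Subgroup d.CV} [hM : M.Normal] (h3 : ¬ 3 ∣ Nat.card M) :
    M.map d.CV.subtype ≤ d.Vk := by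
  haveI : Fact (Nat.Prime 3) := ⟨Nat.prime_three⟩
  have hle : M ≤ pPrimeCore 3 d.CV := PCore.le_pPrimeCore (Nat.Coprime.symm ((Nat.Prime.coprime_iff_not_dvd Nat.prime_three).2 h3))
  set R := (pPrimeCore 3 d.CV).map d.CV.subtype with hR
  refine (Subgroup.map_mono hle).trans (show R ≤ d.Vk from ?_)
  have h3R : ¬ 3 ∣ Nat.card R := by
    rw [hR, Subgroup.card_map_of_injective d.CV.subtype_injective]
    exact (Nat.Prime.coprime_iff_not_dvd Nat.prime_three).1 PCore.coprime_card_pPrimeCore.symm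
  have hn : Subgroup.normalizer (d.CV : Set G) ≤ Subgroup.normalizer (R : Set G) :=
    Components.normalizer_le_normalizer_map_of_characteristic _ _
  exact d.le_Vk (Subgroup.map_subtype_le _) (d.D_le_normalizer_CV.trans hn) h3R
    fun x hx hz => d.normal3_meets_z (Subgroup.map_subtype_le _) (Subgroup.le_normalizer.trans hn) h3R hs hx hz

theorem card_Vk : Nat.card d.Vk = 4 := by
  rw [Vk, Subgroup.card_map_of_injective d.κ5_injective]
  have : Nat.card V5 = Nat.card {p : Perm (Fin 5) // p ∈ V5set.toFinset} :=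
    Nat.card_congr (Equiv.subtypeEquivRight fun p => by simp [mem_V5])
  rw [this, Nat.card_eq_fintype_card, Fintype.card_coe]
  decide +kernel

/-- The centraliser of `V` has order 12, 24 or 240. -/
theorem card_CV (hs : d.κ sS = d.ι bE) :
    Nat.card d.CV = 12 ∨ Nat.card d.CV = 24 ∨ Nat.card d.CV = 240 := by
  haveI : Fact (Nat.Prime 3) := ⟨Nat.prime_three⟩
  set V' := d.Vk.subgroupOf d.CV with hV'
  haveI hVn : V'.Normal := ⟨fun v hv c => by
    rw [hV', Subgroup.mem_subgroupOf] at hv ⊢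
    obtain ⟨p, hp, hpv⟩ := hv
    have : Commute c.1 v.1 := hpv ▸ d.mem_CV.1 c.2 p hp
    rw [Subgroup.coe_mul, Subgroup.coe_mul, Subgroup.coe_inv, this.eq, mul_inv_cancel_right, ← hpv]
    exact ⟨p, hp, rfl⟩⟩
  have hV4 : Nat.card V' = 4 := by
    rw [hV', Nat.card_congr (Subgroup.subgroupOfEquivOfLe d.Vk_le_CV).toEquiv, card_Vk]
  have hcard : Nat.card d.CV = Nat.card (d.CV ⧸ V') * 4 := by
    rw [Subgroup.card_eq_card_quotient_mul_card_subgroup V', hV4]
  set π := QuotientGroup.mk' V'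
  have hπs : Function.Surjective π := QuotientGroup.mk'_surjective _
  set wb := π ⟨d.w, d.w_mem_CV⟩
  have hw3 : wb ^ 3 = 1 := by
    rw [← map_pow, show (⟨d.w, d.w_mem_CV⟩ : d.CV) ^ 3 = 1 from Subtype.ext d.w_cube, map_one]
  have hwV : ∀ b ∈ V5set, d.w ≠ d.κ5 b := fun b hb e => by
    have h2 : d.w * d.w = 1 := by rw [e, ← map_mul, (V5_mul b hb b hb).2.2, map_one]
    have h3 := d.w_cube
    rw [pow_succ, pow_two, h2, one_mul] at h3
    exact d.w_ne_one h3
  have hwb1 : wb ≠ 1 := fun h => by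
    have h' : (⟨d.w, d.w_mem_CV⟩ : d.CV) ∈ V' := (QuotientGroup.eq_one_iff _).1 h
    obtain ⟨b, hb, e⟩ := (Subgroup.mem_subgroupOf.1 h')
    exact hwV b hb e.symm
  set X := Subgroup.zpowers wb
  have hX : Nat.card X = 3 := by rw [Nat.card_zpowers]; exact orderOf_eq_prime hw3 hwb1
  have hC : Subgroup.centralizer (X : Set (d.CV ⧸ V')) = X := by
    refine le_antisymm (fun q hq => ?_) ?_
    · obtain ⟨x, rfl⟩ := hπs q
      have h1 : wb * π x = π x * wb := Subgroup.mem_centralizer_iff.1 hq _ (Subgroup.mem_zpowers _)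
      have hm : (⟨d.w, d.w_mem_CV⟩ : d.CV)⁻¹ * (x * ⟨d.w, d.w_mem_CV⟩ * x⁻¹) ∈ V' := by
        refine (QuotientGroup.eq_one_iff _).1 (show π _ = 1 from ?_)
        rw [map_mul, map_mul, map_mul, map_inv, map_inv, ← h1, mul_inv_cancel_right]
        exact inv_mul_cancel _
      obtain ⟨b, hb, hbe⟩ := Subgroup.mem_subgroupOf.1 hm
      have hbe' : d.κ5 b = d.w⁻¹ * (x.1 * d.w * (x.1)⁻¹) := hbe
      have hb1 : d.κ5 b = 1 := by
        have e3 : (d.w * d.κ5 b) ^ 3 = 1 := by rw [hbe', mul_inv_cancel_left, conj_pow, w_cube]; group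
        rw [(d.κ5_commute_w b).symm.mul_pow, w_cube, one_mul, ← map_pow, pow_succ, pow_two,
          (V5_mul b hb b hb).2.2, one_mul] at e3
        exact e3
      have hcomm : x.1 * d.w = d.w * x.1 := by
        rw [hb1, eq_comm, inv_mul_eq_one] at hbe'
        exact mul_inv_eq_iff_eq_mul.1 hbe'.symm
      obtain ⟨a, b', hb', e⟩ := d.centralizer_w_CV x.2 hcomm
      have hx : x = (⟨d.w, d.w_mem_CV⟩ : d.CV) ^ (a : ℕ) * ⟨d.κ5 b', d.κ5_mem_CV.2 hb'⟩ := Subtype.ext e
      rw [hx, map_mul, map_pow, show π ⟨d.κ5 b', d.κ5_mem_CV.2 hb'⟩ = 1 from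
        (QuotientGroup.eq_one_iff _).2 (Subgroup.mem_subgroupOf.2 ⟨b', hb', rfl⟩), mul_one]
      exact Subgroup.npow_mem_zpowers _ _
    · intro q hq
      rw [Subgroup.mem_centralizer_iff]
      intro y hy
      obtain ⟨m, rfl⟩ := Subgroup.mem_zpowers_iff.1 hy
      obtain ⟨n, rfl⟩ := Subgroup.mem_zpowers_iff.1 hq
      exact (Commute.refl wb).zpow_zpow m n
  have key : ∀ N : Subgroup (d.CV ⧸ V'), N.Normal → ¬ 3 ∣ Nat.card N → N = ⊥ := by
    intro N hN h3
    have h3' : ¬ 3 ∣ Nat.card (N.comap π) := by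
      have h := Subgroup.card_eq_card_quotient_mul_card_subgroup (V'.subgroupOf (N.comap π))
      intro h'
      have hVle : V' ≤ N.comap π := by
        intro v hv
        rw [Subgroup.mem_comap, show π v = 1 from (QuotientGroup.eq_one_iff _).2 hv]
        exact one_mem _
      have hi := Subgroup.card_mul_index (N.comap π)
      rw [Subgroup.index_comap_of_surjective _ hπs] at hi
      have hj := Subgroup.card_mul_index N
      have hpos : 0 < N.index := Nat.pos_of_ne_zero Subgroup.index_ne_zero_of_finite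
      have : Nat.card (N.comap π) = Nat.card N * 4 := by
        refine Nat.eq_of_mul_eq_mul_right hpos ?_
        rw [hi, hcard, ← hj]; ring
      rw [this] at h'
      exact ((Nat.Prime.dvd_mul Nat.prime_three).1 h').elim h3 (by norm_num)
    have hle := d.normal3_le_Vk hs h3'
    rw [eq_bot_iff]
    intro q hq
    obtain ⟨x, rfl⟩ := hπs q
    exact (QuotientGroup.eq_one_iff _).2 (Subgroup.mem_subgroupOf.2 (hle ⟨x, hq, rfl⟩))
  have hquot : ∀ N : Subgroup (d.CV ⧸ V'), N = ⊥ → Nat.card ((d.CV ⧸ V') ⧸ N) = Nat.card (d.CV ⧸ V') := by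
    intro N hN
    subst hN
    exact Nat.card_congr QuotientGroup.quotientBot.toEquiv
  rcases S3331.result X hX hC with ⟨N, hN, -, hcop, hq⟩ | ⟨N, hN, -, hsq, ⟨e⟩⟩ | ⟨⟨e⟩⟩
  · have hN1 := key N hN ((Nat.Prime.coprime_iff_not_dvd Nat.prime_three).1 hcop.symm)
    rw [hcard]
    rcases hq with h | ⟨⟨e⟩⟩
    · rw [hquot N hN1] at h; rw [h]; norm_num
    · have h := Nat.card_congr e.toEquiv
      rw [hquot N hN1, Nat.card_perm, Nat.card_fin] at h
      rw [h]; norm_num [Nat.factorial]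
  · have hN1 := key N hN (fun h3 => by
      obtain ⟨n, hn⟩ := exists_prime_orderOf_dvd_card' 3 h3
      have h2 : n ^ 2 = 1 := Subtype.ext (hsq _ n.2)
      have := orderOf_dvd_of_pow_eq_one h2
      rw [hn] at this
      omega)
    have h := Nat.card_congr e.toEquiv
    rw [hquot N hN1] at h
    rw [hcard, h]
    right; right
    rw [nat_card_alternatingGroup, Nat.card_fin]
    rfl
  · exfalso
    haveI : Fact (Nat.Prime 7) := ⟨by norm_num⟩
    have h168 : Nat.card (d.CV ⧸ V') = 168 := by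
      have h := Cfsg.Agent.PSL2.Recog.card_PSL_odd (F := ZMod 7) (show (2 : ZMod 7) ≠ 0 by decide +revert)
      rw [ZMod.card] at h
      rw [Nat.card_congr e.toEquiv]
      norm_num at h ⊢
      omega
    rw [h168] at hcard
    norm_num at hcard
    obtain ⟨Q0⟩ : Nonempty (Sylow 7 d.CV) := inferInstance
    have hQc : Nat.card (Q0 : Subgroup d.CV) = 7 := by
      rw [Sylow.card_eq_multiplicity, hcard]
      have : Nat.factorization 672 7 = 1 := by
        rw [show (672 : ℕ) = 7 * 96 by norm_num, Nat.factorization_mul (by norm_num) (by norm_num),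
          Finsupp.add_apply, Nat.Prime.factorization_self (by norm_num),
          Nat.factorization_eq_zero_of_not_dvd (by norm_num)]
      rw [this, pow_one]
    have hn7 : ¬ 3 ∣ Nat.card (Sylow 7 d.CV) := by
      have hd : Nat.card (Sylow 7 d.CV) ∣ 96 := by
        have h := Q0.card_dvd_index
        have hi := Subgroup.card_mul_index (Q0 : Subgroup d.CV)
        rw [hQc, hcard] at hi
        rwa [show (Q0 : Subgroup d.CV).index = 96 by omega] at h
      have hm := card_sylow_modEq_one 7 d.CV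
      generalize Nat.card (Sylow 7 d.CV) = n at hd hm
      have hle := Nat.le_of_dvd (by norm_num) hd
      unfold Nat.ModEq at hm
      intro h3
      interval_cases n <;> omega
    -- `D` fixes one of the Sylow 7-subgroups
    letI : MulDistribMulAction d.D d.CV :=
      MulDistribMulAction.compHom d.CV (Subgroup.inclusion d.D_le_normalizer_CV)
    obtain ⟨Q, hQ⟩ := (show IsPGroup 3 d.D by rw [d.hDP]; exact d.P.isPGroup').nonempty_fixed_point_of_prime_not_dvd_card
      (Sylow 7 d.CV) hn7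
    set M := (Q : Subgroup d.CV).map d.CV.subtype with hMdef
    have hMc : Nat.card M = 7 := by
      rw [hMdef, Subgroup.card_map_of_injective d.CV.subtype_injective, Sylow.card_eq_multiplicity,
        ← Q0.card_eq_multiplicity, hQc]
    have hDM : d.D ≤ Subgroup.normalizer (M : Set G) := by
      intro n hn
      refine mem_normalizer_of_conj_mem ?_
      rintro _ ⟨x, hx, rfl⟩
      have hfix : (⟨n, hn⟩ : d.D) • Q = Q := hQ _
      have hm : (⟨n, hn⟩ : d.D) • x ∈ (((⟨n, hn⟩ : d.D) • Q : Sylow 7 d.CV) : Subgroup d.CV) :=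
        Subgroup.smul_mem_pointwise_smul _ _ _ hx
      rw [hfix] at hm
      exact ⟨_, hm, rfl⟩
    have hsub := d.le_Vk (Subgroup.map_subtype_le _) hDM (by rw [hMc]; norm_num) fun x hxM hxz => by
      obtain ⟨k, rfl, -⟩ := d.exists_ι_of_commute hxz
      have h7 : d.ι k ^ 7 = 1 := by rw [← hMc]; exact congrArg Subtype.val (pow_card_eq_one' (x := (⟨_, hxM⟩ : M)))
      rw [← map_pow] at h7
      have hk : k ^ 7 = 1 := d.inj (h7.trans (map_one _).symm)
      have hk' : k ^ Nat.card SF = 1 := pow_card_eq_one'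
      rw [Nat.card_prod, Nat.card_perm, Nat.card_perm, Nat.card_fin, Nat.card_fin] at hk'
      have := pow_gcd_eq_one.2 ⟨hk, hk'⟩
      rw [show Nat.gcd 7 (Nat.factorial 3 * Nat.factorial 5) = 1 by decide, pow_one] at this
      rw [this, map_one]
    have := Subgroup.card_dvd_of_le hsub
    rw [hMc, d.card_Vk] at this
    norm_num at this

end Data

end Cfsg.Agent.SymEightLocal
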