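import Mathlib

/-!
# Chains in the symmetric group of degree six, case one
-/

set_option autoImplicit false

namespace Cfsg.Agent.SymEightLocal

open Equiv

set_option synthInstance.maxHeartbeats 200000
set_option synthInstance.maxSize 1024
set_option maxHeartbeats 0

/-- Nontrivial involutions centralising the representative. -/
def comm_one : List (Perm (Fin 6)) := [
    c[4, 5], c[3, 4], c[3, 5], c[2, 3],
    c[2, 3] * c[4, 5], c[2, 4], c[2, 4] * c[3, 5], c[2, 5],
    c[2, 5] * c[3, 4], c[0, 1], c[0, 1] * c[4, 5], c[0, 1] * c[3, 4],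
    c[0, 1] * c[3, 5], c[0, 1] * c[2, 3], c[0, 1] * c[2, 3] * c[4, 5], c[0, 1] * c[2, 4],
    c[0, 1] * c[2, 4] * c[3, 5], c[0, 1] * c[2, 5], c[0, 1] * c[2, 5] * c[3, 4]]

/-- Involutions generating a symmetric group of degree three with the representative. -/
def braid_one : List (Perm (Fin 6)) := [
    c[1, 2], c[1, 3], c[1, 4], c[1, 5],
    c[0, 2], c[0, 3], c[0, 4], c[0, 5]]

theorem mem_comm_one : ∀ x : Perm (Fin 6), x * x = 1 → x ≠ 1 → x * c[0, 1] = c[0, 1] * x →
    x ∈ comm_one := by decide +kernel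

theorem mem_braid_one : ∀ x : Perm (Fin 6), x * x = 1 → x ≠ c[0, 1] → (x * c[0, 1]) ^ 3 = 1 →
    x ∈ braid_one := by decide +kernel

theorem chain_one_list : ∀ c ∈ braid_one, ∀ b ∈ comm_one, b ≠ c → b ≠ c[0, 1] → (b * c) ^ 3 = 1 →
    ∀ a ∈ comm_one, a ≠ b → (a * b) ^ 3 = 1 → a * c = c * a →
    ∀ q ∈ comm_one, q ≠ a → q * c = c * q →
    ∀ q' ∈ comm_one, q' ≠ a → q' ≠ q → q' * c = c * q' →
    q * b = b * q ∨ q' * b = b * q' := by decide +kernel

end Cfsg.Agent.SymEightLocal
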