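import Mathlib

/-!
# Chains in the symmetric group of degree six, case two
-/

set_option autoImplicit false

namespace Cfsg.Agent.SymEightLocal

open Equiv

set_option synthInstance.maxHeartbeats 200000
set_option synthInstance.maxSize 1024
set_option maxHeartbeats 0

/-- Nontrivial involutions centralising the representative. -/
def comm_two : List (Perm (Fin 6)) := [
    c[4, 5], c[2, 3], c[2, 3] * c[4, 5], c[0, 1],
    c[0, 1] * c[4, 5], c[0, 1] * c[2, 3], c[0, 1] * c[2, 3] * c[4, 5], c[0, 2] * c[1, 3],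
    c[0, 2] * c[1, 3] * c[4, 5], c[0, 3] * c[1, 2], c[0, 3] * c[1, 2] * c[4, 5]]

/-- Involutions generating a symmetric group of degree three with the representative. -/
def braid_two : List (Perm (Fin 6)) := [
    c[1, 4] * c[3, 5], c[1, 4] * c[2, 3], c[1, 4] * c[2, 5], c[1, 5] * c[3, 4],
    c[1, 5] * c[2, 3], c[1, 5] * c[2, 4], c[0, 1] * c[3, 4], c[0, 1] * c[3, 5],
    c[0, 1] * c[2, 4], c[0, 1] * c[2, 5], c[0, 4] * c[3, 5], c[0, 4] * c[2, 3],
    c[0, 4] * c[2, 5], c[0, 5] * c[3, 4], c[0, 5] * c[2, 3], c[0, 5] * c[2, 4]]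

theorem mem_comm_two : ∀ x : Perm (Fin 6), x * x = 1 → x ≠ 1 → x * (c[0, 1] * c[2, 3]) = (c[0, 1] * c[2, 3]) * x →
    x ∈ comm_two := by decide +kernel

theorem mem_braid_two : ∀ x : Perm (Fin 6), x * x = 1 → x ≠ (c[0, 1] * c[2, 3]) → (x * (c[0, 1] * c[2, 3])) ^ 3 = 1 →
    x ∈ braid_two := by decide +kernel

theorem chain_two_list : ∀ c ∈ braid_two, ∀ b ∈ comm_two, b ≠ c → b ≠ (c[0, 1] * c[2, 3]) → (b * c) ^ 3 = 1 →
    ∀ a ∈ comm_two, a ≠ b → (a * b) ^ 3 = 1 → a * c = c * a →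
    ∀ q ∈ comm_two, q ≠ a → q * c = c * q →
    ∀ q' ∈ comm_two, q' ≠ a → q' ≠ q → q' * c = c * q' →
    q * b = b * q ∨ q' * b = b * q' := by decide +kernel

end Cfsg.Agent.SymEightLocal
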