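import Mathlib
import Cfsg.Agent.Lib.SymEightLocal.SixOne
import Cfsg.Agent.Lib.SymEightLocal.SixTwo
import Cfsg.Agent.Lib.SymEightLocal.SixThree

/-!
# Five transpositions in a row in the symmetric group of degree six
-/

set_option autoImplicit false

namespace Cfsg.Agent.SymEightLocal

open Equiv

set_option synthInstance.maxHeartbeats 200000
set_option synthInstance.maxSize 1024
set_option maxHeartbeats 0

theorem invol_classes : ∀ e : Perm (Fin 6), e * e = 1 → e ≠ 1 →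
    ∃ π : Perm (Fin 6), π * e * π⁻¹ = c[0, 1] ∨ π * e * π⁻¹ = c[0, 1] * c[2, 3] ∨
      π * e * π⁻¹ = c[0, 1] * c[2, 3] * c[4, 5] := by decide +kernel

/-- One of two further members of a chain commutes with the third. -/
theorem six_chain {a b c e q q' : Perm (Fin 6)} (ha : a * a = 1) (hb : b * b = 1) (hc : c * c = 1)
    (he : e * e = 1) (he1 : e ≠ 1) (hq : q * q = 1) (hq' : q' * q' = 1) (hq1 : q ≠ 1) (hq1' : q' ≠ 1)
    (nce : c ≠ e) (nbc : b ≠ c) (nbe : b ≠ e) (nab : a ≠ b) (nqa : q ≠ a) (nqa' : q' ≠ a) (nqq : q' ≠ q)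
    (rce : (c * e) ^ 3 = 1) (rbc : (b * c) ^ 3 = 1) (rab : (a * b) ^ 3 = 1)
    (kbe : b * e = e * b) (kae : a * e = e * a) (kac : a * c = c * a)
    (kqe : q * e = e * q) (kqc : q * c = c * q) (kqe' : q' * e = e * q') (kqc' : q' * c = c * q') :
    q * b = b * q ∨ q' * b = b * q' := by
  obtain ⟨π, hπ⟩ := invol_classes e he he1
  let f := MulAut.conj π
  have hinj := f.injective
  have sq : ∀ {x : Perm (Fin 6)}, x * x = 1 → f x * f x = 1 := fun h => by rw [← map_mul, h, map_one]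
  have ne : ∀ {x y : Perm (Fin 6)}, x ≠ y → f x ≠ f y := fun h e => h (hinj e)
  have ne1 : ∀ {x : Perm (Fin 6)}, x ≠ 1 → f x ≠ 1 := fun h e => h (hinj (e.trans (map_one f).symm))
  have p3 : ∀ {x y : Perm (Fin 6)}, (x * y) ^ 3 = 1 → (f x * f y) ^ 3 = 1 := fun h => by
    rw [← map_mul, ← map_pow, h, map_one]
  have cm : ∀ {x y : Perm (Fin 6)}, x * y = y * x → f x * f y = f y * f x := fun h => by
    rw [← map_mul, ← map_mul, h]
  have back : ∀ {x y : Perm (Fin 6)}, f x * f y = f y * f x → x * y = y * x := fun h => hinj (by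
    rw [map_mul, map_mul, h])
  have hfe : f e = π * e * π⁻¹ := rfl
  have one_of : ∀ {x : Perm (Fin 6)}, x * x = 1 → (1 * x) ^ 3 = 1 → x = 1 := fun {x} h h3 => by
    rw [one_mul, pow_succ, pow_two, h, one_mul] at h3; exact h3
  have hc1 : c ≠ 1 := fun h => he1 (one_of he (h ▸ rce))
  have hb1 : b ≠ 1 := fun h => hc1 (one_of hc (h ▸ rbc))
  have ha1 : a ≠ 1 := fun h => hb1 (one_of hb (h ▸ rab))
  rcases hπ with h | h | h <;> rw [← hfe] at h
  · exact (chain_one_list _ (mem_braid_one _ (sq hc) (h ▸ ne nce) (h ▸ p3 rce))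
      _ (mem_comm_one _ (sq hb) (ne1 hb1) (h ▸ cm kbe)) (ne nbc) (h ▸ ne nbe) (p3 rbc)
      _ (mem_comm_one _ (sq ha) (ne1 ha1) (h ▸ cm kae)) (ne nab) (p3 rab) (cm kac)
      _ (mem_comm_one _ (sq hq) (ne1 hq1) (h ▸ cm kqe)) (ne nqa) (cm kqc)
      _ (mem_comm_one _ (sq hq') (ne1 hq1') (h ▸ cm kqe')) (ne nqa') (ne nqq) (cm kqc')).imp back back
  · exact (chain_two_list _ (mem_braid_two _ (sq hc) (h ▸ ne nce) (h ▸ p3 rce))
      _ (mem_comm_two _ (sq hb) (ne1 hb1) (h ▸ cm kbe)) (ne nbc) (h ▸ ne nbe) (p3 rbc)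
      _ (mem_comm_two _ (sq ha) (ne1 ha1) (h ▸ cm kae)) (ne nab) (p3 rab) (cm kac)
      _ (mem_comm_two _ (sq hq) (ne1 hq1) (h ▸ cm kqe)) (ne nqa) (cm kqc)
      _ (mem_comm_two _ (sq hq') (ne1 hq1') (h ▸ cm kqe')) (ne nqa') (ne nqq) (cm kqc')).imp back back
  · exact (chain_three_list _ (mem_braid_three _ (sq hc) (h ▸ ne nce) (h ▸ p3 rce))
      _ (mem_comm_three _ (sq hb) (ne1 hb1) (h ▸ cm kbe)) (ne nbc) (h ▸ ne nbe) (p3 rbc)
      _ (mem_comm_three _ (sq ha) (ne1 ha1) (h ▸ cm kae)) (ne nab) (p3 rab) (cm kac)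
      _ (mem_comm_three _ (sq hq) (ne1 hq1) (h ▸ cm kqe)) (ne nqa) (cm kqc)
      _ (mem_comm_three _ (sq hq') (ne1 hq1') (h ▸ cm kqe')) (ne nqa') (ne nqq) (cm kqc')).imp back back

end Cfsg.Agent.SymEightLocal
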