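import Mathlib
import Cfsg.Agent.Lib.SymEightLocal.EvenCV
import Cfsg.Agent.Lib.SymEightLocal.SixLemma

/-!
# In the even configuration the centraliser of `i` is small
-/

set_option autoImplicit false

namespace Cfsg.Agent.SymEightLocal

open Equiv EightLocal

universe u

set_option synthInstance.maxHeartbeats 200000
set_option synthInstance.maxSize 1024

theorem card_comm_reps : Nat.card {x : Perm (Fin 6) // x * c[0, 1] = c[0, 1] * x} = 48 ∧
    Nat.card {x : Perm (Fin 6) // x * (c[0, 1] * c[2, 3] * c[4, 5]) = c[0, 1] * c[2, 3] * c[4, 5] * x} = 48 ∧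
    (∀ y : Perm (Fin 6), y * (c[0, 1] * c[2, 3]) = c[0, 1] * c[2, 3] * y → y * y * y = 1 → y = 1) := by
  refine ⟨?_, ?_, by decide +kernel⟩ <;>
  · rw [Nat.card_eq_fintype_card, Fintype.card_subtype]
    decide +kernel

/-- An involution commuting with an element of order 3 has a centraliser of order 48. -/
theorem card_comm_invol {e y : Perm (Fin 6)} (he : e * e = 1) (he1 : e ≠ 1) (hy : y * y * y = 1) (hy1 : y ≠ 1)
    (hc : y * e = e * y) : Nat.card {x : Perm (Fin 6) // x * e = e * x} = 48 := by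
  obtain ⟨π, hπ⟩ := invol_classes e he he1
  have key : ∀ t : Perm (Fin 6), π * e * π⁻¹ = t →
      Nat.card {x : Perm (Fin 6) // x * e = e * x} = Nat.card {x : Perm (Fin 6) // x * t = t * x} := by
    rintro t rfl
    refine Nat.card_congr ((MulAut.conj π).toEquiv.subtypeEquiv fun x => ?_)
    show x * e = e * x ↔ π * x * π⁻¹ * (π * e * π⁻¹) = π * e * π⁻¹ * (π * x * π⁻¹)
    rw [show π * x * π⁻¹ * (π * e * π⁻¹) = π * (x * e) * π⁻¹ by group,
      show π * e * π⁻¹ * (π * x * π⁻¹) = π * (e * x) * π⁻¹ by group, mul_left_inj, mul_right_inj]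
  rcases hπ with h | h | h
  · rw [key _ h]; exact card_comm_reps.1
  · exfalso
    apply hy1
    have := card_comm_reps.2.2 (π * y * π⁻¹)
      (by
        rw [← h, show π * y * π⁻¹ * (π * e * π⁻¹) = π * (y * e) * π⁻¹ by group, hc]
        group)
      (by
        rw [show π * y * π⁻¹ * (π * y * π⁻¹) * (π * y * π⁻¹) = π * (y * y * y) * π⁻¹ by group, hy]
        group)
    exact conj_eq_one_iff.1 this
  · rw [key _ h]; exact card_comm_reps.2.1

theorem four_rigid : ∀ a : Perm (Fin 4), a * a * a = 1 → a ≠ 1 → ∀ b : Perm (Fin 4), b * a * b⁻¹ = a⁻¹ →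
    ∀ σ : Perm (Fin 4), σ * a = a * σ → σ * b = b * σ → σ = 1 := by decide +kernel

theorem pair_values :
    v5 * i5 ≠ i5 * v5 ∧
    (∀ x : Perm (Fin 5), x * i5 = i5 * x → x * b5 = b5 * x → x ^ 4 = 1) ∧
    (∀ b ∈ [1, i5, b5, i5 * b5], (v5 * b) * (v5 * b) = 1 → b = 1 ∨ b = b5) ∧
    (∀ a : Perm (Fin 3), (a ^ 3 = 1 ∨ a * a = 1) → a = 1 ∨ a ^ 4 = c[0, 1, 2] ∨ a ^ 4 = (c[0, 1, 2])⁻¹ ∨
      c[0, 1, 2] * a * (c[0, 1, 2] : Perm (Fin 3))⁻¹ * a⁻¹ = c[0, 1, 2] ∨
      c[0, 1, 2] * a * (c[0, 1, 2] : Perm (Fin 3))⁻¹ * a⁻¹ = (c[0, 1, 2])⁻¹) ∧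
    (∀ a : Perm (Fin 3), (a * c[0, 1, 2] * a⁻¹ = c[0, 1, 2] ∨ a * c[0, 1, 2] * a⁻¹ = (c[0, 1, 2])⁻¹) ∧
      (a ^ 3 = 1 ∨ a * a = 1)) := by
  decide +kernel

theorem pair_card : Nat.card {x : Perm (Fin 5) // x * i5 = i5 * x ∧ x * b5 = b5 * x} = 4 ∧
    ∀ x : Perm (Fin 5), x * i5 = i5 * x → x * b5 = b5 * x → x ∈ [1, i5, b5, i5 * b5] := by
  refine ⟨?_, by decide +kernel⟩
  rw [Nat.card_eq_fintype_card, Fintype.card_subtype]
  decide +kernel

namespace Data

variable {G : Type u} [Group G] [Finite G] (d : Data G) (hs : d.g * d.s * d.g⁻¹ = d.ι bE)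

include hs in
theorem even_κ : d.κ sS = d.ι bE ∧ d.κ bE = d.s := by
  refine ⟨hs, ?_⟩
  have h := d.conj_g sS
  rw [κ_apply d sS, hs] at h
  exact h

include hs in
theorem κ5_b : d.κ5 b5 = d.s := by rw [κ5_apply, ← five_eqs.2.2.1]; exact (d.even_κ hs).2

include hs in
theorem not_isI_s : ¬ d.IsI d.s := by
  rw [← (d.even_κ hs).2]
  exact d.not_isI_κ (by decide +kernel) (by decide +kernel)

include hs in
theorem isI_si : d.IsI (d.s * d.i) := by
  refine ⟨d.κ (1, c[0, 3] * c[1, 4]), ?_⟩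
  rw [← (d.even_κ hs).2, ← κ_iS, ← map_inv, ← map_mul, ← map_mul, ← map_mul]
  congr 1
  decide +kernel

include hs in
theorem isI_ri : d.IsI (d.ι bE * d.i) := by
  refine ⟨d.ι (1, c[0, 3] * c[1, 4]), ?_⟩
  rw [i, ← map_inv, ← map_mul, ← map_mul, ← map_mul]
  congr 1
  decide +kernel

theorem s_commute_i : d.s * d.i = d.i * d.s := by
  rw [s, i, ← map_mul, ← map_mul]
  congr 1

/-- the centraliser of the pair `(s, v)` -/
def CW : Subgroup G := Subgroup.centralizer ({d.s, d.κ5 v5} : Set G)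

theorem mem_CW {x : G} : x ∈ d.CW ↔ x * d.s = d.s * x ∧ x * d.κ5 v5 = d.κ5 v5 * x := by
  rw [CW, Subgroup.mem_centralizer_iff]
  simp only [Set.mem_insert_iff, Set.mem_singleton_iff, forall_eq_or_imp, forall_eq]
  exact ⟨fun h => ⟨h.1.symm, h.2.symm⟩, fun h => ⟨h.1.symm, h.2.symm⟩⟩

include hs in
theorem card_CW_dvd : Nat.card d.CW ∣ Nat.card d.CV := by
  have hle : d.CW.map (MulAut.conj (d.κ5 c[1, 2])⁻¹).toMonoidHom ≤ d.CV := by
    rintro _ ⟨x, hx, rfl⟩
    obtain ⟨h1, h2⟩ := d.mem_CW.1 hx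
    rw [d.mem_CV]
    intro p hp
    have hc : Commute x (d.κ5 (c[1, 2] * p * (c[1, 2] : Perm (Fin 5))⁻¹)) := by
      have := V5_to_W p hp
      simp only [List.mem_cons, List.not_mem_nil, or_false] at this
      rcases this with e | e | e | e <;> rw [e]
      · rw [map_one]; exact Commute.one_right _
      · rw [d.κ5_b hs]; exact h1
      · exact h2
      · rw [map_mul, d.κ5_b hs]; exact Commute.mul_right h2 h1
    have h := hc.map (MulAut.conj (d.κ5 c[1, 2])⁻¹).toMonoidHom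
    have e : (MulAut.conj (d.κ5 c[1, 2])⁻¹).toMonoidHom (d.κ5 (c[1, 2] * p * (c[1, 2] : Perm (Fin 5))⁻¹)) = d.κ5 p := by
      show (d.κ5 c[1, 2])⁻¹ * _ * (d.κ5 c[1, 2])⁻¹⁻¹ = _
      rw [inv_inv, map_mul, map_mul, map_inv]
      group
    rwa [e] at h
  have := Subgroup.card_dvd_of_le hle
  rwa [Subgroup.card_map_of_injective (MulAut.conj (d.κ5 c[1, 2])⁻¹).injective] at this

include hs in
theorem not_six (e : d.Ci ⧸ d.Zi ≃* Perm (Fin 6)) : False := by
  classical
  haveI : Fact (Nat.Prime 3) := ⟨Nat.prime_three⟩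
  set π : d.Ci →* Perm (Fin 6) := e.toMonoidHom.comp (QuotientGroup.mk' d.Zi) with hπ
  have hπs : Function.Surjective π := e.surjective.comp (QuotientGroup.mk'_surjective _)
  have hker : ∀ c : d.Ci, π c = 1 → c.1 = 1 ∨ c.1 = d.i := fun c h =>
    d.mem_Zi ((QuotientGroup.eq_one_iff _).1 (e.injective (h.trans (map_one e).symm)))
  have hsCi : d.s ∈ d.Ci := d.mem_Ci.2 d.s_commute_i
  set sc : d.Ci := ⟨d.s, hsCi⟩
  set wc : d.Ci := ⟨d.w, d.centI_D_le d.w_mem⟩
  have hs2 : d.s * d.s = 1 := by rw [s, ← map_mul, values.2.2.2.2.2.2.2.1, map_one]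
  have hs1 : d.s ≠ 1 := fun h => (by decide +kernel : sS ≠ 1) (d.inj (h.trans (map_one _).symm))
  have hsi : d.s ≠ d.i := fun h => d.not_isI_s hs (h ▸ d.isI_i)
  have he1 : π sc ≠ 1 := fun h => (hker _ h).elim hs1 hsi
  have hy1 : π wc ≠ 1 := fun h => (hker _ h).elim d.w_ne_one fun h' => by
    have h3 := d.w_cube
    rw [show d.w = d.i from h', pow_succ, pow_two, i_sq, one_mul] at h3
    exact d.i_ne_one h3
  have hsw : d.w * d.s = d.s * d.w := by
    rw [w, s, ← map_mul, ← map_mul]; congr 1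
  have h48 := card_comm_invol (e := π sc) (y := π wc)
    (by rw [← map_mul, show sc * sc = 1 from Subtype.ext hs2, map_one]) he1
    (by rw [← map_mul, ← map_mul, show wc * wc * wc = 1 from Subtype.ext (by
      simpa [pow_succ, mul_assoc] using d.w_cube), map_one]) hy1
    (by rw [← map_mul, ← map_mul, show wc * sc = sc * wc from Subtype.ext hsw])
  set L := Subgroup.centralizer ({d.i, d.s} : Set G) with hL
  have memL : ∀ {x}, x ∈ L ↔ x * d.i = d.i * x ∧ x * d.s = d.s * x := by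
    intro x
    rw [hL, Subgroup.mem_centralizer_iff]
    simp only [Set.mem_insert_iff, Set.mem_singleton_iff, forall_eq_or_imp, forall_eq]
    exact ⟨fun h => ⟨h.1.symm, h.2.symm⟩, fun h => ⟨h.1.symm, h.2.symm⟩⟩
  have hL96 : Nat.card L = 96 := by
    set S6 := Subgroup.centralizer ({π sc} : Set (Perm (Fin 6))) with hS6
    have hLi : L ≤ d.Ci := fun x hx => d.mem_Ci.2 (memL.1 hx).1
    have hcm : L.subgroupOf d.Ci = S6.comap π := by
      ext x
      rw [Subgroup.mem_subgroupOf, memL, Subgroup.mem_comap, hS6, Subgroup.mem_centralizer_singleton_iff]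
      constructor
      · intro h
        rw [← map_mul, ← map_mul, show x * sc = sc * x from Subtype.ext h.2]
      · intro h
        refine ⟨d.mem_Ci.1 x.2, ?_⟩
        have hk : π (sc⁻¹ * (x * sc * x⁻¹)) = 1 := by
          rw [map_mul, map_mul, map_mul, map_inv, map_inv, h, mul_inv_cancel_right, inv_mul_cancel]
        rcases hker _ hk with f | f
        · exact mul_inv_eq_iff_eq_mul.1 (inv_mul_eq_one.1 (show d.s⁻¹ * (x.1 * d.s * (x.1)⁻¹) = 1 from f)).symm
        · exfalso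
          have f' : x.1 * d.s * (x.1)⁻¹ = d.s * d.i :=
            inv_mul_eq_iff_eq_mul.1 (show d.s⁻¹ * (x.1 * d.s * (x.1)⁻¹) = d.i from f)
          apply d.not_isI_s hs
          have := d.isI_conj (f' ▸ d.isI_si hs : d.IsI (x.1 * d.s * (x.1)⁻¹)) (x.1)⁻¹
          rwa [show (x.1)⁻¹ * (x.1 * d.s * (x.1)⁻¹) * (x.1)⁻¹⁻¹ = d.s by group] at this
    have h6 : Nat.card S6 = 48 := by
      rw [← h48]
      exact Nat.card_congr (Equiv.subtypeEquivRight fun x => Subgroup.mem_centralizer_singleton_iff)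
    rw [← Nat.card_congr (Subgroup.subgroupOfEquivOfLe hLi).toEquiv, hcm]
    have h1 := Subgroup.card_mul_index (S6.comap π)
    rw [Subgroup.index_comap_of_surjective _ hπs, Subgroup.card_eq_card_quotient_mul_card_subgroup d.Zi,
      d.card_Zi, Nat.card_congr e.toEquiv, ← Subgroup.card_mul_index S6, h6] at h1
    have hpos : 0 < S6.index := Nat.pos_of_ne_zero Subgroup.index_ne_zero_of_finite
    exact Nat.eq_of_mul_eq_mul_right hpos (h1.trans (by ring))
  -- the normaliser of `L`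
  set N := Subgroup.normalizer (L : Set G)
  have hv2 : d.κ5 v5 * d.κ5 v5 = 1 := by rw [← map_mul, five_values.1, map_one]
  have hvi : d.κ5 v5 * d.i * (d.κ5 v5)⁻¹ = d.s * d.i := by
    rw [← κ5_i, ← d.κ5_b hs, ← map_inv, ← map_mul, ← map_mul, ← map_mul]
    congr 1
    decide +kernel
  have hvs : d.κ5 v5 * d.s = d.s * d.κ5 v5 := by
    rw [← d.κ5_b hs, ← map_mul, ← map_mul, five_values.2.2.2.2.2.1]
  have hvN : d.κ5 v5 ∈ N := by
    refine mem_normalizer_of_conj_mem fun x hx => ?_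
    obtain ⟨h1, h2⟩ := memL.1 hx
    set v := d.κ5 v5
    have hvinv : v⁻¹ = v := inv_eq_of_mul_eq_one_right hv2
    have c1 : Commute (v * x * v⁻¹) (d.s * d.i) := hvi ▸ (show Commute x d.i from h1).map (MulAut.conj v).toMonoidHom
    have c2 : Commute (v * x * v⁻¹) d.s := by
      have h := (show Commute x d.s from h2).map (MulAut.conj v).toMonoidHom
      have e' : v * d.s * v⁻¹ = d.s := by rw [hvs]; group
      have h' : Commute (v * x * v⁻¹) (v * d.s * v⁻¹) := h
      rwa [e'] at h'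
    refine memL.2 ⟨?_, c2⟩
    have := (c2.inv_right).mul_right c1
    rwa [← mul_assoc, inv_mul_cancel, one_mul] at this
  have hκL : ∀ k : SF, k.2 * i5 = i5 * k.2 → k.2 * b5 = b5 * k.2 → d.κ k ∈ L := by
    intro k h1 h2
    refine memL.2 ⟨?_, ?_⟩
    · rw [← κ_iS, ← map_mul, ← map_mul, five_eqs.1]
      congr 1
      ext1 <;> simp [h1]
    · rw [← (d.even_κ hs).2, ← map_mul, ← map_mul, five_eqs.2.2.1]
      congr 1
      ext1 <;> simp [h2]
  have hwL : d.w ∈ L := by rw [← κ_zS]; exact hκL _ (by simp [zS]) (by simp [zS])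
  have hrL : d.κ sS ∈ L := hκL _ (by simp [sS]) (by simp [sS])
  set P0 : Subgroup L := Subgroup.zpowers ⟨d.w, hwL⟩
  have hP0 : Nat.card P0 = 3 := by rw [Nat.card_zpowers, Subgroup.orderOf_mk, d.orderOf_w]
  have hS3 : ∀ R : Sylow 3 L, Nat.card (R : Subgroup L) = 3 := by
    intro R
    rw [Sylow.card_eq_multiplicity, hL96, show (96 : ℕ) = 3 * 32 by norm_num,
      Nat.factorization_mul (by norm_num) (by norm_num), Finsupp.add_apply,
      Nat.Prime.factorization_self Nat.prime_three, Nat.factorization_eq_zero_of_not_dvd (by norm_num), pow_one]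
  let R0 : Sylow 3 L := (IsPGroup.of_card (n := 1) (show Nat.card P0 = 3 ^ 1 by rw [hP0, pow_one])).toSylow (by
    have h := Subgroup.card_mul_index P0
    rw [hP0, hL96] at h
    omega)
  -- the normaliser of `⟨w⟩` in `L`
  have hline : ∀ x : G, (x * d.w * x⁻¹ = d.w ∨ x * d.w * x⁻¹ = d.w⁻¹) → x ∈ L →
      ∃ k : SF, k.2 * i5 = i5 * k.2 ∧ k.2 * b5 = b5 * k.2 ∧ d.κ k = x := by
    intro x hx hxL
    obtain ⟨k, rfl⟩ := (d.κ_range_iff x).2 hx
    obtain ⟨h1, h2⟩ := memL.1 hxL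
    rw [← κ_iS, ← map_mul, ← map_mul, five_eqs.1] at h1
    rw [← (d.even_κ hs).2, ← map_mul, ← map_mul, five_eqs.2.2.1] at h2
    exact ⟨k, congrArg Prod.snd (d.κ_injective h1), congrArg Prod.snd (d.κ_injective h2), rfl⟩
  have hP0mem : ∀ y : L, y ∈ P0 → y.1 = 1 ∨ y.1 = d.w ∨ y.1 = d.w⁻¹ := by
    intro y hy
    classical
    rw [mem_zpowers_iff_mem_range_orderOf, Subgroup.orderOf_mk, d.orderOf_w] at hy
    simp only [Finset.mem_image, Finset.mem_range] at hy
    obtain ⟨n, hn, rfl⟩ := hy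
    rw [Subgroup.coe_pow]
    interval_cases n
    · exact Or.inl (pow_zero _)
    · exact Or.inr (Or.inl (pow_one _))
    · right; right
      rw [eq_inv_iff_mul_eq_one, ← pow_succ]
      exact d.w_cube
  set NP := Subgroup.normalizer (P0 : Set L) with hNP
  have hNPmem : ∀ x : L, x ∈ NP ↔ x.1 * d.w * (x.1)⁻¹ = d.w ∨ x.1 * d.w * (x.1)⁻¹ = d.w⁻¹ := by
    intro x
    constructor
    · intro hx
      have hm : x * ⟨d.w, hwL⟩ * x⁻¹ ∈ P0 := (Subgroup.mem_normalizer_iff.1 hx _).1 (Subgroup.mem_zpowers _)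
      rcases hP0mem _ hm with h | h
      · exact absurd (conj_eq_one_iff.1 h) d.w_ne_one
      · exact h
    · intro hx
      refine mem_normalizer_of_conj_mem fun y hy => ?_
      obtain ⟨n, rfl⟩ := Subgroup.mem_zpowers_iff.1 hy
      rw [← conj_zpow]
      refine zpow_mem ?_ _
      rcases hx with h | h
      · rw [show x * ⟨d.w, hwL⟩ * x⁻¹ = ⟨d.w, hwL⟩ from Subtype.ext h]
        exact Subgroup.mem_zpowers _
      · rw [show x * ⟨d.w, hwL⟩ * x⁻¹ = (⟨d.w, hwL⟩ : L)⁻¹ from Subtype.ext h]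
        exact inv_mem (Subgroup.mem_zpowers _)
  have hzline : ∀ k : SF, d.κ k * d.w * (d.κ k)⁻¹ = d.w ∨ d.κ k * d.w * (d.κ k)⁻¹ = d.w⁻¹ := by
    intro k
    rw [← κ_zS, ← map_inv, ← map_inv, ← map_mul, ← map_mul]
    rcases (pair_values.2.2.2.2 k.1).1 with h | h
    · exact Or.inl (congrArg d.κ (Prod.ext h (by simp [zS])))
    · exact Or.inr (congrArg d.κ (Prod.ext h (by simp [zS])))
  have hNP24 : Nat.card NP = 24 := by
    let f : {k : SF // k.2 * i5 = i5 * k.2 ∧ k.2 * b5 = b5 * k.2} → NP := fun k =>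
      ⟨⟨d.κ k.1, hκL k.1 k.2.1 k.2.2⟩, (hNPmem _).2 (hzline k.1)⟩
    have hf : Function.Bijective f := by
      refine ⟨fun a b h => Subtype.ext (d.κ_injective (congrArg (fun t : NP => (t.1 : G)) h)), fun x => ?_⟩
      obtain ⟨k, h1, h2, hk⟩ := hline x.1.1 ((hNPmem _).1 x.2) x.1.2
      exact ⟨⟨k, h1, h2⟩, Subtype.ext (Subtype.ext hk)⟩
    let q : {k : SF // k.2 * i5 = i5 * k.2 ∧ k.2 * b5 = b5 * k.2} ≃
        Perm (Fin 3) × {x : Perm (Fin 5) // x * i5 = i5 * x ∧ x * b5 = b5 * x} :=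
      { toFun := fun k => (k.1.1, ⟨k.1.2, k.2⟩)
        invFun := fun k => ⟨(k.1, k.2.1), k.2.2⟩
        left_inv := fun k => rfl
        right_inv := fun k => rfl }
    rw [← Nat.card_congr (Equiv.ofBijective f hf), Nat.card_congr q, Nat.card_prod, Nat.card_perm,
      Nat.card_fin, pair_card.1]
    rfl
  have hn4 : Nat.card (Sylow 3 L) = 4 := by
    rw [R0.card_eq_index_normalizer]
    have h := Subgroup.card_mul_index NP
    rw [hNP24, hL96] at h
    show NP.index = 4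
    omega
  set E4 := Finite.equivFinOfCardEq hn4
  set θ : N →* Perm (Fin 4) := (E4.permCongrHom).toMonoidHom.comp (MulAction.toPermHom N (Sylow 3 L))
  have hθ : ∀ n : N, θ n = 1 → ∀ R : Sylow 3 L, n • R = R := by
    intro n hn R
    have h1 : MulAction.toPermHom N (Sylow 3 L) n = 1 := E4.permCongrHom.injective (hn.trans (map_one _).symm)
    exact congrArg (fun σ : Perm (Sylow 3 L) => σ R) h1
  let ins : L →* N := Subgroup.inclusion Subgroup.le_normalizer
  have hact : ∀ (x : L) (R : Sylow 3 L), ins x • R = x • R := fun x R => rfl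
  have hfix : ∀ x : L, θ (ins x) = 1 → ∀ R : Sylow 3 L, x ∈ Subgroup.normalizer ((R : Subgroup L) : Set L) :=
    fun x hx R => Sylow.smul_eq_iff_mem_normalizer.1 ((hact x R).symm.trans (hθ _ hx R))
  set w' : N := ins ⟨d.w, hwL⟩ with hw'
  set r' : N := ins ⟨d.κ sS, hrL⟩ with hr'
  set v' : N := ⟨d.κ5 v5, hvN⟩ with hv'
  have hw1 : θ w' ≠ 1 := by
    intro h
    have hall : ∀ R : Sylow 3 L, (R : Subgroup L) = P0 := fun R => by
      have h1 : P0 ≤ Subgroup.normalizer ((R : Subgroup L) : Set L) := Subgroup.zpowers_le.2 (hfix _ h R)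
      have hP : IsPGroup 3 P0 := IsPGroup.of_card (n := 1) (by rw [hP0, pow_one])
      have h2 : P0 ⊓ Subgroup.normalizer ((R : Subgroup L) : Set L) = P0 ⊓ (R : Subgroup L) := hP.inf_normalizer_sylow R
      rw [inf_eq_left.2 h1] at h2
      exact (Subgroup.eq_of_le_of_card_ge (h2.le.trans inf_le_right) (by rw [hS3, hP0])).symm
    haveI : Subsingleton (Sylow 3 L) := ⟨fun a b => Sylow.ext ((hall a).trans (hall b).symm)⟩
    rw [Nat.card_unique] at hn4
    omega
  have hwinv : d.κ sS * d.w * (d.κ sS)⁻¹ = d.w⁻¹ := by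
    rw [← κ_zS, ← map_inv, ← map_inv, ← map_mul, ← map_mul, values.2.2.2.2.2.2.2.2.1]
  have hv1 : θ v' = 1 := by
    refine four_rigid (θ w') ?_ hw1 (θ r') ?_ _ ?_ ?_
    · rw [← map_mul, ← map_mul, show w' * w' * w' = 1 from Subtype.ext (by
        show d.w * d.w * d.w = 1
        simpa [pow_succ, mul_assoc] using d.w_cube), map_one]
    · simp only [← map_inv, ← map_mul]
      exact congrArg θ (Subtype.ext (show (r' * w' * r'⁻¹ : N).1 = (w'⁻¹ : N).1 from hwinv))
    · rw [← map_mul, ← map_mul]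
      exact congrArg θ (Subtype.ext (d.κ5_commute_w v5).eq)
    · rw [← map_mul, ← map_mul]
      refine congrArg θ (Subtype.ext ?_)
      show d.κ5 v5 * d.κ sS = d.κ sS * d.κ5 v5
      rw [κ5_apply, ← map_mul, ← map_mul]
      congr 1
  have horbit : ∀ x : L, x.1 * d.κ5 v5 * (x.1)⁻¹ = d.κ5 v5 ∨ x.1 * d.κ5 v5 * (x.1)⁻¹ = d.κ5 (v5 * b5) := by
    intro x
    have hcL : d.κ5 v5 * x.1 * (d.κ5 v5)⁻¹ * (x.1)⁻¹ ∈ L :=
      mul_mem ((Subgroup.mem_normalizer_iff.1 hvN x.1).1 x.2) (inv_mem x.2)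
    set c : L := ⟨_, hcL⟩ with hc
    have hc1 : θ (ins c) = 1 := by
      rw [show ins c = v' * ins x * v'⁻¹ * (ins x)⁻¹ from Subtype.ext rfl, map_mul, map_mul, map_mul, map_inv,
        map_inv, hv1]
      group
    have hcN : c ∈ NP := hfix c hc1 R0
    obtain ⟨k, h1, h2, hk⟩ := hline c.1 ((hNPmem c).1 hcN) c.2
    have hk4 : k.2 ^ 4 = 1 := pair_values.2.1 k.2 h1 h2
    have bad : ∀ (a : Perm (Fin 3)) (y : L), θ (ins y) = 1 → y.1 = d.κ (a, 1) →
        a = c[0, 1, 2] ∨ a = (c[0, 1, 2])⁻¹ → False := by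
      intro a y hy hya ha
      apply hw1
      rcases ha with rfl | rfl
      · rw [show w' = ins y from Subtype.ext (by show d.w = y.1; rw [hya, ← κ_zS]; rfl)]
        exact hy
      · rw [show w' = (ins y)⁻¹ from Subtype.ext (by
          show d.w = (y.1)⁻¹
          rw [hya, ← map_inv, ← κ_zS]
          congr 1), map_inv, hy, inv_one]
    have ha : k.1 = 1 := by
      rcases pair_values.2.2.2.1 k.1 (pair_values.2.2.2.2 k.1).2 with h | h | h | h | h
      · exact h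
      all_goals exfalso
      rotate_left 2
      · refine bad _ (⟨d.w, hwL⟩ * c * (⟨d.w, hwL⟩ : L)⁻¹ * c⁻¹) ?_ ?_ (Or.inl h)
        · rw [map_mul, map_mul, map_mul, map_inv, map_inv, map_mul, map_mul, map_mul, map_inv, map_inv, hc1]
          group
        · show d.w * c.1 * (d.w)⁻¹ * (c.1)⁻¹ = _
          rw [← hk, ← κ_zS, ← map_inv, ← map_inv, ← map_mul, ← map_mul, ← map_mul]
          congr 1
          ext1 <;> simp [zS]
      · refine bad _ (⟨d.w, hwL⟩ * c * (⟨d.w, hwL⟩ : L)⁻¹ * c⁻¹) ?_ ?_ (Or.inr h)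
        · rw [map_mul, map_mul, map_mul, map_inv, map_inv, map_mul, map_mul, map_mul, map_inv, map_inv, hc1]
          group
        · show d.w * c.1 * (d.w)⁻¹ * (c.1)⁻¹ = _
          rw [← hk, ← κ_zS, ← map_inv, ← map_inv, ← map_mul, ← map_mul, ← map_mul]
          congr 1
          ext1 <;> simp [zS]
      · refine bad _ (c ^ 4) (by rw [map_pow, map_pow, hc1, one_pow]) ?_ (Or.inl h)
        show c.1 ^ 4 = _
        rw [← hk, ← map_pow]
        congr 1
        ext1 <;> simp [hk4]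
      · refine bad _ (c ^ 4) (by rw [map_pow, map_pow, hc1, one_pow]) ?_ (Or.inr h)
        show c.1 ^ 4 = _
        rw [← hk, ← map_pow]
        congr 1
        ext1 <;> simp [hk4]
    have hck : c.1 = d.κ5 k.2 := by
      rw [← hk, κ5_apply]; congr 1; exact Prod.ext ha rfl
    have hy : x.1 * d.κ5 v5 * (x.1)⁻¹ = d.κ5 (v5 * k.2) := by
      rw [map_mul, ← hck]
      show _ = d.κ5 v5 * (d.κ5 v5 * x.1 * (d.κ5 v5)⁻¹ * (x.1)⁻¹)
      rw [show d.κ5 v5 * (d.κ5 v5 * x.1 * (d.κ5 v5)⁻¹ * (x.1)⁻¹) =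
        d.κ5 v5 * d.κ5 v5 * x.1 * (d.κ5 v5)⁻¹ * (x.1)⁻¹ by group, hv2, one_mul,
        inv_eq_of_mul_eq_one_right hv2]
    have hsq : (v5 * k.2) * (v5 * k.2) = 1 := d.κ5_injective (by
      rw [map_mul, ← hy, show x.1 * d.κ5 v5 * (x.1)⁻¹ * (x.1 * d.κ5 v5 * (x.1)⁻¹) =
        x.1 * (d.κ5 v5 * d.κ5 v5) * (x.1)⁻¹ by group, hv2, map_one]
      group)
    rcases pair_values.2.2.1 k.2 (pair_card.2 k.2 h1 h2) hsq with h | h
    · exact Or.inl (by rw [hy, h, mul_one])
    · exact Or.inr (by rw [hy, h])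
  set K := L ⊓ Subgroup.centralizer ({d.κ5 v5} : Set G) with hK
  have hK48 : 48 ≤ Nat.card K := by
    set K' := K.subgroupOf L with hK'
    have hidx : K'.index ≤ 2 := by
      let f : L ⧸ K' → {y : G // y ∈ ({d.κ5 v5, d.κ5 (v5 * b5)} : Set G)} :=
        Quotient.lift (fun x : L => ⟨x.1 * d.κ5 v5 * (x.1)⁻¹, horbit x⟩) (by
          intro a b hab
          rw [← Quotient.eq_iff_equiv] at hab
          have h : a⁻¹ * b ∈ K' := QuotientGroup.eq.1 hab
          have h' : (a.1)⁻¹ * b.1 * d.κ5 v5 = d.κ5 v5 * ((a.1)⁻¹ * b.1) :=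
            Subgroup.mem_centralizer_singleton_iff.1 (Subgroup.mem_inf.1 h).2
          apply Subtype.ext
          show a.1 * d.κ5 v5 * (a.1)⁻¹ = b.1 * d.κ5 v5 * (b.1)⁻¹
          calc a.1 * d.κ5 v5 * (a.1)⁻¹ = a.1 * (d.κ5 v5 * ((a.1)⁻¹ * b.1)) * (b.1)⁻¹ := by group
            _ = a.1 * ((a.1)⁻¹ * b.1 * d.κ5 v5) * (b.1)⁻¹ := by rw [h']
            _ = _ := by group)
      have hinj : Function.Injective f := by
        rintro ⟨a⟩ ⟨b⟩ hab
        have hab' : a.1 * d.κ5 v5 * (a.1)⁻¹ = b.1 * d.κ5 v5 * (b.1)⁻¹ := congrArg Subtype.val hab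
        refine QuotientGroup.eq.2 (Subgroup.mem_inf.2 ⟨mul_mem (inv_mem a.2) b.2,
          Subgroup.mem_centralizer_singleton_iff.2 ?_⟩)
        calc (a.1)⁻¹ * b.1 * d.κ5 v5 = (a.1)⁻¹ * (b.1 * d.κ5 v5 * (b.1)⁻¹) * b.1 := by group
          _ = (a.1)⁻¹ * (a.1 * d.κ5 v5 * (a.1)⁻¹) * b.1 := by rw [hab']
          _ = d.κ5 v5 * ((a.1)⁻¹ * b.1) := by group
          _ = _ := rfl
      refine (Nat.card_le_card_of_injective f hinj).trans ?_
      rw [show Nat.card {y : G // y ∈ ({d.κ5 v5, d.κ5 (v5 * b5)} : Set G)} =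
        ({d.κ5 v5, d.κ5 (v5 * b5)} : Set G).ncard from Nat.card_coe_set_eq _]
      exact (Set.ncard_insert_le _ _).trans (by rw [Set.ncard_singleton])
    have h := Subgroup.card_mul_index K'
    rw [hL96, hK', Nat.card_congr (Subgroup.subgroupOfEquivOfLe (inf_le_left : K ≤ L)).toEquiv] at h
    nlinarith
  have hKdvd : Nat.card K ∣ 96 := hL96 ▸ Subgroup.card_dvd_of_le inf_le_left
  have hKW : K ≤ d.CW := fun x hx => d.mem_CW.2 ⟨(memL.1 (Subgroup.mem_inf.1 hx).1).2,
    Subgroup.mem_centralizer_singleton_iff.1 (Subgroup.mem_inf.1 hx).2⟩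
  have hvW : d.κ5 v5 ∈ d.CW := d.mem_CW.2 ⟨hvs, rfl⟩
  set V2 := Subgroup.zpowers (d.κ5 v5)
  have hV2 : Nat.card V2 = 2 := by
    rw [Nat.card_zpowers]
    exact orderOf_eq_prime (by rw [sq, hv2]) fun h => five_values.2.2.2.2.1 (d.κ5_injective (h.trans (map_one _).symm))
  have hcomm : ∀ (a : K) (b : V2), Commute (Subgroup.inclusion hKW a) (Subgroup.inclusion (Subgroup.zpowers_le.2 hvW) b) := by
    intro a b
    obtain ⟨n, hn⟩ := Subgroup.mem_zpowers_iff.1 b.2
    refine Subtype.ext ?_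
    show Commute a.1 b.1
    rw [← hn]
    exact Commute.zpow_right (Subgroup.mem_centralizer_singleton_iff.1 (Subgroup.mem_inf.1 a.2).2) n
  have hdvd : Nat.card K * 2 ∣ Nat.card d.CW := by
    have hinj : Function.Injective (MonoidHom.noncommCoprod _ _ hcomm) := by
      rw [injective_iff_map_eq_one]
      rintro ⟨a, b⟩ hab
      have hab' : a.1 * b.1 = 1 := congrArg Subtype.val hab
      obtain ⟨n, hn⟩ := Subgroup.mem_zpowers_iff.1 b.2
      have hb1 : b.1 = 1 := by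
        by_contra hb
        obtain ⟨q, rfl⟩ | ⟨q, rfl⟩ := Int.even_or_odd n
        · apply hb
          rw [← hn, ← two_mul, zpow_mul, zpow_two, hv2, one_zpow]
        · have hbv : b.1 = d.κ5 v5 := by
            rw [← hn, zpow_add, zpow_mul, zpow_two, hv2, one_zpow, one_mul, zpow_one]
          have hvL : d.κ5 v5 ∈ L := by
            have h := (Subgroup.mem_inf.1 a.2).1
            rw [eq_inv_of_mul_eq_one_left hab', hbv] at h
            exact (Subgroup.inv_mem_iff _).1 h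
          have h := (memL.1 hvL).1
          rw [← κ5_i, ← map_mul, ← map_mul] at h
          exact absurd (d.κ5_injective h) (by decide +kernel)
      have ha1 : a.1 = 1 := by rwa [hb1, mul_one] at hab'
      exact Prod.ext (Subtype.ext ha1) (Subtype.ext hb1)
    have := Subgroup.card_dvd_of_injective _ hinj
    rwa [Nat.card_prod, hV2] at this
  have hfin := hdvd.trans (d.card_CW_dvd hs)
  have hcases : Nat.card K = 48 ∨ Nat.card K = 96 := by
    have hle := Nat.le_of_dvd (by norm_num) hKdvd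
    generalize Nat.card K = n at hK48 hKdvd hle
    by_cases h : n = 48
    · exact Or.inl h
    · right
      obtain ⟨q, hq⟩ := hKdvd
      have : q < 2 := by nlinarith [lt_of_le_of_ne hK48 (Ne.symm h)]
      interval_cases q <;> omega
  rcases d.card_CV (d.even_κ hs).1 with h | h | h <;> rcases hcases with h' | h' <;>
    rw [h, h'] at hfin <;> norm_num at hfin

end Data

end Cfsg.Agent.SymEightLocal
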