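import Mathlib
import Cfsg.Agent.Lib.SymEightLocal.EvenSix

/-!
# The two alternating groups of degree five commute
-/

set_option autoImplicit false

namespace Cfsg.Agent.SymEightLocal

open Equiv EightLocal

universe u

set_option synthInstance.maxHeartbeats 200000
set_option synthInstance.maxSize 1024

theorem commute_values :
    (∀ x : Perm (Fin 5), ((1, x) : SF) * zS = zS * (1, x) ∧ ((1, x) : SF) * sS = sS * (1, x)) ∧
    i5 * v5 ≠ v5 * i5 := by decide +kernel

theorem mem_of_a5_word {H : Subgroup (Perm (Fin 5))} (hc : c5 ∈ H) (hb : b5 ∈ H) (hv : v5 ∈ H)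
    {p : Perm (Fin 5)} (hp : Perm.sign p = 1) : p ∈ H := by
  obtain ⟨i, l, n, j, k, m, rfl⟩ := a5_word p hp
  exact mul_mem (mul_mem (mul_mem (mul_mem (mul_mem (pow_mem hc _) (pow_mem hb _)) (pow_mem hv _))
    (pow_mem hc _)) (pow_mem hv _)) (pow_mem hc _)

namespace Data

variable {G : Type u} [Group G] [Finite G] (d : Data G) (hs : d.g * d.s * d.g⁻¹ = d.ι bE)

theorem ι5_commute_s (x : Perm (Fin 5)) : Commute (d.ι5 x) d.s :=
  (show Commute ((1, x) : SF) sS from (commute_values.1 x).2).map d.ι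

theorem κ5_commute_r (x : Perm (Fin 5)) : Commute (d.κ5 x) (d.κ sS) :=
  (show Commute ((1, x) : SF) sS from (commute_values.1 x).2).map d.κ

include hs in
theorem ι5_b : d.ι5 b5 = d.κ sS := by rw [ι5_apply, ← five_eqs.2.2.1, ← (d.even_κ hs).1]

variable (hCi : d.Ci ≤ Subgroup.normalizer (d.D : Set G))

include hs hCi in
theorem commute_uv : Commute (d.ι5 v5) (d.κ5 v5) := by
  set u := d.ι5 v5 with hu
  set v := d.κ5 v5 with hv
  set r := d.κ sS with hr
  have hu2 : u * u = 1 := by rw [hu, ← map_mul, five_values.1, map_one]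
  have hv2 : v * v = 1 := by rw [hv, ← map_mul, five_values.1, map_one]
  have hs2 : d.s * d.s = 1 := by rw [s, ← map_mul, values.2.2.2.2.2.2.2.1, map_one]
  have hr2 : r * r = 1 := by rw [hr, ← map_mul, values.2.2.2.2.2.2.2.1, map_one]
  have us : Commute u d.s := d.ι5_commute_s v5
  have vr : Commute v r := d.κ5_commute_r v5
  have rs : Commute r d.s := by rw [hr, ← d.ι5_b hs]; exact d.ι5_commute_s b5
  have ur : Commute u r := by
    rw [hu, hr, ← d.ι5_b hs]
    exact (show Commute v5 b5 from five_values.2.2.2.2.2.1).map d.ι5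
  have vs : Commute v d.s := by
    rw [hv, ← d.κ5_b hs]
    exact (show Commute v5 b5 from five_values.2.2.2.2.2.1).map d.κ5
  have iu : d.i * u * d.i = u * r := by
    rw [hu, hr, ← d.ι5_b hs, ← ι5_i, ← map_mul, ← map_mul, ← map_mul]
    congr 1
    decide +kernel
  have iv : d.i * v * d.i = v * d.s := by
    rw [hv, ← d.κ5_b hs, ← κ5_i, ← map_mul, ← map_mul, ← map_mul]
    congr 1
    decide +kernel
  have huinv : u⁻¹ = u := inv_eq_of_mul_eq_one_right hu2
  set y := u * v * u with hy
  have yr : Commute y r := (ur.mul_left vr).mul_left ur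
  have ys : Commute y d.s := (us.mul_left vs).mul_left us
  have iy : d.i * y * d.i = y * d.s := by
    calc d.i * y * d.i = d.i * u * (d.i * d.i) * v * (d.i * d.i) * u * d.i := by rw [i_sq, hy]; group
      _ = (d.i * u * d.i) * (d.i * v * d.i) * (d.i * u * d.i) := by group
      _ = u * (r * v) * (d.s * u) * r := by rw [iu, iv]; group
      _ = u * (v * r) * (u * d.s) * r := by rw [vr.eq, us.eq]
      _ = u * v * (r * u) * (d.s * r) := by group
      _ = u * v * (u * r) * (r * d.s) := by rw [ur.eq, rs.eq]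
      _ = u * v * u * (r * r) * d.s := by group
      _ = _ := by rw [hr2, hy]; group
  set t := y * v with ht
  have ti : t * d.i = d.i * t := by
    have : d.i * t * d.i = t := by
      calc d.i * t * d.i = d.i * y * (d.i * d.i) * v * d.i := by rw [ht, i_sq]; group
        _ = (d.i * y * d.i) * (d.i * v * d.i) := by group
        _ = y * (d.s * v) * d.s := by rw [iy, iv]; group
        _ = y * (v * d.s) * d.s := by rw [vs.eq]
        _ = y * v * (d.s * d.s) := by group
        _ = t := by rw [hs2, ht]; group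
    calc t * d.i = d.i * t * d.i * d.i := by rw [this]
      _ = d.i * t * (d.i * d.i) := by group
      _ = d.i * t := by rw [i_sq]; group
  have ts : Commute t d.s := ys.mul_left vs
  have tr : Commute t r := yr.mul_left vr
  obtain ⟨x, hx⟩ := d.norm_D t (hCi (d.mem_Ci.2 ti))
  have htx : t = d.ι (nS x) := by
    rcases hx with h | h
    · exact h
    · exfalso
      apply no_swap_pair x
      apply d.inj
      rw [map_mul, map_mul, map_inv, ← hs]
      calc d.ι (nS x) * (d.g * d.s * d.g⁻¹) * (d.ι (nS x))⁻¹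
          = d.ι (nS x) * d.g * d.s * (d.ι (nS x) * d.g)⁻¹ := by group
        _ = t * d.s * t⁻¹ := by rw [h]
        _ = d.s := by rw [ts.eq]; group
  have hnr : r = d.ι bE := (d.even_κ hs).1
  obtain ⟨a, b, c, habc⟩ := fix_pair x (d.inj (by rw [map_mul, map_mul, ← htx]; exact ts.eq))
    (d.inj (by rw [map_mul, map_mul, ← htx, ← hnr]; exact tr.eq))
  have hyeq : y = d.i ^ (a : ℕ) * (d.s ^ (b : ℕ) * r ^ (c : ℕ)) * v := by
    rw [show d.i ^ (a : ℕ) * (d.s ^ (b : ℕ) * r ^ (c : ℕ)) = t by
      rw [htx, habc, hnr, map_mul, map_mul, map_pow, map_pow, map_pow, mul_assoc]]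
    rw [ht, mul_assoc, hv2, mul_one]
  have hy2 : y * y = 1 := by
    calc y * y = u * v * (u * u) * v * u := by rw [hy]; group
      _ = u * (v * v) * u := by rw [hu2]; group
      _ = 1 := by rw [hv2, mul_one, hu2]
  have hX : ∀ (m n : ℕ), Commute (d.i * v) (d.s ^ m * r ^ n) := fun m n => by
    have i_s : Commute d.i d.s := (d.s_commute_i).symm
    have i_r : Commute d.i r := by
      rw [hr, ← κ_iS]
      exact (show Commute iS sS by simp [Commute, SemiconjBy, iS, sS]).map d.κ
    exact ((i_s.mul_left vs).pow_right m).mul_right ((i_r.mul_left vr).pow_right n)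
  have hXv : ∀ (m n : ℕ), Commute v (d.s ^ m * r ^ n) := fun m n =>
    (vs.pow_right m).mul_right (vr.pow_right n)
  have hX2 : ∀ (m n : Fin 2), (d.s ^ (m : ℕ) * r ^ (n : ℕ)) * (d.s ^ (m : ℕ) * r ^ (n : ℕ)) = 1 := by
    intro m n
    have h : Commute (d.s ^ (m : ℕ)) (r ^ (n : ℕ)) := (rs.symm).pow_pow _ _
    rw [← pow_two, h.mul_pow, ← pow_mul, ← pow_mul, mul_comm (m : ℕ) 2, mul_comm (n : ℕ) 2, pow_mul, pow_mul,
      pow_two, pow_two, hs2, hr2, one_pow, one_pow, one_mul]
  have ha : a = 0 := by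
    by_contra ha
    have ha' : (a : ℕ) = 1 := by omega
    rw [hyeq, ha', pow_one] at hy2
    set X := d.s ^ (b : ℕ) * r ^ (c : ℕ)
    have hvX : Commute v X := hXv _ _
    have hiv : (d.i * v) * (d.i * v) = 1 := by
      calc (d.i * v) * (d.i * v) = (d.i * v) * (d.i * v) * (X * X) := by rw [hX2 b c, mul_one]
        _ = d.i * v * ((d.i * v) * X) * X := by group
        _ = d.i * v * (X * (d.i * v)) * X := by rw [(hX _ _).eq]
        _ = (d.i * v * X) * (d.i * v * X) := by group
        _ = (d.i * (X * v)) * (d.i * (X * v)) := by rw [← hvX.eq]; group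
        _ = 1 := by rw [← hy2]; group
    have : d.i * v * d.i * v = 1 := by rw [← hiv]; group
    rw [iv, show v * d.s * v = v * v * d.s by rw [mul_assoc, ← vs.eq, ← mul_assoc], hv2, one_mul] at this
    exact (by decide +kernel : sS ≠ 1) (d.inj (this.trans (map_one _).symm))
  have hyeq' : y = d.s ^ (b : ℕ) * r ^ (c : ℕ) * v := by
    rw [hyeq, ha, Fin.val_zero, pow_zero, one_mul]
  have hc : c = 0 := by
    by_contra hc
    have hc' : (c : ℕ) = 1 := by omega
    have e1 : (v * d.z) ^ 5 = 1 := by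
      rw [hv, ← κ5_c, ← map_mul, ← map_pow, five_values.2.2.2.2.2.2.2.2.1, map_one]
    have uz : Commute u d.z := d.ι5_commute_z v5
    have e2 : (y * d.z) ^ 5 = 1 := by
      have h : y * d.z = u * (v * d.z) * u⁻¹ := by
        rw [huinv, hy]
        calc u * v * u * d.z = u * v * (u * d.z) := by group
          _ = u * v * (d.z * u) := by rw [uz.eq]
          _ = _ := by group
      rw [h, conj_pow, e1]
      group
    set q : Perm (Fin 5) := b5 ^ (b : ℕ) * v5 * c5 with hq
    have hyq : y * d.z = r * d.κ5 q := by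
      rw [hyeq', hc', pow_one, hq, map_mul, map_mul, map_pow, d.κ5_b hs, κ5_c, ← hv]
      rw [← (rs.pow_right (b : ℕ)).eq]
      group
    have hq5 : q ^ 5 = 1 := by
      rcases (by decide : ∀ b : Fin 2, b = 0 ∨ b = 1) b with rfl | rfl <;> rw [hq] <;> decide +kernel
    rw [hyq, (d.κ5_commute_r q).symm.mul_pow, show d.κ5 q ^ 5 = 1 by rw [← map_pow, hq5, map_one], mul_one,
      show r ^ 5 = r * r * (r * r) * r by simp [pow_succ, mul_assoc], hr2, one_mul, one_mul] at e2
    exact (by decide +kernel : sS ≠ 1) (d.κ_injective (e2.trans (map_one _).symm))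
  rcases (by decide : ∀ b : Fin 2, b = 0 ∨ b = 1) b with hb | hb
  · have : u * v * u = v := by
      rw [← hy, hyeq', hb, hc]
      simp
    show u * v = v * u
    calc u * v = u * v * u * u := by rw [mul_assoc (u * v), hu2, mul_one]
      _ = v * u := by rw [this]
  · exfalso
    have hy' : u * v * u = v * d.s := by
      rw [← hy, hyeq', hb, hc]
      simp [vs.eq]
    set H : Subgroup (Perm (Fin 5)) := (Subgroup.centralizer ({v} : Set G)).comap d.ι5 with hH
    have hmem : ∀ {x}, x ∈ H ↔ d.ι5 x * v = v * d.ι5 x := Subgroup.mem_centralizer_singleton_iff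
    have h1 : c5 ∈ H := hmem.2 (by rw [ι5_c]; exact (d.κ5_commute_w v5).symm.eq)
    have h2 : b5 ∈ H := hmem.2 (by rw [d.ι5_b hs]; exact vr.symm.eq)
    have h3 : i5 * v5 ∈ H := hmem.2 (by
      rw [map_mul, ι5_i, ← hu]
      calc d.i * u * v = d.i * (u * v * u) * u := by
            rw [show d.i * (u * v * u) * u = d.i * u * v * (u * u) by group, hu2, mul_one]
        _ = d.i * v * d.s * u := by rw [hy']; group
        _ = d.i * v * (d.i * d.i) * d.s * u := by rw [i_sq, mul_one]
        _ = (d.i * v * d.i) * (d.i * d.s) * u := by group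
        _ = v * d.s * (d.s * d.i) * u := by rw [iv, d.s_commute_i]
        _ = v * (d.s * d.s) * d.i * u := by group
        _ = _ := by rw [hs2]; group)
    have hi : i5 ∈ H := by
      rw [i5_word]
      exact (mul_mem (mul_mem (mul_mem (mul_mem (mul_mem (mul_mem (mul_mem (mul_mem (mul_mem (mul_mem (mul_mem h1 h1) h3) h1) h3) h1) h2) h3) h1) h3) h1) h3)
    have h4 := hmem.1 hi
    rw [ι5_i, ← κ5_i, hv, ← map_mul, ← map_mul] at h4
    exact commute_values.2 (d.κ5_injective h4)

include hs hCi in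
/-- The two alternating groups commute. -/
theorem commute_AB {p q : Perm (Fin 5)} (hp : Perm.sign p = 1) (hq : Perm.sign q = 1) :
    Commute (d.κ5 p) (d.ι5 q) := by
  have hv : ∀ q : Perm (Fin 5), Perm.sign q = 1 → Commute (d.κ5 v5) (d.ι5 q) := by
    intro q hq
    have hm : q ∈ (Subgroup.centralizer ({d.κ5 v5} : Set G)).comap d.ι5 := by
      refine mem_of_a5_word ?_ ?_ ?_ hq
      all_goals rw [Subgroup.mem_comap, Subgroup.mem_centralizer_singleton_iff]
      · rw [ι5_c]; exact (d.κ5_commute_w v5).symm.eq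
      · rw [d.ι5_b hs]; exact (d.κ5_commute_r v5).symm.eq
      · exact (d.commute_uv hs hCi).eq
    rw [Subgroup.mem_comap, Subgroup.mem_centralizer_singleton_iff] at hm
    exact hm.symm
  have hm : p ∈ (Subgroup.centralizer ({d.ι5 q} : Set G)).comap d.κ5 := by
    refine mem_of_a5_word ?_ ?_ ?_ hp
    all_goals rw [Subgroup.mem_comap, Subgroup.mem_centralizer_singleton_iff]
    · rw [κ5_c]; exact (d.ι5_commute_z q).symm.eq
    · rw [d.κ5_b hs]; exact (d.ι5_commute_s q).symm.eq
    · exact (hv q hq).eq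
  exact Subgroup.mem_centralizer_singleton_iff.1 (Subgroup.mem_comap.1 hm)

end Data

end Cfsg.Agent.SymEightLocal
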