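import Mathlib
import Cfsg.Agent.Lib.SymEightLocal.EvenCommute

/-!
# The product of the two alternating groups and its normaliser
-/

set_option autoImplicit false

namespace Cfsg.Agent.SymEightLocal

open Equiv EightLocal

universe u

set_option synthInstance.maxHeartbeats 200000
set_option synthInstance.maxSize 1024

/-- The alternating group of degree five. -/
abbrev A5g : Subgroup (Perm (Fin 5)) := alternatingGroup (Fin 5)

theorem A5_center : ∀ a : Perm (Fin 5), Perm.sign a = 1 → a * c5 = c5 * a → a * v5 = v5 * a → a = 1 := by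
  decide +kernel

theorem S5_centralizer : ∀ a : Perm (Fin 5), a * c5 = c5 * a → a * v5 = v5 * a → a = 1 := by decide +kernel

theorem odd_invol : ∀ p : Perm (Fin 5), Perm.sign p = -1 → p * p = 1 →
    ∃ π : Perm (Fin 5), Perm.sign π = 1 ∧ π * i5 * π⁻¹ = p := by decide +kernel

theorem even_invol : ∀ p : Perm (Fin 5), Perm.sign p = 1 → p * p = 1 → p ≠ 1 →
    ∃ π : Perm (Fin 5), Perm.sign π = 1 ∧ π * b5 * π⁻¹ = p := by decide +kernel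

theorem nS_shape : ∀ x : Fin 3 × Fin 3 × Fin 2 × Fin 2 × Fin 2,
    ∃ (p : Fin 3) (q : Fin 2), (nS x).1 = zS.1 ^ (p : ℕ) * sS.1 ^ (q : ℕ) := by decide +kernel

namespace Data

variable {G : Type u} [Group G] [Finite G] (d : Data G)

/-- The configuration of the exceptional case. -/
structure Even : Prop where
  hs : d.g * d.s * d.g⁻¹ = d.ι bE
  hCi : d.Ci ≤ Subgroup.normalizer (d.D : Set G)

variable {d}

namespace Even

variable (E : d.Even)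
include E

/-- the product map -/
def nf : A5g × A5g →* G :=
  MonoidHom.noncommCoprod (d.κ5.comp A5g.subtype) (d.ι5.comp A5g.subtype)
    fun a b => d.commute_AB E.hs E.hCi a.2 b.2

theorem nf_apply (a b : A5g) : E.nf (a, b) = d.κ5 a.1 * d.ι5 b.1 := rfl

theorem commute_nf (a b : A5g) : Commute (d.κ5 a.1) (d.ι5 b.1) := d.commute_AB E.hs E.hCi a.2 b.2

theorem κ5_eq_ι5 {a b : Perm (Fin 5)} (ha : Perm.sign a = 1) (hb : Perm.sign b = 1) (h : d.κ5 a = d.ι5 b) :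
    a = 1 ∧ b = 1 := by
  have key : ∀ q : Perm (Fin 5), Perm.sign q = 1 → a * q = q * a := fun q hq => d.κ5_injective (by
    rw [map_mul, map_mul, h]
    exact (d.commute_AB E.hs E.hCi hq hb).symm.eq)
  have h1 := A5_center a ha (key c5 five_values.2.2.2.2.2.2.2.2.2.2.2.2.2.2.1)
    (key v5 five_values.2.2.2.2.2.2.2.2.2.2.2.2.1)
  refine ⟨h1, d.ι5_injective ?_⟩
  rw [← h, h1, map_one, map_one]

theorem nf_injective : Function.Injective E.nf := by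
  rw [injective_iff_map_eq_one]
  rintro ⟨a, b⟩ h
  rw [nf_apply] at h
  have h' : d.κ5 a.1 = d.ι5 (b.1)⁻¹ := by rw [map_inv]; exact eq_inv_of_mul_eq_one_left h
  obtain ⟨h1, h2⟩ := E.κ5_eq_ι5 a.2 (by rw [map_inv, show Perm.sign b.1 = 1 from b.2, inv_one]) h'
  exact Prod.ext (Subtype.ext h1) (Subtype.ext (inv_eq_one.1 h2))

/-- the product of the two alternating groups -/
def N : Subgroup G := E.nf.range

/-- its normaliser -/
def Nh : Subgroup G := Subgroup.normalizer (E.N : Set G)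

theorem mem_N {x : G} : x ∈ E.N ↔ ∃ a b : A5g, x = d.κ5 a.1 * d.ι5 b.1 :=
  ⟨fun ⟨p, hp⟩ => ⟨p.1, p.2, hp.symm⟩, fun ⟨a, b, h⟩ => ⟨(a, b), h.symm⟩⟩

theorem κ5_mem {a : Perm (Fin 5)} (ha : Perm.sign a = 1) : d.κ5 a ∈ E.N :=
  E.mem_N.2 ⟨⟨a, ha⟩, 1, by simp⟩

theorem ι5_mem {b : Perm (Fin 5)} (hb : Perm.sign b = 1) : d.ι5 b ∈ E.N :=
  E.mem_N.2 ⟨1, ⟨b, hb⟩, by simp⟩

theorem card_N : Nat.card E.N = 3600 := by
  rw [N, ← Nat.card_congr (MonoidHom.ofInjective E.nf_injective).toEquiv, Nat.card_prod,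
    nat_card_alternatingGroup, Nat.card_fin]
  rfl

theorem N_le_Nh : E.N ≤ E.Nh := Subgroup.le_normalizer

theorem mem_Nh_of {x : G} (h : ∀ a : Perm (Fin 5), Perm.sign a = 1 → x * d.κ5 a * x⁻¹ ∈ E.N ∧
    x * d.ι5 a * x⁻¹ ∈ E.N) : x ∈ E.Nh := by
  refine mem_normalizer_of_conj_mem fun y hy => ?_
  obtain ⟨a, b, rfl⟩ := E.mem_N.1 hy
  rw [← conj_mul]
  exact mul_mem (h a.1 a.2).1 (h b.1 b.2).2

theorem i_mem : d.i ∈ E.Nh := by
  refine E.mem_Nh_of fun a ha => ?_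
  have hsg : Perm.sign (i5 * a * i5⁻¹) = 1 := by
    rw [map_mul, map_mul, map_inv, ha, mul_one, mul_inv_cancel]
  constructor
  · rw [← κ5_i, ← map_inv, ← map_mul, ← map_mul]; exact E.κ5_mem hsg
  · rw [← ι5_i, ← map_inv, ← map_mul, ← map_mul]; exact E.ι5_mem hsg

theorem g_mem : d.g ∈ E.Nh := by
  refine E.mem_Nh_of fun a ha => ?_
  rw [conj_g5, conj_g5']
  exact ⟨E.ι5_mem ha, E.κ5_mem ha⟩

theorem ι_decomp (a : Perm (Fin 3)) (b : Perm (Fin 5)) (p : Fin 3) (q : Fin 2)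
    (ha : a = zS.1 ^ (p : ℕ) * sS.1 ^ (q : ℕ)) :
    ∃ m ∈ E.N, d.ι (a, b) = m ∨ d.ι (a, b) = d.i * m := by
  have h1 : ((a, b) : SF) = zS ^ (p : ℕ) * sS ^ (q : ℕ) * (1, b) := by
    ext1 <;> simp [ha, zS, sS]
  have hz : d.z ∈ E.N := by
    rw [← κ5_c]; exact E.κ5_mem five_values.2.2.2.2.2.2.2.2.2.2.2.2.2.2.1
  have hs' : d.s ∈ E.N := by
    rw [← d.κ5_b E.hs]; exact E.κ5_mem five_values.2.2.2.2.2.2.2.2.2.2.2.2.2.1
  have hm : d.z ^ (p : ℕ) * d.s ^ (q : ℕ) ∈ E.N := mul_mem (pow_mem hz _) (pow_mem hs' _)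
  rw [h1, map_mul, map_mul, map_pow, map_pow, ← ι5_apply]
  rcases Int.units_eq_one_or (Perm.sign b) with hb | hb
  · exact ⟨_, mul_mem hm (E.ι5_mem hb), Or.inl rfl⟩
  · have hib : Perm.sign (i5 * b) = 1 := by
      rw [map_mul, hb, five_values.2.2.2.2.2.2.2.2.2.2.2.2.2.2.2]; rfl
    refine ⟨d.i⁻¹ * (d.z ^ (p : ℕ) * d.s ^ (q : ℕ)) * d.i * d.ι5 (i5 * b),
      mul_mem ?_ (E.ι5_mem hib), Or.inr ?_⟩
    · have := (Subgroup.mem_normalizer_iff.1 (inv_mem E.i_mem) _).1 hm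
      rwa [inv_inv] at this
    · rw [map_mul, ι5_i]
      calc d.z ^ (p : ℕ) * d.s ^ (q : ℕ) * d.ι5 b
          = d.z ^ (p : ℕ) * d.s ^ (q : ℕ) * (d.i * d.i) * d.ι5 b := by rw [i_sq, mul_one]
        _ = _ := by group

/-- The four coset representatives. -/
def reps (d : Data G) : List G := [1, d.i, d.g, d.i * d.g]

theorem rep_mem {j : G} (hj : j ∈ reps d) : j ∈ E.Nh := by
  simp only [reps, List.mem_cons, List.not_mem_nil, or_false] at hj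
  rcases hj with rfl | rfl | rfl | rfl
  · exact one_mem _
  · exact E.i_mem
  · exact E.g_mem
  · exact mul_mem E.i_mem E.g_mem

theorem ND_cases {n : G} (hn : n ∈ Subgroup.normalizer (d.D : Set G)) :
    ∃ j ∈ reps d, ∃ m ∈ E.N, n = j * m := by
  obtain ⟨x, hx⟩ := d.norm_D n hn
  obtain ⟨p, q, hpq⟩ := nS_shape x
  obtain ⟨m, hm, hd⟩ := E.ι_decomp (nS x).1 (nS x).2 p q hpq
  rw [Prod.mk.eta] at hd
  rcases hx with rfl | rfl
  · rcases hd with e | e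
    · exact ⟨1, by simp [reps], m, hm, by rw [one_mul, e]⟩
    · exact ⟨d.i, by simp [reps], m, hm, e⟩
  · have hm' : d.g⁻¹ * m * d.g ∈ E.N := by
      have := (Subgroup.mem_normalizer_iff.1 (inv_mem E.g_mem) _).1 hm
      rwa [inv_inv] at this
    rcases hd with e | e
    · exact ⟨d.g, by simp [reps], _, hm', by rw [e]; group⟩
    · exact ⟨d.i * d.g, by simp [reps], _, hm', by rw [e]; group⟩

theorem ι_range_le : d.ι.range ≤ E.Nh := by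
  rintro _ ⟨⟨a, b⟩, rfl⟩
  obtain ⟨p, q, hpq⟩ : ∃ (p : Fin 3) (q : Fin 2), a = zS.1 ^ (p : ℕ) * sS.1 ^ (q : ℕ) :=
    (by decide +kernel : ∀ a : Perm (Fin 3), ∃ (p : Fin 3) (q : Fin 2), a = zS.1 ^ (p : ℕ) * sS.1 ^ (q : ℕ)) a
  obtain ⟨m, hm, e | e⟩ := E.ι_decomp a b p q hpq <;> rw [e]
  · exact E.N_le_Nh hm
  · exact mul_mem E.i_mem (E.N_le_Nh hm)

theorem ND_le : Subgroup.normalizer (d.D : Set G) ≤ E.Nh := by
  intro n hn
  obtain ⟨j, hj, m, hm, rfl⟩ := E.ND_cases hn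
  exact mul_mem (E.rep_mem hj) (E.N_le_Nh hm)

theorem Ci_le : d.Ci ≤ E.Nh := E.hCi.trans E.ND_le

theorem D_le_N : d.D ≤ E.N := by
  intro a ha
  obtain ⟨p, q, rfl⟩ := (d.mem_D a).1 ha
  rw [dS, map_mul, map_pow, map_pow]
  refine mul_mem (pow_mem ?_ _) (pow_mem ?_ _)
  · show d.z ∈ E.N
    rw [← κ5_c]; exact E.κ5_mem five_values.2.2.2.2.2.2.2.2.2.2.2.2.2.2.1
  · show d.w ∈ E.N
    rw [← ι5_c]; exact E.ι5_mem five_values.2.2.2.2.2.2.2.2.2.2.2.2.2.2.1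

/-- Every element of the normaliser lies in one of four cosets. -/
theorem Nh_cases {x : G} (hx : x ∈ E.Nh) : ∃ j ∈ reps d, ∃ m ∈ E.N, x = j * m := by
  haveI : Fact (Nat.Prime 3) := ⟨Nat.prime_three⟩
  have hP : (d.P : Subgroup G) ≤ E.N := d.hDP ▸ E.D_le_N
  have hxP : ((x • d.P : Sylow 3 G) : Subgroup G) ≤ E.N := by
    rw [Sylow.coe_subgroup_smul]
    rintro _ ⟨a, ha, rfl⟩
    exact (Subgroup.mem_normalizer_iff.1 hx a).1 (hP ha)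
  obtain ⟨m, hm⟩ := MulAction.exists_smul_eq E.N
    (Sylow.subtype (x • d.P) hxP) (d.P.subtype hP)
  have hn : m.1 * x ∈ Subgroup.normalizer (d.D : Set G) := by
    refine mem_normalizer_of_conj_mem fun a ha => ?_
    have ha' : x * a * x⁻¹ ∈ E.N := (Subgroup.mem_normalizer_iff.1 hx a).1 (E.D_le_N ha)
    have h1 : m * ⟨_, ha'⟩ * m⁻¹ ∈ ((m • Sylow.subtype (x • d.P) hxP : Sylow 3 E.N) : Subgroup E.N) := by
      rw [Sylow.coe_subgroup_smul]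
      exact ⟨⟨_, ha'⟩, ⟨a, d.hDP ▸ ha, rfl⟩, rfl⟩
    rw [hm, Sylow.coe_subtype, Subgroup.mem_subgroupOf] at h1
    rw [d.hDP]
    rw [show m.1 * x * a * (m.1 * x)⁻¹ = m.1 * (x * a * x⁻¹) * (m.1)⁻¹ by group]
    exact h1
  obtain ⟨j, hj, m', hm', e⟩ := E.ND_cases hn
  refine ⟨j, hj, j⁻¹ * (m.1)⁻¹ * j * m', mul_mem ?_ hm', ?_⟩
  · have := (Subgroup.mem_normalizer_iff.1 (inv_mem (E.rep_mem hj)) _).1 (inv_mem m.2)
    rwa [inv_inv] at this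
  · calc x = (m.1)⁻¹ * (m.1 * x) := by group
      _ = (m.1)⁻¹ * (j * m') := by rw [e]
      _ = _ := by group

/-- conjugate to one of the two swaps -/
def Swap (d : Data G) (x : G) : Prop := IsConj d.g x ∨ IsConj (d.i * d.g) x

theorem swap_conj {x : G} (h : Swap d x) (y : G) : Swap d (y * x * y⁻¹) :=
  h.imp (fun h => h.trans (isConj_iff.2 ⟨y, rfl⟩)) (fun h => h.trans (isConj_iff.2 ⟨y, rfl⟩))

theorem isI_of_odd {p q : Perm (Fin 5)} (hp : Perm.sign p = -1) (hq : Perm.sign q = -1) (hp2 : p * p = 1)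
    (hq2 : q * q = 1) : ∃ h ∈ E.Nh, h * d.i * h⁻¹ = d.κ5 p * d.i * d.ι5 q := by
  obtain ⟨π, hπ, e⟩ := odd_invol p hp hp2
  obtain ⟨τ, hτ, f⟩ := odd_invol q hq hq2
  refine ⟨d.κ5 π * d.ι5 τ, E.N_le_Nh (mul_mem (E.κ5_mem hπ) (E.ι5_mem hτ)), ?_⟩
  have hc : ∀ {a b : Perm (Fin 5)}, Perm.sign a = 1 → Perm.sign b = 1 → Commute (d.κ5 a) (d.ι5 b) :=
    fun ha hb => d.commute_AB E.hs E.hCi ha hb
  have hτ' : Perm.sign (τ * (i5 * τ⁻¹ * i5⁻¹)) = 1 := by simp [hτ]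
  have e1 : d.ι5 τ * d.i * (d.ι5 τ)⁻¹ = d.i * d.ι5 (i5⁻¹ * τ * i5 * τ⁻¹) := by
    rw [← ι5_i, map_mul, map_mul, map_mul, map_inv, map_inv]; group
  have e2 : d.κ5 π * d.i * (d.κ5 π)⁻¹ = d.κ5 p := by rw [← κ5_i, ← map_inv, ← map_mul, ← map_mul, e]
  have hq' : i5⁻¹ * τ * i5 * τ⁻¹ = i5⁻¹ * q := by rw [← f]; group
  rw [hq'] at e1
  have hsq : Perm.sign (i5⁻¹ * q) = 1 := by
    rw [map_mul, map_inv, hq, five_values.2.2.2.2.2.2.2.2.2.2.2.2.2.2.2]; rfl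
  calc d.κ5 π * d.ι5 τ * d.i * (d.κ5 π * d.ι5 τ)⁻¹
      = d.κ5 π * (d.ι5 τ * d.i * (d.ι5 τ)⁻¹) * (d.κ5 π)⁻¹ := by group
    _ = d.κ5 π * d.i * (d.ι5 (i5⁻¹ * q) * (d.κ5 π)⁻¹) := by rw [e1]; group
    _ = d.κ5 π * d.i * ((d.κ5 π)⁻¹ * d.ι5 (i5⁻¹ * q)) := by
        rw [((hc hπ hsq).inv_left).symm.eq]
    _ = d.κ5 p * d.ι5 (i5⁻¹ * q) := by rw [← e2]; group
    _ = _ := by rw [map_mul, map_inv, ι5_i]; rw [inv_eq_of_mul_eq_one_right d.i_sq]; group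

/-- Involutions in the coset of `i`. -/
theorem coset_i {a b : A5g}
    (h2 : d.i * (d.κ5 a.1 * d.ι5 b.1) * (d.i * (d.κ5 a.1 * d.ι5 b.1)) = 1) :
    (∃ h ∈ E.Nh, h * d.i * h⁻¹ = d.i * (d.κ5 a.1 * d.ι5 b.1)) ∧
      i5 * a.1 * i5 * a.1 = 1 ∧ i5 * b.1 * i5 * b.1 = 1 := by
  have hi2 : i5 * i5 = 1 := five_values.2.2.1
  have hpa : Perm.sign (i5 * a.1 * i5) = 1 := by
    rw [map_mul, map_mul, show Perm.sign a.1 = 1 from a.2, mul_one, ← map_mul, hi2, map_one]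
  have hpb : Perm.sign (i5 * b.1 * i5) = 1 := by
    rw [map_mul, map_mul, show Perm.sign b.1 = 1 from b.2, mul_one, ← map_mul, hi2, map_one]
  have h : E.nf (⟨i5 * a.1 * i5, hpa⟩ * a, ⟨i5 * b.1 * i5, hpb⟩ * b) = 1 := by
    rw [← h2, nf_apply]
    show d.κ5 (i5 * a.1 * i5 * a.1) * d.ι5 (i5 * b.1 * i5 * b.1) = _
    rw [map_mul, map_mul, map_mul, map_mul, map_mul, map_mul, κ5_i, ι5_i]
    have hc : Commute (d.κ5 a.1) (d.i * d.ι5 b.1 * d.i) := by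
      rw [← ι5_i, ← map_mul, ← map_mul]
      exact d.commute_AB E.hs E.hCi a.2 hpb
    calc d.i * d.κ5 a.1 * d.i * d.κ5 a.1 * (d.i * d.ι5 b.1 * d.i * d.ι5 b.1)
        = d.i * d.κ5 a.1 * d.i * (d.κ5 a.1 * (d.i * d.ι5 b.1 * d.i)) * d.ι5 b.1 := by group
      _ = d.i * d.κ5 a.1 * d.i * (d.i * d.ι5 b.1 * d.i * d.κ5 a.1) * d.ι5 b.1 := by rw [hc.eq]
      _ = d.i * d.κ5 a.1 * (d.i * d.i) * d.ι5 b.1 * d.i * d.κ5 a.1 * d.ι5 b.1 := by group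
      _ = _ := by rw [i_sq]; group
  have h' := E.nf_injective (h.trans (map_one _).symm)
  have ha2 : i5 * a.1 * i5 * a.1 = 1 := congrArg Subtype.val (congrArg Prod.fst h')
  have hb2 : i5 * b.1 * i5 * b.1 = 1 := congrArg Subtype.val (congrArg Prod.snd h')
  have key := E.isI_of_odd (p := i5 * a.1) (q := i5 * b.1)
    (by rw [map_mul, show Perm.sign a.1 = 1 from a.2, mul_one]; exact five_values.2.2.2.2.2.2.2.2.2.2.2.2.2.2.2)
    (by rw [map_mul, show Perm.sign b.1 = 1 from b.2, mul_one]; exact five_values.2.2.2.2.2.2.2.2.2.2.2.2.2.2.2)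
    (by rw [← ha2]; group) (by rw [← hb2]; group)
  have e : d.κ5 (i5 * a.1) * d.i * d.ι5 (i5 * b.1) = d.i * (d.κ5 a.1 * d.ι5 b.1) := by
    rw [map_mul, map_mul, κ5_i, ι5_i]
    calc d.i * d.κ5 a.1 * d.i * (d.i * d.ι5 b.1) = d.i * d.κ5 a.1 * (d.i * d.i) * d.ι5 b.1 := by group
      _ = _ := by rw [i_sq]; group
  rw [e] at key
  exact ⟨key, ha2, hb2⟩

/-- The three kinds of involution in the normaliser. -/
theorem invol_cases {x : G} (hx : x ∈ E.Nh) (h2 : x * x = 1) (h1 : x ≠ 1) :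
    (∃ a b : A5g, x = d.κ5 a.1 * d.ι5 b.1 ∧ a.1 * a.1 = 1 ∧ b.1 * b.1 = 1) ∨ (∃ h ∈ E.Nh, h * d.i * h⁻¹ = x) ∨ Swap d x := by
  obtain ⟨j, hj, m, hm, rfl⟩ := E.Nh_cases hx
  obtain ⟨a, b, rfl⟩ := E.mem_N.1 hm
  simp only [reps, List.mem_cons, List.not_mem_nil, or_false] at hj
  have hi2 : i5 * i5 = 1 := five_values.2.2.1
  rcases hj with rfl | rfl | rfl | rfl
  · left
    rw [one_mul] at h2
    have h : E.nf ((a, b) * (a, b)) = 1 := by rw [map_mul, nf_apply]; exact h2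
    have h' := E.nf_injective (h.trans (map_one _).symm)
    exact ⟨a, b, one_mul _, congrArg Subtype.val (congrArg Prod.fst h'), congrArg Subtype.val (congrArg Prod.snd h')⟩
  · right; left
    exact (E.coset_i h2).1
  all_goals right; right
  · left
    have hjA : ∀ p : Perm (Fin 5), d.g * d.κ5 p * d.g⁻¹ = d.ι5 p ∧ d.g * d.ι5 p * d.g⁻¹ = d.κ5 p :=
      fun p => ⟨d.conj_g5 p, d.conj_g5' p⟩
    have h : E.nf (b * a, a * b) = 1 := by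
      rw [← h2, nf_apply, Subgroup.coe_mul, Subgroup.coe_mul, map_mul, map_mul]
      calc d.κ5 b.1 * d.κ5 a.1 * (d.ι5 a.1 * d.ι5 b.1)
          = d.κ5 b.1 * (d.κ5 a.1 * d.ι5 a.1) * d.ι5 b.1 := by group
        _ = d.κ5 b.1 * (d.ι5 a.1 * d.κ5 a.1) * d.ι5 b.1 := by rw [(E.commute_nf a a).eq]
        _ = d.κ5 b.1 * d.ι5 a.1 * (d.κ5 a.1 * d.ι5 b.1) := by group
        _ = d.ι5 a.1 * d.κ5 b.1 * (d.κ5 a.1 * d.ι5 b.1) := by rw [(E.commute_nf b a).eq]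
        _ = (d.g * d.κ5 a.1 * d.g⁻¹) * (d.g * d.ι5 b.1 * d.g⁻¹) * (d.κ5 a.1 * d.ι5 b.1) := by
            rw [(hjA a.1).1, (hjA b.1).2]
        _ = d.g * (d.κ5 a.1 * d.ι5 b.1) * (d.g⁻¹ * (d.κ5 a.1 * d.ι5 b.1)) := by group
        _ = _ := by simp only [g_inv, mul_assoc]
    have h' := congrArg Prod.fst (E.nf_injective (h.trans (map_one _).symm))
    have hb : d.ι5 b.1 = (d.ι5 a.1)⁻¹ := by
      rw [← map_inv]; congr 1; exact eq_inv_of_mul_eq_one_left (congrArg Subtype.val h')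
    refine isConj_iff.2 ⟨(d.κ5 a.1)⁻¹, ?_⟩
    have e1 : (d.κ5 a.1)⁻¹ * d.g = d.g * (d.ι5 a.1)⁻¹ := by
      rw [← (hjA a.1).1, show d.g * (d.g * d.κ5 a.1 * d.g⁻¹)⁻¹ = d.g * d.g * (d.κ5 a.1)⁻¹ * d.g⁻¹ by group,
        d.g_sq, one_mul, g_inv]
    rw [inv_inv, e1, hb, mul_assoc, ((E.commute_nf a a).inv_right).eq]
  · right
    have hsg : ∀ p : A5g, Perm.sign (i5 * p.1 * i5) = 1 := fun p => by
      rw [map_mul, map_mul, show Perm.sign p.1 = 1 from p.2, mul_one, ← map_mul, hi2, map_one]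
    have hiinv : d.i⁻¹ = d.i := inv_eq_of_mul_eq_one_right d.i_sq
    have hjA : ∀ p : Perm (Fin 5), d.i * d.g * d.κ5 p * (d.i * d.g)⁻¹ = d.ι5 (i5 * p * i5) ∧
        d.i * d.g * d.ι5 p * (d.i * d.g)⁻¹ = d.κ5 (i5 * p * i5) := fun p => by
      constructor
      · rw [show d.i * d.g * d.κ5 p * (d.i * d.g)⁻¹ = d.i * (d.g * d.κ5 p * d.g⁻¹) * d.i⁻¹ by group,
          conj_g5, map_mul, map_mul, ι5_i, hiinv]
      · rw [show d.i * d.g * d.ι5 p * (d.i * d.g)⁻¹ = d.i * (d.g * d.ι5 p * d.g⁻¹) * d.i⁻¹ by group,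
          conj_g5', map_mul, map_mul, κ5_i, hiinv]
    have hjinv : (d.i * d.g)⁻¹ = d.i * d.g := by
      rw [mul_inv_rev, g_inv, hiinv]; exact d.commute_g_i.eq
    set α : A5g := ⟨_, hsg a⟩ with hα
    set β : A5g := ⟨_, hsg b⟩ with hβ
    have h : E.nf (β * a, α * b) = 1 := by
      rw [← h2, nf_apply, Subgroup.coe_mul, Subgroup.coe_mul, map_mul d.κ5 β.1 a.1, map_mul d.ι5 α.1 b.1]
      calc d.κ5 β.1 * d.κ5 a.1 * (d.ι5 α.1 * d.ι5 b.1)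
          = d.κ5 β.1 * (d.κ5 a.1 * d.ι5 α.1) * d.ι5 b.1 := by group
        _ = d.κ5 β.1 * (d.ι5 α.1 * d.κ5 a.1) * d.ι5 b.1 := by rw [(E.commute_nf a α).eq]
        _ = d.κ5 β.1 * d.ι5 α.1 * (d.κ5 a.1 * d.ι5 b.1) := by group
        _ = d.ι5 α.1 * d.κ5 β.1 * (d.κ5 a.1 * d.ι5 b.1) := by rw [(E.commute_nf β α).eq]
        _ = (d.i * d.g * d.κ5 a.1 * (d.i * d.g)⁻¹) * (d.i * d.g * d.ι5 b.1 * (d.i * d.g)⁻¹) *
              (d.κ5 a.1 * d.ι5 b.1) := by rw [(hjA a.1).1, (hjA b.1).2]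
        _ = d.i * d.g * (d.κ5 a.1 * d.ι5 b.1) * ((d.i * d.g)⁻¹ * (d.κ5 a.1 * d.ι5 b.1)) := by group
        _ = _ := by simp only [hjinv, mul_assoc]
    have h' := congrArg Prod.snd (E.nf_injective (h.trans (map_one _).symm))
    have hb : d.ι5 b.1 = (d.ι5 α.1)⁻¹ := by
      rw [← map_inv]; congr 1; exact eq_inv_of_mul_eq_one_right (congrArg Subtype.val h')
    refine isConj_iff.2 ⟨(d.κ5 a.1)⁻¹, ?_⟩
    have e1 : (d.κ5 a.1)⁻¹ * (d.i * d.g) = d.i * d.g * (d.ι5 α.1)⁻¹ := by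
      calc (d.κ5 a.1)⁻¹ * (d.i * d.g) = (d.κ5 a.1)⁻¹ * (d.i * d.g)⁻¹ := by rw [hjinv]
        _ = (d.i * d.g)⁻¹ * (d.i * d.g * d.κ5 a.1 * (d.i * d.g)⁻¹)⁻¹ := by group
        _ = _ := by rw [(hjA a.1).1, hjinv]
    rw [inv_inv, e1, hb, mul_assoc, ((E.commute_nf a α).inv_right).eq]

end Even

end Data

end Cfsg.Agent.SymEightLocal
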