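import Mathlib
import Cfsg.Agent.Lib.SymEightLocal.EvenN

/-!
# The two-groups of the exceptional configuration
-/

set_option autoImplicit false

namespace Cfsg.Agent.SymEightLocal

open Equiv EightLocal

universe u

set_option synthInstance.maxHeartbeats 200000
set_option synthInstance.maxSize 1024

/-- the four-group centralising `b5` -/
def W5set : List (Perm (Fin 5)) := [1, b5, v5, v5 * b5]

theorem W5_values :
    (∀ a : Perm (Fin 5), Perm.sign a = 1 → a * b5 = b5 * a → a ∈ W5set) ∧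
    (∀ a ∈ W5set, Perm.sign a = 1 ∧ a * b5 = b5 * a ∧ a * a = 1 ∧ i5 * a * i5 ∈ W5set) ∧
    (∀ a ∈ W5set, i5 * a * i5 * a = 1 → a = 1 ∨ a = b5) ∧
    (∀ a ∈ W5set, ∀ b ∈ W5set, a * b ∈ W5set ∧ a * b = b * a) ∧
    (∀ a ∈ W5set, a * b5 = 1 → a = b5) ∧
    c5 * v5 * c5⁻¹ ∉ W5set ∧ c5⁻¹ * v5 * c5 ∉ W5set ∧ Nat.card {a : Perm (Fin 5) // a ∈ W5set} = 4 := by
  refine ⟨by decide +kernel, by decide +kernel, by decide +kernel, by decide +kernel, by decide +kernel,
    by decide +kernel, by decide +kernel, ?_⟩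
  rw [Nat.card_congr (Equiv.subtypeEquivRight (q := fun a => a ∈ W5set.toFinset) fun a => by simp),
    Nat.card_eq_fintype_card, Fintype.card_coe]
  decide +kernel

theorem nS_cent_s : ∀ x : Fin 3 × Fin 3 × Fin 2 × Fin 2 × Fin 2, nS x * sS = sS * nS x →
    ∃ (m : Fin 3) (a b c : Fin 2), nS x = wS ^ (m : ℕ) * (iS ^ (a : ℕ) * sS ^ (b : ℕ) * bE ^ (c : ℕ)) := by
  decide +kernel

/-- the four-group of elements centralising `b5` -/
def W5g : Subgroup A5g where
  carrier := {a | a.1 ∈ W5set}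
  one_mem' := by decide
  mul_mem' := fun {a b} ha hb => (W5_values.2.2.2.1 a.1 ha b.1 hb).1
  inv_mem' := fun {a} ha => by
    show (a.1)⁻¹ ∈ W5set
    rw [inv_eq_of_mul_eq_one_right (W5_values.2.1 a.1 ha).2.2.1]
    exact ha

/-- A subgroup extended by an involution normalising it. -/
def ext2 {G : Type u} [Group G] (H : Subgroup G) (t : G) (ht : t * t = 1) (hn : ∀ x ∈ H, t * x * t ∈ H) :
    Subgroup G where
  carrier := {x | x ∈ H ∨ t * x ∈ H}
  one_mem' := Or.inl H.one_mem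
  mul_mem' := by
    intro x y hx hy
    have e : ∀ a : G, t * (t * a) = a := fun a => by rw [← mul_assoc, ht, one_mul]
    rcases hx with hx | hx <;> rcases hy with hy | hy
    · exact Or.inl (H.mul_mem hx hy)
    · right
      have h := H.mul_mem (hn x hx) hy
      rwa [show t * x * t * (t * y) = t * x * (t * (t * y)) by group, e, mul_assoc] at h
    · right
      have h := H.mul_mem hx hy
      rwa [mul_assoc] at h
    · left
      have h := H.mul_mem (hn _ hx) hy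
      rwa [show t * (t * x) * t * (t * y) = t * (t * x) * (t * (t * y)) by group, e, e] at h
  inv_mem' := by
    intro x hx
    rcases hx with hx | hx
    · exact Or.inl (H.inv_mem hx)
    · right
      have h := hn _ (H.inv_mem hx)
      have hti : t⁻¹ = t := inv_eq_of_mul_eq_one_right ht
      rwa [mul_inv_rev, hti, show t * (x⁻¹ * t) * t = t * x⁻¹ * (t * t) by group, ht, mul_one] at h

theorem mem_ext2 {G : Type u} [Group G] {H : Subgroup G} {t : G} {ht : t * t = 1} {hn : ∀ x ∈ H, t * x * t ∈ H}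
    {x : G} : x ∈ ext2 H t ht hn ↔ x ∈ H ∨ t * x ∈ H := Iff.rfl

theorem le_ext2 {G : Type u} [Group G] {H : Subgroup G} {t : G} {ht : t * t = 1} {hn : ∀ x ∈ H, t * x * t ∈ H} :
    H ≤ ext2 H t ht hn := fun _ h => Or.inl h

theorem card_ext2 {G : Type u} [Group G] [Finite G] {H : Subgroup G} {t : G} {ht : t * t = 1}
    {hn : ∀ x ∈ H, t * x * t ∈ H} (htH : t ∉ H) : Nat.card (ext2 H t ht hn) = 2 * Nat.card H := by
  classical
  let f : Bool × H → ext2 H t ht hn := fun p =>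
    if p.1 then ⟨t * p.2.1, Or.inr (by rw [← mul_assoc, ht, one_mul]; exact p.2.2)⟩ else ⟨p.2.1, Or.inl p.2.2⟩
  have hf : Function.Bijective f := by
    constructor
    · rintro ⟨x, a⟩ ⟨y, b⟩ h
      have h' := congrArg Subtype.val h
      cases x <;> cases y <;> simp only [f, Bool.false_eq_true, if_false, if_true] at h'
      · rw [show a = b from Subtype.ext h']
      · exfalso; apply htH
        rw [eq_mul_inv_of_mul_eq h'.symm]
        exact H.mul_mem a.2 (H.inv_mem b.2)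
      · exfalso; apply htH
        rw [eq_mul_inv_of_mul_eq h']
        exact H.mul_mem b.2 (H.inv_mem a.2)
      · rw [show a = b from Subtype.ext (mul_left_cancel h')]
    · rintro ⟨x, hx | hx⟩
      · exact ⟨(false, ⟨x, hx⟩), by simp [f]⟩
      · exact ⟨(true, ⟨t * x, hx⟩), Subtype.ext (by simp [f, ← mul_assoc, ht])⟩
  rw [← Nat.card_congr (Equiv.ofBijective f hf), Nat.card_prod, Nat.card_eq_fintype_card, Fintype.card_bool]

namespace Data

namespace Even

variable {G : Type u} [Group G] [Finite G] {d : Data G} (E : d.Even)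
include E

/-- the elementary abelian group of order sixteen -/
def E16 : Subgroup G := (W5g.prod W5g).map E.nf

theorem mem_E16 {x : G} : x ∈ E.E16 ↔ ∃ a b : A5g, a.1 ∈ W5set ∧ b.1 ∈ W5set ∧ x = d.κ5 a.1 * d.ι5 b.1 := by
  constructor
  · rintro ⟨⟨a, b⟩, hab, rfl⟩
    exact ⟨a, b, hab.1, hab.2, rfl⟩
  · rintro ⟨a, b, ha, hb, rfl⟩
    exact ⟨(a, b), ⟨ha, hb⟩, rfl⟩

theorem mem_E16' {a b : Perm (Fin 5)} (ha : a ∈ W5set) (hb : b ∈ W5set) : d.κ5 a * d.ι5 b ∈ E.E16 :=
  E.mem_E16.2 ⟨⟨a, (W5_values.2.1 a ha).1⟩, ⟨b, (W5_values.2.1 b hb).1⟩, ha, hb, rfl⟩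

theorem κ5_E16 {a : Perm (Fin 5)} (ha : a ∈ W5set) : d.κ5 a ∈ E.E16 := by
  have h := E.mem_E16' ha (show (1 : Perm (Fin 5)) ∈ W5set by simp [W5set])
  rwa [map_one, mul_one] at h

theorem ι5_E16 {a : Perm (Fin 5)} (ha : a ∈ W5set) : d.ι5 a ∈ E.E16 := by
  have h := E.mem_E16' (show (1 : Perm (Fin 5)) ∈ W5set by simp [W5set]) ha
  rwa [map_one, one_mul] at h

theorem s_E16 : d.s ∈ E.E16 := by rw [← d.κ5_b E.hs]; exact E.κ5_E16 (by simp [W5set])
theorem r_E16 : d.κ sS ∈ E.E16 := by rw [← d.ι5_b E.hs]; exact E.ι5_E16 (by simp [W5set])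

theorem E16_le_N : E.E16 ≤ E.N := fun _ hx => by
  obtain ⟨a, b, -, -, rfl⟩ := E.mem_E16.1 hx
  exact E.mem_N.2 ⟨a, b, rfl⟩

theorem card_E16 : Nat.card E.E16 = 16 := by
  have hW : Nat.card W5g = 4 := by
    rw [← W5_values.2.2.2.2.2.2.2]
    exact Nat.card_congr
      { toFun := fun a => ⟨a.1.1, a.2⟩
        invFun := fun a => ⟨⟨a.1, (W5_values.2.1 a.1 a.2).1⟩, a.2⟩
        left_inv := fun a => rfl
        right_inv := fun a => rfl }
  rw [E16, Subgroup.card_map_of_injective E.nf_injective, Nat.card_congr (Subgroup.prodEquiv _ _).toEquiv,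
    Nat.card_prod, hW]

theorem E16_comm {x y : G} (hx : x ∈ E.E16) (hy : y ∈ E.E16) : x * y = y * x := by
  obtain ⟨⟨a, b⟩, ⟨ha, hb⟩, rfl⟩ := hx
  obtain ⟨⟨a', b'⟩, ⟨ha', hb'⟩, rfl⟩ := hy
  rw [← map_mul, ← map_mul]
  exact congrArg E.nf (Prod.ext (Subtype.ext (W5_values.2.2.2.1 _ ha _ ha').2)
    (Subtype.ext (W5_values.2.2.2.1 _ hb _ hb').2))

theorem i_normalizes {x : G} (hx : x ∈ E.E16) : d.i * x * d.i ∈ E.E16 := by
  obtain ⟨a, b, ha, hb, rfl⟩ := E.mem_E16.1 hx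
  have e : d.i * (d.κ5 a.1 * d.ι5 b.1) * d.i = d.κ5 (i5 * a.1 * i5) * d.ι5 (i5 * b.1 * i5) := by
    rw [map_mul, map_mul, map_mul, map_mul, κ5_i, ι5_i]
    calc d.i * (d.κ5 a.1 * d.ι5 b.1) * d.i = d.i * d.κ5 a.1 * (d.i * d.i) * d.ι5 b.1 * d.i := by
          rw [i_sq]; group
      _ = _ := by group
  rw [e]
  exact E.mem_E16' (W5_values.2.1 _ ha).2.2.2 (W5_values.2.1 _ hb).2.2.2

/-- the Sylow 2-subgroup of `C(s)` -/
def T : Subgroup G := ext2 E.E16 d.i d.i_sq fun _ h => E.i_normalizes h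

theorem i_notMem_N : d.i ∉ E.N := by
  intro h
  obtain ⟨a, b, hab⟩ := E.mem_N.1 h
  have key : ∀ q : Perm (Fin 5), Perm.sign q = 1 → (i5⁻¹ * a.1) * q = q * (i5⁻¹ * a.1) := by
    intro q hq
    apply d.κ5_injective
    simp only [map_mul, map_inv, κ5_i]
    have hc : Commute (d.ι5 b.1)⁻¹ (d.κ5 q) := (d.commute_AB E.hs E.hCi hq b.2).symm.inv_left
    rw [show d.i⁻¹ * d.κ5 a.1 = (d.ι5 b.1)⁻¹ by
      rw [hab, mul_inv_rev]; group]
    exact hc.eq
  have h1 := S5_centralizer _ (key c5 five_values.2.2.2.2.2.2.2.2.2.2.2.2.2.2.1)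
    (key v5 five_values.2.2.2.2.2.2.2.2.2.2.2.2.1)
  have h2 := congrArg Perm.sign h1
  rw [map_mul, map_inv, five_values.2.2.2.2.2.2.2.2.2.2.2.2.2.2.2, show Perm.sign a.1 = 1 from a.2, map_one] at h2
  exact absurd h2 (by decide)

theorem card_T : Nat.card E.T = 32 := by
  rw [T, card_ext2 fun h => E.i_notMem_N (E.E16_le_N h), E.card_E16]

theorem g_normalizes {x : G} (hx : x ∈ E.T) : d.g * x * d.g ∈ E.T := by
  have key : ∀ y ∈ E.E16, d.g * y * d.g ∈ E.E16 := by
    intro y hy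
    obtain ⟨a, b, ha, hb, rfl⟩ := E.mem_E16.1 hy
    have e : d.g * (d.κ5 a.1 * d.ι5 b.1) * d.g = d.κ5 b.1 * d.ι5 a.1 := by
      rw [(E.commute_nf b a).eq]
      calc d.g * (d.κ5 a.1 * d.ι5 b.1) * d.g = (d.g * d.κ5 a.1 * d.g⁻¹) * (d.g * d.ι5 b.1 * d.g) := by group
        _ = _ := by rw [conj_g5]; nth_rw 2 [← g_inv]; rw [conj_g5']
    rw [e]
    exact E.mem_E16' hb ha
  rcases hx with hx | hx
  · exact Or.inl (key x hx)
  · right
    rw [show d.i * (d.g * x * d.g) = d.g * (d.i * x) * d.g by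
      rw [← mul_assoc, ← mul_assoc, ← d.commute_g_i.eq]; group]
    exact key _ hx

/-- the Sylow 2-subgroup of `C(sr)` -/
def Tc : Subgroup G := ext2 E.T d.g d.g_sq fun _ h => E.g_normalizes h

theorem T_le_Nh : E.T ≤ E.Nh := by
  rintro x (hx | hx)
  · exact E.N_le_Nh (E.E16_le_N hx)
  · have h := mul_mem (inv_mem E.i_mem) (E.N_le_Nh (E.E16_le_N hx))
    rwa [inv_mul_cancel_left] at h

theorem g_notMem_T : d.g ∉ E.T := by
  intro h
  have hgs : d.g * d.s = d.s * d.g := by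
    rcases h with h | h
    · exact E.E16_comm h E.s_E16
    · have h1 := E.E16_comm h E.s_E16
      have h2 : d.i * (d.g * d.s) = d.i * (d.s * d.g) := by
        rw [← mul_assoc, h1, ← mul_assoc, d.s_commute_i]; group
      exact mul_left_cancel h2
  apply (by decide +kernel : bE ≠ sS)
  apply d.inj
  rw [← E.hs, hgs]; group

theorem card_Tc : Nat.card E.Tc = 64 := by
  rw [Tc, card_ext2 E.g_notMem_T, E.card_T]

theorem T_commute_s {x : G} (hx : x ∈ E.T) : x * d.s = d.s * x := by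
  rcases hx with hx | hx
  · exact E.E16_comm hx E.s_E16
  · have h := E.E16_comm hx E.s_E16
    have h2 : d.i * (x * d.s) = d.i * (d.s * x) := by
      rw [← mul_assoc, h, ← mul_assoc, ← mul_assoc, d.s_commute_i]
    exact mul_left_cancel h2

theorem T_commute_r {x : G} (hx : x ∈ E.T) : x * d.κ sS = d.κ sS * x := by
  have hir : d.κ sS * d.i = d.i * d.κ sS := by
    rw [← κ_iS, ← map_mul, ← map_mul]
    congr 1
  rcases hx with hx | hx
  · exact E.E16_comm hx E.r_E16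
  · have h := E.E16_comm hx E.r_E16
    have h2 : d.i * (x * d.κ sS) = d.i * (d.κ sS * x) := by
      rw [← mul_assoc, h, ← mul_assoc, ← mul_assoc, hir]
    exact mul_left_cancel h2

theorem rs_comm : d.κ sS * d.s = d.s * d.κ sS := E.E16_comm E.r_E16 E.s_E16

theorem g_r : d.g * d.κ sS * d.g⁻¹ = d.s := by
  rw [conj_g]

theorem Tc_commute_c {x : G} (hx : x ∈ E.Tc) : x * (d.s * d.κ sS) = d.s * d.κ sS * x := by
  have hT : ∀ {y}, y ∈ E.T → Commute y (d.s * d.κ sS) := fun hy =>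
    Commute.mul_right (E.T_commute_s hy) (E.T_commute_r hy)
  have hg : Commute d.g (d.s * d.κ sS) := by
    refine mul_inv_eq_iff_eq_mul.1 ?_
    rw [← conj_mul, E.g_r, E.hs, ← (d.even_κ E.hs).1]
    exact E.rs_comm
  rcases hx with hx | hx
  · exact (hT hx).eq
  · have h := (hg.inv_left).mul_left (hT hx)
    rwa [inv_mul_cancel_left] at h

theorem mem_Tc_of_commute {x : G} (hx : x ∈ E.Nh) (hc : x * (d.s * d.κ sS) = d.s * d.κ sS * x) : x ∈ E.Tc := by
  obtain ⟨j, hj, m, hm, rfl⟩ := E.Nh_cases hx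
  have hjT : j ∈ E.Tc := by
    simp only [reps, List.mem_cons, List.not_mem_nil, or_false] at hj
    have hi : d.i ∈ E.Tc := Or.inl (Or.inr (by rw [i_sq]; exact one_mem _))
    have hg : d.g ∈ E.Tc := Or.inr (by rw [g_sq]; exact one_mem _)
    rcases hj with rfl | rfl | rfl | rfl
    · exact one_mem _
    · exact hi
    · exact hg
    · exact mul_mem hi hg
  have hmc : Commute m (d.s * d.κ sS) := by
    have h := (show Commute j (d.s * d.κ sS) from E.Tc_commute_c hjT).inv_left.mul_left hc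
    rwa [inv_mul_cancel_left] at h
  obtain ⟨a, b, rfl⟩ := E.mem_N.1 hm
  let β : A5g := ⟨b5, five_values.2.2.2.2.2.2.2.2.2.2.2.2.2.1⟩
  have hcnf : d.s * d.κ sS = E.nf (β, β) := by
    rw [nf_apply, d.κ5_b E.hs, d.ι5_b E.hs]
  have h2 : E.nf ((a, b) * (β, β)) = E.nf ((β, β) * (a, b)) := by
    rw [map_mul, map_mul, ← hcnf]; exact hmc.eq
  have h3 := E.nf_injective h2
  exact mul_mem hjT (Or.inl (Or.inl (E.mem_E16' (W5_values.1 _ a.2 (congrArg Subtype.val (congrArg Prod.fst h3)))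
    (W5_values.1 _ b.2 (congrArg Subtype.val (congrArg Prod.snd h3))))))

end Even

end Data

end Cfsg.Agent.SymEightLocal
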