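import Mathlib
import Cfsg.Agent.Lib.SymEightLocal.EvenTori
import Cfsg.Agent.Lib.ZStar.Main

/-!
# The centraliser of `s` in the exceptional configuration
-/

set_option autoImplicit false

namespace Cfsg.Agent.SymEightLocal

open Equiv EightLocal Cfsg

universe u

set_option synthInstance.maxHeartbeats 200000
set_option synthInstance.maxSize 1024
set_option maxHeartbeats 2000000

theorem nS_cent_s_sq : ∀ x : Fin 3 × Fin 3 × Fin 2 × Fin 2 × Fin 2, nS x * sS = sS * nS x →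
    ∃ j : Fin 3, nS x * nS x = wS ^ (j : ℕ) := by decide +kernel

theorem c5_moves : ∀ m : Fin 3, m ≠ 0 → c5 ^ (m : ℕ) * v5 * (c5 ^ (m : ℕ))⁻¹ ∉ W5set := by decide +kernel

theorem W5_half : ∀ a ∈ W5set, i5 * a * i5 * a = 1 → ∃ a' ∈ W5set, a' * i5 * a' = i5 * a := by decide +kernel

/-- A fixed-point-free involution inverts an odd normal subgroup. -/
theorem inverts_of_fpf {H : Type u} [Group H] [Finite H] (O : Subgroup H) [O.Normal] {t : H} (ht : t * t = 1)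
    (hf : ∀ q ∈ O, t * q = q * t → q = 1) : ∀ q ∈ O, t * q * t⁻¹ = q⁻¹ := by
  let φ : O →* O := (MulAut.conjNormal t).toMonoidHom
  have hφ : MonoidHom.FixedPointFree φ := fun q hq => Subtype.ext (hf q.1 q.2 (by
    have h : t * q.1 * t⁻¹ = q.1 := congrArg Subtype.val hq
    exact mul_inv_eq_iff_eq_mul.1 h))
  have hi : Function.Involutive φ := fun q => Subtype.ext (by
    show t * (t * q.1 * t⁻¹) * t⁻¹ = q.1
    rw [show t * (t * q.1 * t⁻¹) * t⁻¹ = t * t * q.1 * (t * t)⁻¹ by group, ht]; group)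
  intro q hq
  exact congrArg Subtype.val (congrFun (hφ.coe_eq_inv_of_involutive hi) ⟨q, hq⟩)

/-- An element of odd order commutes with an involution as soon as its square does. -/
theorem commute_of_sq {G : Type u} [Group G] {y a : G} {n : ℕ} (hn : Odd n) (hy : y ^ n = 1)
    (h : Commute (y * y) a) : Commute y a := by
  obtain ⟨k, rfl⟩ := hn
  have : y = (y * y) ^ (k + 1) := by
    rw [← pow_two, ← pow_mul, show 2 * (k + 1) = 2 * k + 1 + 1 by ring, pow_succ, hy, one_mul]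
  rw [this]
  exact h.pow_left _

namespace Data

namespace Even

variable {G : Type u} [Group G] [Finite G] {d : Data G} (E : d.Even)
include E

theorem card_Ci : Nat.card d.Ci = 144 := by
  rw [le_antisymm E.hCi d.ND_le_Ci, d.card_ND]

theorem not_isI_s' : ¬ d.IsI d.s := d.not_isI_s E.hs

theorem T_le_Cs : E.T ≤ Subgroup.centralizer ({d.s} : Set G) := fun _ hx =>
  Subgroup.mem_centralizer_singleton_iff.2 (E.T_commute_s hx)

theorem Tc_le_Cc : E.Tc ≤ Subgroup.centralizer ({d.s * d.κ sS} : Set G) := fun _ hx =>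
  Subgroup.mem_centralizer_singleton_iff.2 (E.Tc_commute_c hx)

theorem not_isI_c : ¬ d.IsI (d.s * d.κ sS) := by
  rintro ⟨h, hh⟩
  have h1 := Subgroup.card_dvd_of_le (le_trans (le_ext2 : E.T ≤ E.Tc) E.Tc_le_Cc)
  rw [E.card_T, ← hh, card_centralizer_conj, show Nat.card (Subgroup.centralizer ({d.i} : Set G)) = 144 from E.card_Ci] at h1
  norm_num at h1

/-- conjugation of an involution of `A` to `s` -/
theorem conj_A {a : Perm (Fin 5)} (ha : Perm.sign a = 1) (ha2 : a * a = 1) (ha1 : a ≠ 1) :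
    ∃ π : Perm (Fin 5), Perm.sign π = 1 ∧ d.κ5 π * d.s * (d.κ5 π)⁻¹ = d.κ5 a := by
  obtain ⟨π, hπ, e⟩ := even_invol a ha ha2 ha1
  exact ⟨π, hπ, by rw [← d.κ5_b E.hs, ← map_inv, ← map_mul, ← map_mul, e]⟩

/-- conjugation of an involution of `B` to `r` -/
theorem conj_B {b : Perm (Fin 5)} (hb : Perm.sign b = 1) (hb2 : b * b = 1) (hb1 : b ≠ 1) :
    ∃ π : Perm (Fin 5), Perm.sign π = 1 ∧ d.ι5 π * d.κ sS * (d.ι5 π)⁻¹ = d.ι5 b := by
  obtain ⟨π, hπ, e⟩ := even_invol b hb hb2 hb1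
  exact ⟨π, hπ, by rw [← d.ι5_b E.hs, ← map_inv, ← map_mul, ← map_mul, e]⟩

/-- The classes of the involutions of `N`. -/
theorem N_classes {a b : A5g} (ha : a.1 * a.1 = 1) (hb : b.1 * b.1 = 1) :
    (a.1 = 1 ∧ b.1 = 1) ∨
    ((a.1 ≠ 1 ∧ b.1 = 1) ∧ ∃ h ∈ E.Nh, h * d.s * h⁻¹ = d.κ5 a.1 * d.ι5 b.1) ∨
    ((a.1 = 1 ∧ b.1 ≠ 1) ∧ ∃ h ∈ E.Nh, h * d.s * h⁻¹ = d.κ5 a.1 * d.ι5 b.1) ∨
    ((a.1 ≠ 1 ∧ b.1 ≠ 1) ∧ ∃ h ∈ E.Nh, h * (d.s * d.κ sS) * h⁻¹ = d.κ5 a.1 * d.ι5 b.1) := by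
  rcases eq_or_ne a.1 1 with ha1 | ha1 <;> rcases eq_or_ne b.1 1 with hb1 | hb1
  · exact Or.inl ⟨ha1, hb1⟩
  · refine Or.inr (Or.inr (Or.inl ⟨⟨ha1, hb1⟩, ?_⟩))
    obtain ⟨π, hπ, e⟩ := E.conj_B b.2 hb hb1
    refine ⟨d.ι5 π * d.g, mul_mem (E.N_le_Nh (E.ι5_mem hπ)) E.g_mem, ?_⟩
    rw [ha1, map_one, one_mul, ← e, show d.κ sS = d.g * d.s * d.g⁻¹ from rfl]
    group
  · refine Or.inr (Or.inl ⟨⟨ha1, hb1⟩, ?_⟩)
    obtain ⟨π, hπ, e⟩ := E.conj_A a.2 ha ha1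
    exact ⟨d.κ5 π, E.N_le_Nh (E.κ5_mem hπ), by rw [hb1, map_one, mul_one, e]⟩
  · refine Or.inr (Or.inr (Or.inr ⟨⟨ha1, hb1⟩, ?_⟩))
    obtain ⟨π, hπ, e⟩ := E.conj_A a.2 ha ha1
    obtain ⟨τ, hτ, f⟩ := E.conj_B b.2 hb hb1
    refine ⟨d.κ5 π * d.ι5 τ, E.N_le_Nh (mul_mem (E.κ5_mem hπ) (E.ι5_mem hτ)), ?_⟩
    have h1 : Commute (d.ι5 τ) d.s := d.ι5_commute_s τ
    have h2 : Commute (d.κ5 π) (d.ι5 b.1) := E.commute_nf ⟨π, hπ⟩ b
    calc d.κ5 π * d.ι5 τ * (d.s * d.κ sS) * (d.κ5 π * d.ι5 τ)⁻¹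
        = d.κ5 π * (d.ι5 τ * d.s) * d.κ sS * (d.ι5 τ)⁻¹ * (d.κ5 π)⁻¹ := by group
      _ = d.κ5 π * d.s * (d.ι5 τ * d.κ sS * (d.ι5 τ)⁻¹) * (d.κ5 π)⁻¹ := by rw [h1.eq]; group
      _ = d.κ5 π * d.s * (d.ι5 b.1 * (d.κ5 π)⁻¹) := by rw [f]; group
      _ = d.κ5 π * d.s * ((d.κ5 π)⁻¹ * d.ι5 b.1) := by rw [h2.inv_left.eq]
      _ = _ := by rw [← e]; group

theorem T_normalizer {h : G} (hs : h * d.s = d.s * h) (hn : ∀ t ∈ E.T, h * t * h⁻¹ ∈ E.T) : h ∈ E.T := by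
  have hiT : d.i ∈ E.T := Or.inr (by rw [i_sq]; exact one_mem _)
  have hI := d.isI_conj d.isI_i h
  have h2 : h * d.i * h⁻¹ * (h * d.i * h⁻¹) = 1 := by
    rw [show h * d.i * h⁻¹ * (h * d.i * h⁻¹) = h * (d.i * d.i) * h⁻¹ by group, i_sq]; group
  rcases hn _ hiT with hx | hx
  · exfalso
    obtain ⟨a, b, ha, hb, e⟩ := E.mem_E16.1 hx
    rcases E.N_classes (W5_values.2.1 _ ha).2.2.1 (W5_values.2.1 _ hb).2.2.1 with ⟨h1, h1'⟩ | ⟨-, k, -, hk⟩ |
      ⟨-, k, -, hk⟩ | ⟨-, k, -, hk⟩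
    · rw [h1, h1', map_one, map_one, one_mul, conj_eq_one_iff] at e
      exact d.i_ne_one e
    · exact E.not_isI_s' (by
        have := d.isI_conj (e.trans hk.symm ▸ hI) k⁻¹
        rwa [show k⁻¹ * (k * d.s * k⁻¹) * k⁻¹⁻¹ = d.s by group] at this)
    · exact E.not_isI_s' (by
        have := d.isI_conj (e.trans hk.symm ▸ hI) k⁻¹
        rwa [show k⁻¹ * (k * d.s * k⁻¹) * k⁻¹⁻¹ = d.s by group] at this)
    · exact E.not_isI_c (by
        have := d.isI_conj (e.trans hk.symm ▸ hI) k⁻¹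
        rwa [show k⁻¹ * (k * (d.s * d.κ sS) * k⁻¹) * k⁻¹⁻¹ = d.s * d.κ sS by group] at this)
  obtain ⟨a, b, ha, hb, e⟩ := E.mem_E16.1 hx
  have hxe : h * d.i * h⁻¹ = d.i * (d.κ5 a.1 * d.ι5 b.1) := by
    rw [← e, ← mul_assoc, i_sq, one_mul]
  rw [hxe] at h2
  obtain ⟨-, ha2, hb2⟩ := E.coset_i h2
  obtain ⟨a', ha', ea⟩ := W5_half _ ha ha2
  obtain ⟨b', hb', eb⟩ := W5_half _ hb hb2
  set t := d.κ5 a' * d.ι5 b' with ht
  have htE : t ∈ E.E16 := E.mem_E16' ha' hb'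
  have htT : t ∈ E.T := Or.inl htE
  have ht2 : t * t = 1 := by
    obtain ⟨p, q, hp, hq, ee⟩ := E.mem_E16.1 htE
    rw [ee, show d.κ5 p.1 * d.ι5 q.1 * (d.κ5 p.1 * d.ι5 q.1) = E.nf ((p, q) * (p, q)) by rw [map_mul, nf_apply],
      show (p, q) * (p, q) = (1 : A5g × A5g) from Prod.ext (Subtype.ext (W5_values.2.1 _ hp).2.2.1)
        (Subtype.ext (W5_values.2.1 _ hq).2.2.1), map_one]
  have hti : t * d.i * t = d.i * (d.κ5 a.1 * d.ι5 b.1) := by
    have hc : ∀ {p q : Perm (Fin 5)}, p ∈ W5set → q ∈ W5set → Commute (d.κ5 p) (d.ι5 q) := fun hp hq =>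
      d.commute_AB E.hs E.hCi (W5_values.2.1 _ hp).1 (W5_values.2.1 _ hq).1
    have e1 : d.ι5 b' * d.i * d.ι5 b' = d.i * d.ι5 b.1 := by rw [← ι5_i, ← map_mul, ← map_mul, ← map_mul, eb]
    have e2 : d.κ5 a' * d.i * d.κ5 a' = d.i * d.κ5 a.1 := by rw [← κ5_i, ← map_mul, ← map_mul, ← map_mul, ea]
    calc t * d.i * t = d.κ5 a' * d.ι5 b' * d.i * (d.κ5 a' * d.ι5 b') := by rw [ht]
      _ = d.κ5 a' * d.ι5 b' * d.i * (d.ι5 b' * d.κ5 a') := by rw [(hc ha' hb').eq]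
      _ = d.κ5 a' * (d.ι5 b' * d.i * d.ι5 b') * d.κ5 a' := by group
      _ = d.κ5 a' * d.i * (d.ι5 b.1 * d.κ5 a') := by rw [e1]; group
      _ = d.κ5 a' * d.i * (d.κ5 a' * d.ι5 b.1) := by rw [(hc ha' hb).eq]
      _ = (d.κ5 a' * d.i * d.κ5 a') * d.ι5 b.1 := by group
      _ = _ := by rw [e2]; group
  set k := t * h with hk
  have hki : k * d.i = d.i * k := by
    refine mul_inv_eq_iff_eq_mul.1 ?_
    rw [show k * d.i * k⁻¹ = t * (h * d.i * h⁻¹) * t⁻¹ by rw [hk]; group, hxe, ← hti,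
      inv_eq_of_mul_eq_one_right ht2, show t * (t * d.i * t) * t = t * t * d.i * (t * t) by group, ht2]
    group
  have hks : k * d.s = d.s * k := ((show Commute t d.s from E.T_commute_s htT).mul_left hs).eq
  suffices hkT : k ∈ E.T by
    have := mul_mem htT hkT
    rwa [hk, ← mul_assoc, ht2, one_mul] at this
  obtain ⟨x, hx⟩ := d.norm_D k (E.hCi (d.mem_Ci.2 hki))
  have hkx : k = d.ι (nS x) := by
    rcases hx with e' | e'
    · exact e'
    · exfalso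
      apply no_swap_pair x
      apply d.inj
      rw [map_mul, map_mul, map_inv, ← E.hs]
      calc d.ι (nS x) * (d.g * d.s * d.g⁻¹) * (d.ι (nS x))⁻¹
          = d.ι (nS x) * d.g * d.s * (d.ι (nS x) * d.g)⁻¹ := by group
        _ = k * d.s * k⁻¹ := by rw [e']
        _ = d.s := by rw [hks]; group
  obtain ⟨m, p, q, r, hm⟩ := nS_cent_s x (d.inj (by rw [map_mul, map_mul, ← hkx]; exact hks))
  have hkw : k = d.w ^ (m : ℕ) * (d.i ^ (p : ℕ) * d.s ^ (q : ℕ) * (d.κ sS) ^ (r : ℕ)) := by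
    rw [hkx, hm, (d.even_κ E.hs).1]
    simp only [map_mul, map_pow]
  have hrest : d.i ^ (p : ℕ) * d.s ^ (q : ℕ) * (d.κ sS) ^ (r : ℕ) ∈ E.T :=
    mul_mem (mul_mem (pow_mem hiT _) (pow_mem (Or.inl E.s_E16) _)) (pow_mem (Or.inl E.r_E16) _)
  set e3 := d.i ^ (p : ℕ) * d.s ^ (q : ℕ) * (d.κ sS) ^ (r : ℕ)
  have hwn : ∀ y ∈ E.T, d.w ^ (m : ℕ) * y * (d.w ^ (m : ℕ))⁻¹ ∈ E.T := by
    intro y hy
    have h1 := hn _ (mul_mem (mul_mem (inv_mem hrest) hy) hrest)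
    have h2 := mul_mem (mul_mem htT h1) (inv_mem htT)
    have e' : t * (h * (e3⁻¹ * y * e3) * h⁻¹) * t⁻¹ = k * e3⁻¹ * y * (k * e3⁻¹)⁻¹ := by rw [hk]; group
    rw [e', show k * e3⁻¹ = d.w ^ (m : ℕ) by rw [hkw]; group] at h2
    exact h2
  rcases (by decide : ∀ m : Fin 3, m = 0 ∨ m = 1 ∨ m = 2) m with rfl | hm0
  · rw [hkw, Fin.val_zero, pow_zero, one_mul]
    exact hrest
  · exfalso
    have hw := hwn _ (Or.inl (E.ι5_E16 (show v5 ∈ W5set by simp [W5set])))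
    have hmem : d.w ^ (m : ℕ) * d.ι5 v5 * (d.w ^ (m : ℕ))⁻¹ = d.ι5 (c5 ^ (m : ℕ) * v5 * (c5 ^ (m : ℕ))⁻¹) := by
      rw [map_mul, map_mul, map_inv, map_pow, ι5_c]
    rw [hmem] at hw
    have hsg : Perm.sign (c5 ^ (m : ℕ) * v5 * (c5 ^ (m : ℕ))⁻¹) = 1 := by
      rw [map_mul, map_mul, map_inv, five_values.2.2.2.2.2.2.2.2.2.2.2.2.1, mul_one, mul_inv_cancel]
    rcases hw with hw | hw
    · obtain ⟨a0, b0, -, hb0, e0⟩ := E.mem_E16.1 hw
      have e1 : E.nf (1, ⟨_, hsg⟩) = E.nf (a0, b0) := by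
        rw [nf_apply, nf_apply, ← e0]; simp
      have e2 : c5 ^ (m : ℕ) * v5 * (c5 ^ (m : ℕ))⁻¹ = b0.1 := congrArg (fun t => (t.2 : A5g).1) (E.nf_injective e1)
      rw [← e2] at hb0
      exact c5_moves m (by rcases hm0 with rfl | rfl <;> decide) hb0
    · apply E.i_notMem_N
      have := mul_mem (E.E16_le_N hw) (inv_mem (E.ι5_mem hsg))
      rwa [mul_inv_cancel_right] at this

theorem not_64_dvd : ¬ 64 ∣ Nat.card (Subgroup.centralizer ({d.s} : Set G)) := by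
  haveI : Fact (Nat.Prime 2) := ⟨Nat.prime_two⟩
  intro h64
  set C := Subgroup.centralizer ({d.s} : Set G)
  have hT : Nat.card (E.T.subgroupOf C) = 2 ^ 5 := by
    rw [Nat.card_congr (Subgroup.subgroupOfEquivOfLe E.T_le_Cs).toEquiv, E.card_T]; norm_num
  obtain ⟨K, hK, hle⟩ := Sylow.exists_subgroup_card_pow_prime_le 2 (m := 6) (by simpa using h64) _ hT (by norm_num)
  have hnK : ((E.T.subgroupOf C).subgroupOf K).Normal := by
    refine Subgroup.normal_of_index_eq_two ?_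
    have h1 := Subgroup.card_mul_index ((E.T.subgroupOf C).subgroupOf K)
    rw [Nat.card_congr (Subgroup.subgroupOfEquivOfLe hle).toEquiv, hT, hK] at h1
    norm_num at h1 ⊢
    omega
  have hKT : K ≤ E.T.subgroupOf C := by
    intro x hx
    refine Subgroup.mem_subgroupOf.2 (E.T_normalizer (Subgroup.mem_centralizer_singleton_iff.1 x.2) fun t ht => ?_)
    have h1 := hnK.conj_mem ⟨⟨t, E.T_le_Cs ht⟩, hle (Subgroup.mem_subgroupOf.2 ht)⟩
      (Subgroup.mem_subgroupOf.2 (Subgroup.mem_subgroupOf.2 ht)) ⟨x, hx⟩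
    simpa [Subgroup.mem_subgroupOf] using h1
  have := Subgroup.card_dvd_of_le hKT
  rw [hK, hT] at this
  norm_num at this

theorem not_isConj_s_c : ¬ IsConj d.s (d.s * d.κ sS) := by
  intro h
  obtain ⟨k, hk⟩ := isConj_iff.1 h
  have h1 := Subgroup.card_dvd_of_le E.Tc_le_Cc
  rw [E.card_Tc, ← hk, card_centralizer_conj] at h1
  exact E.not_64_dvd h1

theorem v_iso {h : G} (hs : h * d.s = d.s * h) (hx : h * d.κ5 v5 * h⁻¹ ∈ E.T) :
    h * d.κ5 v5 * h⁻¹ = d.κ5 v5 ∨ h * d.κ5 v5 * h⁻¹ = d.κ5 v5 * d.s := by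
  obtain ⟨π, -, eπ⟩ := E.conj_A five_values.2.2.2.2.2.2.2.2.2.2.2.2.1 five_values.1 five_values.2.2.2.2.1
  have hcj : IsConj d.s (h * d.κ5 v5 * h⁻¹) := isConj_iff.2 ⟨h * d.κ5 π, by rw [← eπ]; group⟩
  have h2 : h * d.κ5 v5 * h⁻¹ * (h * d.κ5 v5 * h⁻¹) = 1 := by
    rw [show h * d.κ5 v5 * h⁻¹ * (h * d.κ5 v5 * h⁻¹) = h * (d.κ5 v5 * d.κ5 v5) * h⁻¹ by group, ← map_mul,
      five_values.1, map_one]; group
  rcases hx with hx | hx
  swap
  · exfalso
    obtain ⟨a, b, ha, hb, e⟩ := E.mem_E16.1 hx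
    have hxe : h * d.κ5 v5 * h⁻¹ = d.i * (d.κ5 a.1 * d.ι5 b.1) := by
      rw [← e, ← mul_assoc, i_sq, one_mul]
    rw [hxe] at h2 hcj
    obtain ⟨⟨k, -, hk⟩, -, -⟩ := E.coset_i h2
    rw [← hk] at hcj
    obtain ⟨l, hl⟩ := isConj_iff.1 hcj
    exact E.not_isI_s' ⟨l⁻¹ * k, by
      rw [show l⁻¹ * k * d.i * (l⁻¹ * k)⁻¹ = l⁻¹ * (k * d.i * k⁻¹) * l by group, ← hl]; group⟩
  obtain ⟨a, b, ha, hb, e⟩ := E.mem_E16.1 hx
  rcases E.N_classes (W5_values.2.1 _ ha).2.2.1 (W5_values.2.1 _ hb).2.2.1 with ⟨h1, h1'⟩ | ⟨⟨ha1, hb1⟩, -⟩ |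
    ⟨⟨ha1, hb1⟩, -⟩ | ⟨-, k, -, hk⟩
  · exfalso
    rw [h1, h1', map_one, map_one, one_mul, conj_eq_one_iff] at e
    exact five_values.2.2.2.2.1 (d.κ5_injective (e.trans (map_one _).symm))
  · rw [hb1, map_one, mul_one] at e
    rw [e]
    have ha' : a.1 = b5 ∨ a.1 = v5 ∨ a.1 = v5 * b5 := by
      simpa [W5set, ha1] using ha
    rcases ha' with f | f | f
    · exfalso
      rw [f, d.κ5_b E.hs] at e
      have h3 : d.κ5 v5 = d.s := by
        have : h * d.κ5 v5 * h⁻¹ = h * d.s * h⁻¹ := by rw [e, hs]; group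
        exact mul_left_cancel (mul_right_cancel this)
      rw [← d.κ5_b E.hs] at h3
      exact absurd (d.κ5_injective h3) (by decide +kernel)
    · exact Or.inl (by rw [f])
    · exact Or.inr (by rw [f, map_mul, d.κ5_b E.hs])
  · exfalso
    rw [ha1, map_one, one_mul] at e
    obtain ⟨τ, hτ, f⟩ := E.conj_B b.2 (W5_values.2.1 _ hb).2.2.1 hb1
    obtain ⟨π', -, eπ'⟩ := E.conj_A (a := v5 * b5) (by decide +kernel) (by decide +kernel) (by decide +kernel)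
    rw [map_mul, d.κ5_b E.hs] at eπ'
    apply E.not_isConj_s_c
    refine isConj_iff.2 ⟨(d.ι5 τ)⁻¹ * (h * d.κ5 π'), ?_⟩
    calc (d.ι5 τ)⁻¹ * (h * d.κ5 π') * d.s * ((d.ι5 τ)⁻¹ * (h * d.κ5 π'))⁻¹
        = (d.ι5 τ)⁻¹ * (h * (d.κ5 π' * d.s * (d.κ5 π')⁻¹) * h⁻¹) * d.ι5 τ := by group
      _ = (d.ι5 τ)⁻¹ * ((h * d.κ5 v5 * h⁻¹) * (h * d.s * h⁻¹)) * d.ι5 τ := by rw [eπ']; group
      _ = (d.ι5 τ)⁻¹ * (d.ι5 τ * d.κ sS * (d.ι5 τ)⁻¹ * d.s) * d.ι5 τ := by
          rw [e, ← f, show h * d.s * h⁻¹ = d.s by rw [hs]; group]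
      _ = d.κ sS * (d.ι5 τ)⁻¹ * (d.s * d.ι5 τ) := by group
      _ = d.κ sS * (d.ι5 τ)⁻¹ * (d.ι5 τ * d.s) := by rw [(d.ι5_commute_s τ).eq]
      _ = d.s * d.κ sS := by rw [← E.rs_comm]; group
  · exfalso
    apply E.not_isConj_s_c
    rw [e, ← hk] at hcj
    exact hcj.trans (isConj_iff.2 ⟨k⁻¹, by group⟩)

theorem mem_CW_iff {y : G} (h1 : y * d.s = d.s * y) (h2 : y * d.κ5 v5 = d.κ5 v5 * y) :
    ∃ a b : A5g, a.1 ∈ W5set ∧ y = d.κ5 a.1 * d.ι5 b.1 := by
  let f : W5g × A5g → d.CW := fun p => ⟨d.κ5 p.1.1.1 * d.ι5 p.2.1, d.mem_CW.2 ⟨by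
      have h : Commute (d.κ5 p.1.1.1) d.s := by
        rw [← d.κ5_b E.hs]; exact (show Commute p.1.1.1 b5 from (W5_values.2.1 _ p.1.2).2.1).map d.κ5
      exact (h.mul_left (d.ι5_commute_s _)).eq, by
      have h : Commute (d.κ5 p.1.1.1) (d.κ5 v5) :=
        (show Commute p.1.1.1 v5 from (W5_values.2.2.2.1 _ p.1.2 v5 (by simp [W5set])).2).map d.κ5
      exact (h.mul_left (d.commute_AB E.hs E.hCi five_values.2.2.2.2.2.2.2.2.2.2.2.2.1 p.2.2).symm).eq⟩⟩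
  have hf : Function.Injective f := by
    intro p q h
    have h' := E.nf_injective (show E.nf (p.1.1, p.2) = E.nf (q.1.1, q.2) from congrArg Subtype.val h)
    exact Prod.ext (Subtype.ext (congrArg Prod.fst h')) (congrArg Prod.snd h' :)
  have hW : Nat.card W5g = 4 := by
    rw [← W5_values.2.2.2.2.2.2.2]
    exact Nat.card_congr
      { toFun := fun a => ⟨a.1.1, a.2⟩
        invFun := fun a => ⟨⟨a.1, (W5_values.2.1 a.1 a.2).1⟩, a.2⟩
        left_inv := fun a => rfl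
        right_inv := fun a => rfl }
  have h240 : Nat.card (W5g × A5g) = 240 := by
    rw [Nat.card_prod, hW, nat_card_alternatingGroup, Nat.card_fin]; rfl
  have hle : Nat.card d.CW ≤ 240 := by
    rcases d.card_CV (d.even_κ E.hs).1 with h | h | h <;>
      exact le_trans (Nat.le_of_dvd Nat.card_pos (d.card_CW_dvd E.hs)) (by rw [h]; try norm_num)
  have hbij : Function.Bijective f := (Nat.bijective_iff_injective_and_card f).2
    ⟨hf, le_antisymm (Nat.card_le_card_of_injective f hf) (hle.trans h240.ge)⟩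
  obtain ⟨p, hp⟩ := hbij.2 ⟨y, d.mem_CW.2 ⟨h1, h2⟩⟩
  exact ⟨p.1.1, p.2, p.1.2, (congrArg Subtype.val hp).symm⟩

/-- The centraliser of `s` lies in the normaliser of `N`. -/
theorem Cs_le : Subgroup.centralizer ({d.s} : Set G) ≤ E.Nh := by
  classical
  haveI : Fact (Nat.Prime 2) := ⟨Nat.prime_two⟩
  set C := Subgroup.centralizer ({d.s} : Set G) with hC
  have memC : ∀ {x : G}, x ∈ C ↔ x * d.s = d.s * x := Subgroup.mem_centralizer_singleton_iff
  set sC : C := ⟨d.s, memC.2 rfl⟩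
  set Z := Subgroup.zpowers sC
  haveI hZn : Z.Normal := ⟨fun n hn k => by
    obtain ⟨j, rfl⟩ := Subgroup.mem_zpowers_iff.1 hn
    have hc : Commute k sC := Subtype.ext (memC.1 k.2)
    rw [(hc.zpow_right j).eq, mul_inv_cancel_right]
    exact hn⟩
  have hs2 : d.s * d.s = 1 := by rw [s, ← map_mul, values.2.2.2.2.2.2.2.1, map_one]
  have hs1 : d.s ≠ 1 := fun h => (by decide +kernel : sS ≠ 1) (d.inj (h.trans (map_one _).symm))
  have hZ : ∀ c : C, c ∈ Z → c.1 = 1 ∨ c.1 = d.s := by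
    intro c hc
    obtain ⟨j, rfl⟩ := Subgroup.mem_zpowers_iff.1 hc
    rw [Subgroup.coe_zpow]
    obtain ⟨q, rfl⟩ | ⟨q, rfl⟩ := Int.even_or_odd j
    · left; rw [← two_mul, zpow_mul, zpow_two, show sC.1 * sC.1 = 1 from hs2, one_zpow]
    · right; rw [zpow_add, zpow_mul, zpow_two, show sC.1 * sC.1 = 1 from hs2, one_zpow, one_mul, zpow_one]
  set π := QuotientGroup.mk' Z with hπ
  have hπs : Function.Surjective π := QuotientGroup.mk'_surjective _
  have hker : ∀ c : C, π c = 1 → c.1 = 1 ∨ c.1 = d.s := fun c h => hZ c ((QuotientGroup.eq_one_iff _).1 h)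
  have heq : ∀ a b : C, π a = π b → b.1 = a.1 ∨ b.1 = a.1 * d.s := by
    intro a b h
    rcases hker (a⁻¹ * b) (by rw [map_mul, map_inv, h, inv_mul_cancel]) with e | e
    · exact Or.inl (inv_mul_eq_one.1 (show (a.1)⁻¹ * b.1 = 1 from e)).symm
    · exact Or.inr (inv_mul_eq_iff_eq_mul.1 (show (a.1)⁻¹ * b.1 = d.s from e))
  have hvs : d.κ5 v5 * d.s = d.s * d.κ5 v5 := E.T_commute_s (Or.inl (E.κ5_E16 (by simp [W5set])))
  set vC : C := ⟨d.κ5 v5, memC.2 hvs⟩ with hvC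
  set iC : C := ⟨d.i, memC.2 d.s_commute_i.symm⟩ with hiC
  set uC : C := ⟨d.ι5 v5, memC.2 (d.ι5_commute_s v5).eq⟩ with huC
  set rC : C := ⟨d.κ sS, memC.2 E.rs_comm⟩ with hrC
  set wC : C := ⟨d.w, memC.2 (by rw [← ι5_c]; exact (d.ι5_commute_s c5).eq)⟩ with hwC
  have hv2 : vC * vC = 1 := Subtype.ext (by show d.κ5 v5 * d.κ5 v5 = 1; rw [← map_mul, five_values.1, map_one])
  have hi2 : iC * iC = 1 := Subtype.ext d.i_sq
  -- lifting odd-order elements
  set O := oddCore (C ⧸ Z) with hO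
  have hOodd : Odd (Nat.card O) := PCore.odd_card_oddCore
  have hlift : ∀ q ∈ O, ∃ y : C, π y = q ∧ y ^ Nat.card O = 1 := by
    intro q hq
    obtain ⟨y, rfl⟩ := hπs q
    have h1 : π (y ^ Nat.card O) = 1 := by
      rw [map_pow]
      exact congrArg Subtype.val (pow_card_eq_one' (x := (⟨π y, hq⟩ : O)))
    rcases hker _ h1 with e | e
    · exact ⟨y, rfl, Subtype.ext e⟩
    · refine ⟨y * sC, ?_, Subtype.ext ?_⟩
      · rw [map_mul, show π sC = 1 from (QuotientGroup.eq_one_iff _).2 (Subgroup.mem_zpowers _), mul_one]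
      · have hc : Commute y.1 d.s := memC.1 y.2
        show (y.1 * d.s) ^ Nat.card O = 1
        obtain ⟨j, hj⟩ := hOodd
        rw [hc.mul_pow, show y.1 ^ Nat.card O = d.s from e, hj, pow_succ, pow_mul, pow_two, hs2, one_pow, one_mul, hs2]
  have hcomm : ∀ (y a : C), y ^ Nat.card O = 1 → a * a = 1 → π y * π a = π a * π y → y.1 * a.1 = a.1 * y.1 := by
    intro y a hy ha h
    have hy' : y.1 ^ Nat.card O = 1 := congrArg Subtype.val hy
    refine (commute_of_sq hOodd hy' ?_).eq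
    have hm : π (y * a * y⁻¹) = π a := by rw [map_mul, map_mul, map_inv, h, mul_inv_cancel_right]
    rcases heq a (y * a * y⁻¹) hm.symm with e | e
    · exact (show Commute y.1 a.1 from mul_inv_eq_iff_eq_mul.1 e).mul_left (mul_inv_eq_iff_eq_mul.1 e)
    · have e' : y.1 * a.1 * (y.1)⁻¹ = a.1 * d.s := e
      refine mul_inv_eq_iff_eq_mul.1 ?_
      calc y.1 * y.1 * a.1 * (y.1 * y.1)⁻¹ = y.1 * (y.1 * a.1 * (y.1)⁻¹) * (y.1)⁻¹ := by group
        _ = y.1 * (a.1 * d.s) * (y.1)⁻¹ := by rw [e']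
        _ = (y.1 * a.1 * (y.1)⁻¹) * (y.1 * d.s * (y.1)⁻¹) := by group
        _ = a.1 * d.s * d.s := by rw [e', show y.1 * d.s = d.s * y.1 from memC.1 y.2]; group
        _ = a.1 := by rw [mul_assoc, hs2, mul_one]
  -- the odd core of the centraliser of `v`
  let K : Subgroup A5g := O.comap (π.comp (((d.ι5.comp A5g.subtype)).codRestrict C fun b =>
    memC.2 (d.ι5_commute_s b.1).eq))
  have hKbot : K = ⊥ := by
    haveI : IsSimpleGroup A5g := alternatingGroup.isSimpleGroup_five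
    haveI : K.Normal := Subgroup.Normal.comap inferInstance _
    rcases IsSimpleGroup.eq_bot_or_eq_top_of_normal K inferInstance with h | h
    · exact h
    · exfalso
      have hu : π uC ∈ O := by
        have : (⟨v5, five_values.2.2.2.2.2.2.2.2.2.2.2.2.1⟩ : A5g) ∈ K := h ▸ Subgroup.mem_top _
        exact this
      obtain ⟨k, hk⟩ := hOodd
      have h1 : (⟨π uC, hu⟩ : O) ^ Nat.card O = 1 := pow_card_eq_one'
      have h2 : (⟨π uC, hu⟩ : O) * ⟨π uC, hu⟩ = 1 := Subtype.ext (by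
        show π uC * π uC = 1
        rw [← map_mul, show uC * uC = 1 from Subtype.ext (by
          show d.ι5 v5 * d.ι5 v5 = 1
          rw [← map_mul, five_values.1, map_one]), map_one])
      rw [hk, pow_succ, pow_mul, pow_two, h2, one_pow, one_mul] at h1
      rcases hker uC (congrArg Subtype.val h1) with e | e
      · exact five_values.2.2.2.2.1 (d.ι5_injective (e.trans (map_one _).symm))
      · have e' : d.ι5 v5 = d.κ5 b5 := by rw [d.κ5_b E.hs]; exact e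
        exact five_values.2.2.2.2.1 (E.κ5_eq_ι5 five_values.2.2.2.2.2.2.2.2.2.2.2.2.2.1
          five_values.2.2.2.2.2.2.2.2.2.2.2.2.1 e'.symm).2
  have hOv : ∀ q ∈ O, π vC * q = q * π vC → q = 1 := by
    intro q hq hc
    obtain ⟨y, rfl, hy⟩ := hlift q hq
    have hyv := hcomm y vC hy hv2 hc.symm
    obtain ⟨a, b, ha, e⟩ := E.mem_CW_iff (memC.1 y.2) hyv
    have hp : E.nf ((a, b) ^ Nat.card O) = 1 := by
      rw [map_pow, nf_apply, ← e]; exact congrArg Subtype.val hy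
    have hp' := E.nf_injective (hp.trans (map_one _).symm)
    have ha' : a.1 = 1 := by
      have h1 : a.1 ^ Nat.card O = 1 := congrArg Subtype.val (congrArg Prod.fst hp')
      obtain ⟨k, hk⟩ := hOodd
      rwa [hk, pow_succ, pow_mul, pow_two, (W5_values.2.1 _ ha).2.2.1, one_pow, one_mul] at h1
    have hb : b ∈ K := by
      show π _ ∈ O
      convert hq using 2
      exact Subtype.ext (by rw [e, ha', map_one, one_mul]; rfl)
    rw [hKbot, Subgroup.mem_bot] at hb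
    have : y = 1 := Subtype.ext (by rw [e, ha', hb, map_one, one_mul]; simp)
    rw [this, map_one]
  have hwv : π vC * π wC = π wC * π vC := by
    rw [← map_mul, ← map_mul]
    exact congrArg π (Subtype.ext (d.κ5_commute_w v5).eq)
  have hOi : ∀ q ∈ O, π iC * q = q * π iC → q = 1 := by
    intro q hq hc
    obtain ⟨y, rfl, hy⟩ := hlift q hq
    have hyi : y.1 * d.i = d.i * y.1 := hcomm y iC hy hi2 hc.symm
    obtain ⟨x, hx⟩ := d.norm_D y.1 (E.hCi (d.mem_Ci.2 hyi))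
    have hkx : y.1 = d.ι (nS x) := by
      rcases hx with e' | e'
      · exact e'
      · exfalso
        apply no_swap_pair x
        apply d.inj
        rw [map_mul, map_mul, map_inv, ← E.hs]
        calc d.ι (nS x) * (d.g * d.s * d.g⁻¹) * (d.ι (nS x))⁻¹
            = d.ι (nS x) * d.g * d.s * (d.ι (nS x) * d.g)⁻¹ := by group
          _ = y.1 * d.s * (y.1)⁻¹ := by rw [e']
          _ = d.s := by rw [memC.1 y.2]; group
    obtain ⟨j, hj⟩ := nS_cent_s_sq x (d.inj (by rw [map_mul, map_mul, ← hkx]; exact memC.1 y.2))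
    have hy1 : Commute y.1 (d.κ5 v5) := by
      refine commute_of_sq hOodd (congrArg Subtype.val hy) ?_
      rw [hkx, ← map_mul, hj, map_pow]
      exact (d.κ5_commute_w v5).symm.pow_left _
    refine hOv _ hq ?_
    rw [← map_mul, ← map_mul]
    exact congrArg π (Subtype.ext hy1.symm.eq)
  have hinvv := inverts_of_fpf O (t := π vC) (by rw [← map_mul, hv2, map_one]) hOv
  have hinvi := inverts_of_fpf O (t := π iC) (by rw [← map_mul, hi2, map_one]) hOi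
  -- the centraliser of the odd core contains `r`
  have hOr : ∀ q ∈ O, π rC * q = q * π rC := by
    intro q hq
    have hu : uC * uC = 1 := Subtype.ext (by show d.ι5 v5 * d.ι5 v5 = 1; rw [← map_mul, five_values.1, map_one])
    set u' := π uC
    have hu2 : u' * u' = 1 := by rw [← map_mul, hu, map_one]
    have hq' : u'⁻¹ * q * u' ∈ O := by
      have := (inferInstance : O.Normal).conj_mem q hq u'⁻¹
      rwa [inv_inv] at this
    have hiu : π iC * π rC = u' * π iC * u'⁻¹ := by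
      rw [← map_inv, ← map_mul, ← map_mul, ← map_mul]
      refine congrArg π (Subtype.ext ?_)
      show d.i * d.κ sS = d.ι5 v5 * d.i * (d.ι5 v5)⁻¹
      rw [← d.ι5_b E.hs, ← ι5_i, ← map_inv, ← map_mul, ← map_mul, ← map_mul]
      congr 1
      decide +kernel
    have h1 : u' * π iC * u'⁻¹ * q * (u' * π iC * u'⁻¹)⁻¹ = q⁻¹ := by
      calc u' * π iC * u'⁻¹ * q * (u' * π iC * u'⁻¹)⁻¹
          = u' * (π iC * (u'⁻¹ * q * u') * (π iC)⁻¹) * u'⁻¹ := by group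
        _ = u' * (u'⁻¹ * q * u')⁻¹ * u'⁻¹ := by rw [hinvi _ hq']
        _ = q⁻¹ := by group
    rw [← hiu] at h1
    have h2 := hinvi q hq
    have h3 : π rC * q * (π rC)⁻¹ = q := by
      have e1 : π iC * (π rC * q * (π rC)⁻¹) * (π iC)⁻¹ = π iC * q * (π iC)⁻¹ := by
        rw [h2, ← h1]; group
      exact mul_left_cancel (mul_right_cancel e1)
    exact mul_inv_eq_iff_eq_mul.1 h3
  have hObot : O = ⊥ := by
    haveI : IsSimpleGroup A5g := alternatingGroup.isSimpleGroup_five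
    set φ := π.comp (((d.ι5.comp A5g.subtype)).codRestrict C fun b => memC.2 (d.ι5_commute_s b.1).eq)
    let M : Subgroup A5g := (Subgroup.centralizer (O : Set (C ⧸ Z))).comap φ
    haveI : M.Normal := Subgroup.Normal.comap inferInstance _
    have hb : (⟨b5, five_values.2.2.2.2.2.2.2.2.2.2.2.2.2.1⟩ : A5g) ∈ M := by
      refine Subgroup.mem_comap.2 (Subgroup.mem_centralizer_iff.2 fun q hq => ?_)
      have e : φ ⟨b5, five_values.2.2.2.2.2.2.2.2.2.2.2.2.2.1⟩ = π rC := congrArg π (Subtype.ext (d.ι5_b E.hs))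
      rw [e]
      exact (hOr q hq).symm
    have htop : M = ⊤ := by
      rcases IsSimpleGroup.eq_bot_or_eq_top_of_normal M inferInstance with h | h
      · exfalso
        rw [h, Subgroup.mem_bot] at hb
        exact absurd (congrArg Subtype.val hb) (by decide +kernel)
      · exact h
    rw [eq_bot_iff]
    intro q hq
    rw [Subgroup.mem_bot]
    have hw : π wC * q = q * π wC := by
      have hm : (⟨c5, five_values.2.2.2.2.2.2.2.2.2.2.2.2.2.2.1⟩ : A5g) ∈ M := htop ▸ Subgroup.mem_top _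
      have e : φ ⟨c5, five_values.2.2.2.2.2.2.2.2.2.2.2.2.2.2.1⟩ = π wC := congrArg π (Subtype.ext d.ι5_c)
      have h := (Subgroup.mem_centralizer_iff.1 (Subgroup.mem_comap.1 hm) q hq).symm
      rwa [e] at h
    obtain ⟨y, rfl, hy⟩ := hlift q hq
    have hyw : y.1 * d.w = d.w * y.1 := by
      have hm : π (y * wC * y⁻¹) = π wC := by rw [map_mul, map_mul, map_inv, ← hw, mul_inv_cancel_right]
      rcases heq wC (y * wC * y⁻¹) hm.symm with e | e
      · exact mul_inv_eq_iff_eq_mul.1 e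
      · exfalso
        have e' : y.1 * d.w * (y.1)⁻¹ = d.w * d.s := e
        have h3 : (d.w * d.s) ^ 3 = 1 := by rw [← e', conj_pow, w_cube]; group
        rw [(show Commute d.w d.s from memC.1 wC.2).mul_pow, w_cube, one_mul, pow_succ, pow_two, hs2, one_mul] at h3
        exact hs1 h3
    refine hOv _ hq ?_
    obtain ⟨k, hk, hkz⟩ := d.exists_κ_of_commute hyw
    have hsy := memC.1 y.2
    rw [← hk, ← (d.even_κ E.hs).2, ← map_mul, ← map_mul, five_eqs.2.2.1] at hsy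
    have hb5 : k.2 * b5 = b5 * k.2 := congrArg Prod.snd (d.κ_injective hsy)
    have hpow : k.2 ^ Nat.card O = 1 := by
      have h1 : d.κ (k ^ Nat.card O) = 1 := by rw [map_pow, hk]; exact congrArg Subtype.val hy
      exact congrArg Prod.snd (d.κ_injective (h1.trans (map_one _).symm))
    have hk2 : k.2 = 1 := by
      have h8 : k.2 ^ 8 = 1 := (by decide +kernel : ∀ x : Perm (Fin 5), x * b5 = b5 * x → x ^ 8 = 1) _ hb5
      have h9 := pow_gcd_eq_one.2 ⟨h8, hpow⟩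
      rwa [show Nat.gcd 8 (Nat.card O) = 1 from Nat.Coprime.pow_left 3 (Nat.coprime_two_left.2 hOodd), pow_one] at h9
    rw [← map_mul, ← map_mul]
    refine congrArg π (Subtype.ext ?_)
    show d.κ5 v5 * y.1 = y.1 * d.κ5 v5
    rw [← hk, κ5_apply, ← map_mul, ← map_mul]
    congr 1
    ext1 <;> simp [hk2]
  -- the Sylow 2-subgroup of the quotient
  have hTc : Nat.card (E.T.subgroupOf C) = 2 ^ 5 := by
    rw [Nat.card_congr (Subgroup.subgroupOfEquivOfLe E.T_le_Cs).toEquiv, E.card_T]; norm_num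
  let S : Sylow 2 C := (IsPGroup.of_card hTc).toSylow (by
    intro h2
    apply E.not_64_dvd
    have h := Subgroup.card_mul_index (E.T.subgroupOf C)
    rw [hTc] at h
    rw [show Nat.card C = _ from h.symm]
    calc (64 : ℕ) = 2 ^ 5 * 2 := by norm_num
      _ ∣ _ := Nat.mul_dvd_mul_left _ h2)
  let S' : Sylow 2 (C ⧸ Z) := S.mapSurjective hπs
  have hvS : π vC ∈ S' := ⟨vC, Subgroup.mem_subgroupOf.2 (Or.inl (E.κ5_E16 (by simp [W5set]))), rfl⟩
  have hvne : π vC ≠ 1 := fun h => by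
    rcases hker _ h with e | e
    · exact five_values.2.2.2.2.1 (d.κ5_injective (e.trans (map_one _).symm))
    · rw [← d.κ5_b E.hs] at e
      exact absurd (d.κ5_injective e) (by decide +kernel)
  have hiso := ZStar.isolated_of_sylow (P := S')
    (orderOf_eq_prime (by rw [pow_two, ← map_mul, hv2, map_one]) hvne) hvS (by
    intro q hq
    obtain ⟨k, rfl⟩ := hπs q
    obtain ⟨t, ht, hte⟩ := hq
    have hte' : π t = π (k * vC * k⁻¹) := by rw [map_mul, map_mul, map_inv]; exact hte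
    have hmem : k.1 * d.κ5 v5 * (k.1)⁻¹ ∈ E.T := by
      have htT : t.1 ∈ E.T := Subgroup.mem_subgroupOf.1 ht
      rcases heq _ _ hte' with e | e
      · have e' : k.1 * d.κ5 v5 * (k.1)⁻¹ = t.1 := e
        rw [e']; exact htT
      · have e' : k.1 * d.κ5 v5 * (k.1)⁻¹ = t.1 * d.s := e
        rw [e']; exact mul_mem htT (Or.inl E.s_E16)
    rw [← map_inv, ← map_mul, ← map_mul]
    rcases E.v_iso (memC.1 k.2) hmem with e | e
    · exact congrArg π (Subtype.ext e)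
    · rw [show k * vC * k⁻¹ = vC * sC from Subtype.ext e, map_mul,
        show π sC = 1 from (QuotientGroup.eq_one_iff _).2 (Subgroup.mem_zpowers _), mul_one])
  have hcen := ZStar.mem_center_of_oddCore_eq_bot (ZStar.inZStar hiso) hObot
  intro h hh
  have hc : π (⟨h, hh⟩ * vC * (⟨h, hh⟩ : C)⁻¹) = π vC := by
    rw [map_mul, map_mul, map_inv, Subgroup.mem_center_iff.1 hcen, mul_inv_cancel_right]
  rcases heq vC _ hc.symm with e | e
  · obtain ⟨a, b, -, e'⟩ := E.mem_CW_iff (memC.1 hh) (mul_inv_eq_iff_eq_mul.1 e)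
    exact E.N_le_Nh (E.mem_N.2 ⟨a, b, e'⟩)
  · have hiv : d.i * d.κ5 v5 * d.i⁻¹ = d.κ5 v5 * d.s := by
      rw [← d.κ5_b E.hs, ← κ5_i, ← map_inv, ← map_mul, ← map_mul, five_values.2.2.2.2.2.2.1, map_mul]
    have e' : h * d.κ5 v5 * h⁻¹ = d.i * d.κ5 v5 * d.i⁻¹ := by rw [hiv]; exact e
    have h1 : d.i⁻¹ * h * d.κ5 v5 * (d.i⁻¹ * h)⁻¹ = d.κ5 v5 := by
      rw [show d.i⁻¹ * h * d.κ5 v5 * (d.i⁻¹ * h)⁻¹ = d.i⁻¹ * (h * d.κ5 v5 * h⁻¹) * d.i by group, e']; group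
    have hs' : d.i⁻¹ * h * d.s = d.s * (d.i⁻¹ * h) :=
      ((show Commute d.i d.s from d.s_commute_i.symm).inv_left.mul_left (memC.1 hh)).eq
    obtain ⟨a, b, -, e''⟩ := E.mem_CW_iff hs' (mul_inv_eq_iff_eq_mul.1 h1)
    have := mul_mem E.i_mem (E.N_le_Nh (E.mem_N.2 ⟨a, b, e''⟩))
    rwa [mul_inv_cancel_left] at this

/-- The centraliser of `r` lies in the normaliser of `N`. -/
theorem Cr_le : Subgroup.centralizer ({d.κ sS} : Set G) ≤ E.Nh := by
  intro h hh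
  rw [Subgroup.mem_centralizer_singleton_iff] at hh
  have h1 : d.g * h * d.g⁻¹ ∈ Subgroup.centralizer ({d.s} : Set G) := by
    rw [Subgroup.mem_centralizer_singleton_iff, ← E.g_r]
    calc d.g * h * d.g⁻¹ * (d.g * d.κ sS * d.g⁻¹) = d.g * (h * d.κ sS) * d.g⁻¹ := by group
      _ = d.g * (d.κ sS * h) * d.g⁻¹ := by rw [hh]
      _ = _ := by group
  have := mul_mem (mul_mem (inv_mem E.g_mem) (E.Cs_le h1)) E.g_mem
  rwa [show d.g⁻¹ * (d.g * h * d.g⁻¹) * d.g = h by group] at this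

end Even

end Data

end Cfsg.Agent.SymEightLocal
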