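import Mathlib
import Cfsg.Agent.Lib.SymEightLocal.EvenCentS

/-!
# The centraliser of `s r` in the exceptional configuration
-/

set_option autoImplicit false

namespace Cfsg.Agent.SymEightLocal

open Equiv EightLocal Cfsg

universe u

set_option synthInstance.maxHeartbeats 200000
set_option synthInstance.maxSize 1024
set_option maxHeartbeats 1000000

theorem commute_b5_cube : ∀ a : Perm (Fin 5), Perm.sign a = 1 → a * b5 = b5 * a → a ^ 3 = 1 → a = 1 := by
  decide +kernel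

theorem dS_swap_values : sS * bE ≠ 1 ∧ dS 1 1 = zS * wS ∧ zS * wS = wS * zS ∧ iS * (zS * wS) = zS * wS * iS := by
  decide +kernel

namespace Data

namespace Even

variable {G : Type u} [Group G] [Finite G] {d : Data G} (E : d.Even)
include E

theorem sq_mem_N {x : G} (hx : x ∈ E.Nh) : x * x ∈ E.N := by
  obtain ⟨j, hj, m, hm, rfl⟩ := E.Nh_cases hx
  have hjN : j * j ∈ E.N := by
    simp only [reps, List.mem_cons, List.not_mem_nil, or_false] at hj
    rcases hj with rfl | rfl | rfl | rfl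
    · simp
    · rw [i_sq]; exact one_mem _
    · rw [g_sq]; exact one_mem _
    · rw [show d.i * d.g * (d.i * d.g) = d.i * (d.g * d.i) * d.g by group, d.commute_g_i.eq,
        show d.i * (d.i * d.g) * d.g = d.i * d.i * (d.g * d.g) by group, i_sq, g_sq, one_mul]
      exact one_mem _
  have h1 : j⁻¹ * m * j ∈ E.N := by
    have := (Subgroup.mem_normalizer_iff.1 (inv_mem (E.rep_mem hj)) _).1 hm
    rwa [inv_inv] at this
  have := mul_mem (mul_mem hjN h1) hm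
  rwa [show j * j * (j⁻¹ * m * j) * m = j * m * (j * m) by group] at this

theorem three_mem_N {x : G} (hx : x ∈ E.Nh) (h3 : x ^ 3 = 1) : x ∈ E.N := by
  have h := E.sq_mem_N hx
  have := mul_mem h h
  rwa [show x * x * (x * x) = x ^ 3 * x by simp [pow_succ, mul_assoc], h3, one_mul] at this

theorem swap_commute : Commute d.g (d.ι (dS 1 1)) ∧ Commute (d.i * d.g) (d.ι (dS 1 1)) := by
  have hm : d.ι (dS 1 1) = d.z * d.w := by rw [dS_swap_values.2.1, map_mul]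
  have h1 : Commute d.g (d.ι (dS 1 1)) := by
    refine mul_inv_eq_iff_eq_mul.1 ?_
    rw [hm, ← conj_mul, show d.g * d.z * d.g⁻¹ = d.w from d.g_z,
      show d.g * d.w * d.g⁻¹ = d.z from d.κ_wS]
    exact d.D_comm d.w_mem d.z_mem
  exact ⟨h1, Commute.mul_left (d.i_commute_D ((d.mem_D _).2 ⟨1, 1, rfl⟩)) h1⟩

theorem not_isI_g : ¬ d.IsI d.g ∧ ¬ d.IsI (d.i * d.g) := by
  obtain ⟨h1, h2⟩ := E.swap_commute
  have key : ∀ {j : G}, d.g * d.z * d.g⁻¹ = j * d.z * j⁻¹ → j ≠ d.i := fun {j} e hj => by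
    rw [hj, show d.i * d.z * d.i⁻¹ = d.z by rw [d.i_commute_D d.z_mem]; group,
      show d.g * d.z * d.g⁻¹ = d.w from d.g_z] at e
    exact values.2.2.2.2.1 (d.inj e.symm)
  refine ⟨fun h => key rfl (d.eq_i_of_isI h (by decide) (by decide) h1.eq), fun h => key ?_ (d.eq_i_of_isI h (by decide) (by decide) h2.eq)⟩
  rw [show d.i * d.g * d.z * (d.i * d.g)⁻¹ = d.i * (d.g * d.z * d.g⁻¹) * d.i⁻¹ by group,
    show d.g * d.z * d.g⁻¹ = d.w from d.g_z, d.i_commute_D d.w_mem]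
  group

theorem not_swap_i : ¬ Swap d d.i := by
  rintro (h | h) <;> obtain ⟨k, hk⟩ := isConj_iff.1 h
  · exact E.not_isI_g.1 ⟨k⁻¹, by rw [← hk]; group⟩
  · exact E.not_isI_g.2 ⟨k⁻¹, by
      calc k⁻¹ * d.i * k⁻¹⁻¹ = k⁻¹ * (k * (d.i * d.g) * k⁻¹) * k⁻¹⁻¹ := by rw [hk]
        _ = _ := by group⟩

theorem swap_mixed {x : G} (h : Swap d x) : ∃ y : G, y * x = x * y ∧ y ^ 3 = 1 ∧ y ≠ 1 ∧
    Nat.card (Subgroup.centralizer ({y} : Set G)) = 36 := by
  have hy3 : d.ι (dS 1 1) ^ 3 = 1 := d.D_cube ((d.mem_D _).2 ⟨1, 1, rfl⟩)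
  have hy1 : d.ι (dS 1 1) ≠ 1 := fun h => (by decide +kernel : dS 1 1 ≠ 1) (d.inj (h.trans (map_one _).symm))
  have key : ∀ j : G, Commute j (d.ι (dS 1 1)) → IsConj j x → ∃ y : G, y * x = x * y ∧ y ^ 3 = 1 ∧ y ≠ 1 ∧
      Nat.card (Subgroup.centralizer ({y} : Set G)) = 36 := by
    intro j hj hc
    obtain ⟨k, rfl⟩ := isConj_iff.1 hc
    refine ⟨k * d.ι (dS 1 1) * k⁻¹, ((hj.symm).map (MulAut.conj k).toMonoidHom).eq, ?_, ?_, ?_⟩
    · rw [conj_pow, hy3]; group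
    · exact fun e => hy1 (conj_eq_one_iff.1 e)
    · rw [card_centralizer_conj, (d.mixed 1 1 (by decide) (by decide)).1]
  exact h.elim (key _ E.swap_commute.1) (key _ E.swap_commute.2)

theorem not_swap_s : ¬ Swap d d.s := by
  intro h
  obtain ⟨y, hy, h3, h1, h36⟩ := E.swap_mixed h
  obtain ⟨a, b, rfl⟩ := E.mem_N.1 (E.three_mem_N (E.Cs_le (Subgroup.mem_centralizer_singleton_iff.2 hy)) h3)
  have hn : E.nf ((a, b) ^ 3) = 1 := by rw [map_pow, nf_apply]; exact h3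
  have hn' := E.nf_injective (hn.trans (map_one _).symm)
  let β : A5g := ⟨b5, five_values.2.2.2.2.2.2.2.2.2.2.2.2.2.1⟩
  have hs' : d.s = E.nf (β, 1) := by rw [nf_apply, d.κ5_b E.hs]; simp
  rw [hs', ← nf_apply E, ← map_mul, ← map_mul] at hy
  have hy' := congrArg Subtype.val (congrArg Prod.fst (E.nf_injective hy))
  have ha : a.1 = 1 := commute_b5_cube _ a.2 hy' (congrArg Subtype.val (congrArg Prod.fst hn'))
  rw [ha, map_one, one_mul] at h1 h36
  obtain ⟨π, hπ⟩ := exists_conj_c5 b.1 (congrArg Subtype.val (congrArg Prod.snd hn'))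
    (fun e => h1 (by rw [e, map_one]))
  rw [← hπ, map_mul, map_mul, map_inv, card_centralizer_conj, ← c5, ι5_c, d.card_C_w] at h36
  norm_num at h36

theorem conj_s_classes {x : G} (hx : x ∈ E.Nh) (hc : IsConj d.s x) :
    x ∈ E.N ∧ ∃ a b : A5g, x = d.κ5 a.1 * d.ι5 b.1 ∧ a.1 * a.1 = 1 ∧ b.1 * b.1 = 1 ∧ (a.1 = 1 ∨ b.1 = 1) := by
  obtain ⟨k, hk⟩ := isConj_iff.1 hc
  have hs2 : d.s * d.s = 1 := by rw [s, ← map_mul, values.2.2.2.2.2.2.2.1, map_one]
  have h2 : x * x = 1 := by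
    rw [← hk, show k * d.s * k⁻¹ * (k * d.s * k⁻¹) = k * (d.s * d.s) * k⁻¹ by group, hs2]; group
  have h1 : x ≠ 1 := by
    rw [← hk]
    exact fun e => (by decide +kernel : sS ≠ 1) (d.inj ((conj_eq_one_iff.1 e).trans (map_one _).symm))
  rcases E.invol_cases hx h2 h1 with ⟨a, b, rfl, ha, hb⟩ | ⟨l, -, hl⟩ | h
  · refine ⟨hx |> fun _ => E.mem_N.2 ⟨a, b, rfl⟩, a, b, rfl, ha, hb, ?_⟩
    rcases E.N_classes ha hb with ⟨h', -⟩ | ⟨⟨-, h'⟩, -⟩ | ⟨⟨h', -⟩, -⟩ | ⟨-, l, -, hl⟩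
    · exact Or.inl h'
    · exact Or.inr h'
    · exact Or.inl h'
    · exfalso
      refine E.not_isConj_s_c (hc.trans ?_)
      rw [← hl]
      exact isConj_iff.2 ⟨l⁻¹, by group⟩
  · exfalso
    rw [← hl] at hc
    obtain ⟨m, hm⟩ := isConj_iff.1 hc
    exact E.not_isI_s' ⟨m⁻¹ * l, by
      rw [show m⁻¹ * l * d.i * (m⁻¹ * l)⁻¹ = m⁻¹ * (l * d.i * l⁻¹) * m by group, ← hm]; group⟩
  · exfalso
    exact E.not_swap_s (by
      have := E.swap_conj h k⁻¹
      rwa [← hk, show k⁻¹ * (k * d.s * k⁻¹) * k⁻¹⁻¹ = d.s by group] at this)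

theorem c_key {h : G} (hc : h * (d.s * d.κ sS) = d.s * d.κ sS * h) (hx : h * d.s * h⁻¹ ∈ E.Nh) :
    h ∈ E.Tc ∧ (h * d.s * h⁻¹ = d.s ∨ h * d.s * h⁻¹ = d.κ sS) := by
  set c := d.s * d.κ sS with hcdef
  obtain ⟨-, a, b, e, ha, hb, hab⟩ := E.conj_s_classes hx (isConj_iff.2 ⟨h, rfl⟩)
  let β : A5g := ⟨b5, five_values.2.2.2.2.2.2.2.2.2.2.2.2.2.1⟩
  have hcn : c = E.nf (β, β) := by rw [hcdef, nf_apply, d.κ5_b E.hs, d.ι5_b E.hs]
  have hcN : c ∈ E.Nh := E.N_le_Nh ⟨_, hcn.symm⟩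
  have hs2 : d.s * d.s = 1 := by rw [s, ← map_mul, values.2.2.2.2.2.2.2.1, map_one]
  have hr : h * d.s * h⁻¹ * c = h * d.κ sS * h⁻¹ := by
    calc h * d.s * h⁻¹ * c = h * d.s * h⁻¹ * (c * h) * h⁻¹ := by group
      _ = h * d.s * h⁻¹ * (h * c) * h⁻¹ := by rw [hc]
      _ = h * (d.s * d.s) * d.κ sS * h⁻¹ := by rw [hcdef]; group
      _ = _ := by rw [hs2, mul_one]
  obtain ⟨-, a', b', e', -, -, hab'⟩ := E.conj_s_classes (mul_mem hx hcN) (by
    rw [hr]
    exact isConj_iff.2 ⟨h * d.g, by rw [show d.κ sS = d.g * d.s * d.g⁻¹ from rfl]; group⟩)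
  rw [e, hcn, ← nf_apply E, ← nf_apply E, ← map_mul] at e'
  have e'' := E.nf_injective e'
  have ea : a.1 * b5 = a'.1 := congrArg Subtype.val (congrArg Prod.fst e'')
  have eb : b.1 * b5 = b'.1 := congrArg Subtype.val (congrArg Prod.snd e'')
  have hb51 : b5 ≠ 1 := by decide +kernel
  have hb55 : ∀ {q : Perm (Fin 5)}, q * b5 = 1 → q = b5 := fun h => by
    rw [eq_inv_of_mul_eq_one_left h]; exact inv_eq_of_mul_eq_one_right five_values.2.1
  have hcase : h * d.s * h⁻¹ = d.s ∨ h * d.s * h⁻¹ = d.κ sS := by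
    rcases hab with h0 | h0
    · right
      rcases hab' with h' | h'
      · rw [h0, one_mul] at ea; exact absurd (ea.trans h') hb51
      · rw [e, h0, hb55 (eb.trans h'), map_one, one_mul, d.ι5_b E.hs]
    · left
      rcases hab' with h' | h'
      · rw [e, h0, hb55 (ea.trans h'), map_one, mul_one, d.κ5_b E.hs]
      · rw [h0, one_mul] at eb; exact absurd (eb.trans h') hb51
  refine ⟨E.mem_Tc_of_commute ?_ hc, hcase⟩
  rcases hcase with f | f
  · exact E.Cs_le (Subgroup.mem_centralizer_singleton_iff.2 (mul_inv_eq_iff_eq_mul.1 f))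
  · have h1 : d.g⁻¹ * h * d.s * (d.g⁻¹ * h)⁻¹ = d.s := by
      rw [show d.g⁻¹ * h * d.s * (d.g⁻¹ * h)⁻¹ = d.g⁻¹ * (h * d.s * h⁻¹) * d.g by group, f,
        show d.κ sS = d.g * d.s * d.g⁻¹ from rfl]
      group
    have := mul_mem E.g_mem (E.Cs_le (Subgroup.mem_centralizer_singleton_iff.2 (mul_inv_eq_iff_eq_mul.1 h1)))
    rwa [mul_inv_cancel_left] at this

theorem Tc_le_Nh : E.Tc ≤ E.Nh := by
  rintro x (hx | hx)
  · exact E.T_le_Nh hx
  · have := mul_mem (inv_mem E.g_mem) (E.T_le_Nh hx)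
    rwa [inv_mul_cancel_left] at this

/-- The centraliser of `s r` is a 2-group. -/
theorem Cc_eq : Subgroup.centralizer ({d.s * d.κ sS} : Set G) = E.Tc := by
  classical
  refine le_antisymm ?_ E.Tc_le_Cc
  haveI : Fact (Nat.Prime 2) := ⟨Nat.prime_two⟩
  set c := d.s * d.κ sS with hcdef
  set C := Subgroup.centralizer ({c} : Set G) with hC
  have memC : ∀ {x : G}, x ∈ C ↔ x * c = c * x := Subgroup.mem_centralizer_singleton_iff
  have hs2 : d.s * d.s = 1 := by rw [s, ← map_mul, values.2.2.2.2.2.2.2.1, map_one]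
  have hr2 : d.κ sS * d.κ sS = 1 := by rw [← map_mul, values.2.2.2.2.2.2.2.1, map_one]
  have hc2 : c * c = 1 := by
    calc c * c = d.s * (d.κ sS * d.s) * d.κ sS := by rw [hcdef]; group
      _ = d.s * (d.s * d.κ sS) * d.κ sS := by rw [E.rs_comm]
      _ = (d.s * d.s) * (d.κ sS * d.κ sS) := by group
      _ = 1 := by rw [hs2, hr2, one_mul]
  have hsT : d.s ∈ E.Tc := Or.inl (Or.inl E.s_E16)
  have hiT : d.i ∈ E.Tc := Or.inl (Or.inr (by rw [i_sq]; exact one_mem _))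
  have hcT : c ∈ E.Tc := Or.inl (Or.inl (mul_mem E.s_E16 E.r_E16))
  set cC : C := ⟨c, memC.2 rfl⟩
  set Z := Subgroup.zpowers cC
  haveI hZn : Z.Normal := ⟨fun n hn k => by
    obtain ⟨j, rfl⟩ := Subgroup.mem_zpowers_iff.1 hn
    have hc : Commute k cC := Subtype.ext (memC.1 k.2)
    rw [(hc.zpow_right j).eq, mul_inv_cancel_right]
    exact hn⟩
  set π := QuotientGroup.mk' Z
  have hπs : Function.Surjective π := QuotientGroup.mk'_surjective _
  have hπc : π cC = 1 := (QuotientGroup.eq_one_iff _).2 (Subgroup.mem_zpowers _)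
  have hker : ∀ y : C, π y = 1 → y.1 = 1 ∨ y.1 = c := by
    intro y hy
    obtain ⟨j, rfl⟩ := Subgroup.mem_zpowers_iff.1 ((QuotientGroup.eq_one_iff _).1 hy)
    rw [Subgroup.coe_zpow]
    obtain ⟨q, rfl⟩ | ⟨q, rfl⟩ := Int.even_or_odd j
    · left; rw [← two_mul, zpow_mul, zpow_two, show cC.1 * cC.1 = 1 from hc2, one_zpow]
    · right; rw [zpow_add, zpow_mul, zpow_two, show cC.1 * cC.1 = 1 from hc2, one_zpow, one_mul, zpow_one]
  have heq : ∀ a b : C, π a = π b → b.1 = a.1 ∨ b.1 = a.1 * c := by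
    intro a b h
    rcases hker (a⁻¹ * b) (by rw [map_mul, map_inv, h, inv_mul_cancel]) with e | e
    · exact Or.inl (inv_mul_eq_one.1 (show (a.1)⁻¹ * b.1 = 1 from e)).symm
    · exact Or.inr (inv_mul_eq_iff_eq_mul.1 (show (a.1)⁻¹ * b.1 = c from e))
  set sC : C := ⟨d.s, E.Tc_le_Cc hsT⟩
  set iC : C := ⟨d.i, E.Tc_le_Cc hiT⟩
  have hsC2 : sC * sC = 1 := Subtype.ext hs2
  have hiC2 : iC * iC = 1 := Subtype.ext d.i_sq
  have hsi : (sC * iC) * (sC * iC) = 1 := Subtype.ext (by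
    show d.s * d.i * (d.s * d.i) = 1
    rw [show d.s * d.i * (d.s * d.i) = d.s * (d.i * d.s) * d.i by group, ← d.s_commute_i,
      show d.s * (d.s * d.i) * d.i = (d.s * d.s) * (d.i * d.i) by group, hs2, i_sq, one_mul])
  set O := oddCore (C ⧸ Z)
  have hOodd : Odd (Nat.card O) := PCore.odd_card_oddCore
  have hfix : ∀ a : C, a * a = 1 → Subgroup.centralizer ({a.1} : Set G) ≤ E.Nh →
      ∀ q ∈ O, π a * q = q * π a → q = 1 := by
    intro a ha hle q hq hcq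
    obtain ⟨y0, rfl⟩ := hπs q
    obtain ⟨y, hy0, hy⟩ : ∃ y : C, π y = π y0 ∧ y ^ Nat.card O = 1 := by
      have h1 : π (y0 ^ Nat.card O) = 1 := by
        rw [map_pow]
        exact congrArg Subtype.val (pow_card_eq_one' (x := (⟨π y0, hq⟩ : O)))
      rcases hker _ h1 with e | e
      · exact ⟨y0, rfl, Subtype.ext e⟩
      · refine ⟨y0 * cC, by rw [map_mul, hπc, mul_one], Subtype.ext ?_⟩
        show (y0.1 * c) ^ Nat.card O = 1
        obtain ⟨j, hj⟩ := hOodd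
        rw [(show Commute y0.1 c from memC.1 y0.2).mul_pow, show y0.1 ^ Nat.card O = c from e, hj, pow_succ,
          pow_mul, pow_two, hc2, one_pow, one_mul, hc2]
    rw [← hy0] at hcq ⊢
    have hy' : y.1 ^ Nat.card O = 1 := congrArg Subtype.val hy
    have hm : π (y * a * y⁻¹) = π a := by rw [map_mul, map_mul, map_inv, ← hcq, mul_inv_cancel_right]
    have hcom : Commute y.1 a.1 := by
      refine commute_of_sq hOodd hy' ?_
      rcases heq a (y * a * y⁻¹) hm.symm with e | e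
      · exact (show Commute y.1 a.1 from mul_inv_eq_iff_eq_mul.1 e).mul_left (mul_inv_eq_iff_eq_mul.1 e)
      · have e' : y.1 * a.1 * (y.1)⁻¹ = a.1 * c := e
        refine mul_inv_eq_iff_eq_mul.1 ?_
        calc y.1 * y.1 * a.1 * (y.1 * y.1)⁻¹ = y.1 * (y.1 * a.1 * (y.1)⁻¹) * (y.1)⁻¹ := by group
          _ = y.1 * (a.1 * c) * (y.1)⁻¹ := by rw [e']
          _ = (y.1 * a.1 * (y.1)⁻¹) * (y.1 * c * (y.1)⁻¹) := by group
          _ = a.1 * c * c := by rw [e', show y.1 * c = c * y.1 from memC.1 y.2]; group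
          _ = a.1 := by rw [mul_assoc, hc2, mul_one]
    have hyT : y.1 ∈ E.Tc :=
      E.mem_Tc_of_commute (hle (Subgroup.mem_centralizer_singleton_iff.2 hcom.eq)) (memC.1 y.2)
    have h64 : y.1 ^ 64 = 1 := by
      rw [← E.card_Tc]
      exact congrArg Subtype.val (pow_card_eq_one' (x := (⟨y.1, hyT⟩ : E.Tc)))
    have h1 := pow_gcd_eq_one.2 ⟨h64, hy'⟩
    rw [show Nat.gcd 64 (Nat.card O) = 1 from Nat.Coprime.pow_left 6 (Nat.coprime_two_left.2 hOodd), pow_one] at h1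
    rw [show y = 1 from Subtype.ext h1, map_one]
  have hsi_le : Subgroup.centralizer ({d.s * d.i} : Set G) ≤ E.Nh := by
    intro y hy
    rw [Subgroup.mem_centralizer_singleton_iff] at hy
    set k := d.κ5 v5
    have hk : k * d.i * k⁻¹ = d.s * d.i := by
      rw [← κ5_i, ← d.κ5_b E.hs, ← map_inv, ← map_mul, ← map_mul, ← map_mul]
      congr 1
      decide +kernel
    have hkN : k ∈ E.Nh := E.N_le_Nh (E.κ5_mem five_values.2.2.2.2.2.2.2.2.2.2.2.2.1)
    have h1 : k⁻¹ * y * k ∈ d.Ci := by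
      refine d.mem_Ci.2 ?_
      calc k⁻¹ * y * k * d.i = k⁻¹ * (y * (k * d.i * k⁻¹)) * k := by group
        _ = k⁻¹ * ((d.s * d.i) * y) * k := by rw [hk, hy]
        _ = k⁻¹ * ((k * d.i * k⁻¹) * y) * k := by rw [hk]
        _ = _ := by group
    have := mul_mem (mul_mem hkN (E.Ci_le h1)) (inv_mem hkN)
    rwa [show k * (k⁻¹ * y * k) * k⁻¹ = y by group] at this
  have hOs := hfix sC hsC2 E.Cs_le
  have hOi := hfix iC hiC2 E.Ci_le
  have hOsi := hfix (sC * iC) hsi hsi_le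
  have hObot : O = ⊥ := by
    rw [eq_bot_iff]
    intro q hq
    rw [Subgroup.mem_bot]
    have h1 := inverts_of_fpf O (t := π sC) (by rw [← map_mul, hsC2, map_one]) hOs
    have h2 := inverts_of_fpf O (t := π iC) (by rw [← map_mul, hiC2, map_one]) hOi
    refine hOsi q hq (mul_inv_eq_iff_eq_mul.1 ?_)
    rw [map_mul]
    calc π sC * π iC * q * (π sC * π iC)⁻¹ = π sC * (π iC * q * (π iC)⁻¹) * (π sC)⁻¹ := by group
      _ = π sC * q⁻¹ * (π sC)⁻¹ := by rw [h2 q hq]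
      _ = q := by rw [← conj_inv, h1 q hq, inv_inv]
  have hle : ∀ k : C, k.1 * d.s * (k.1)⁻¹ ∈ E.Nh →
      k.1 ∈ E.Tc ∧ (k.1 * d.s * (k.1)⁻¹ = d.s ∨ k.1 * d.s * (k.1)⁻¹ = d.κ sS) :=
    fun k h => E.c_key (memC.1 k.2) h
  have hno : ¬ 128 ∣ Nat.card C := by
    intro h128
    have hT : Nat.card (E.Tc.subgroupOf C) = 2 ^ 6 := by
      rw [Nat.card_congr (Subgroup.subgroupOfEquivOfLe E.Tc_le_Cc).toEquiv, E.card_Tc]; norm_num
    obtain ⟨K, hK, hle'⟩ := Sylow.exists_subgroup_card_pow_prime_le 2 (m := 7) (by simpa using h128) _ hT (by norm_num)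
    have hnK : ((E.Tc.subgroupOf C).subgroupOf K).Normal := by
      refine Subgroup.normal_of_index_eq_two ?_
      have h1 := Subgroup.card_mul_index ((E.Tc.subgroupOf C).subgroupOf K)
      rw [Nat.card_congr (Subgroup.subgroupOfEquivOfLe hle').toEquiv, hT, hK] at h1
      norm_num at h1 ⊢
      omega
    have hKT : K ≤ E.Tc.subgroupOf C := by
      intro x hx
      refine Subgroup.mem_subgroupOf.2 (hle x ?_).1
      have h1 := hnK.conj_mem ⟨sC, hle' (Subgroup.mem_subgroupOf.2 hsT)⟩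
        (Subgroup.mem_subgroupOf.2 (Subgroup.mem_subgroupOf.2 hsT)) ⟨x, hx⟩
      exact E.Tc_le_Nh (Subgroup.mem_subgroupOf.1 (Subgroup.mem_subgroupOf.1 h1))
    have := Subgroup.card_dvd_of_le hKT
    rw [hK, hT] at this
    norm_num at this
  have hTc : Nat.card (E.Tc.subgroupOf C) = 2 ^ 6 := by
    rw [Nat.card_congr (Subgroup.subgroupOfEquivOfLe E.Tc_le_Cc).toEquiv, E.card_Tc]; norm_num
  let S : Sylow 2 C := (IsPGroup.of_card hTc).toSylow (by
    intro h2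
    apply hno
    have h := Subgroup.card_mul_index (E.Tc.subgroupOf C)
    rw [hTc] at h
    rw [show Nat.card C = _ from h.symm]
    calc (128 : ℕ) = 2 ^ 6 * 2 := by norm_num
      _ ∣ _ := Nat.mul_dvd_mul_left _ h2)
  let S' : Sylow 2 (C ⧸ Z) := S.mapSurjective hπs
  have hsS : π sC ∈ S' := ⟨sC, Subgroup.mem_subgroupOf.2 hsT, rfl⟩
  have hsne : π sC ≠ 1 := fun h => by
    rcases hker _ h with e | e
    · exact (by decide +kernel : sS ≠ 1) (d.inj (e.trans (map_one _).symm))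
    · have h1 : (1 : G) = d.κ sS := mul_left_cancel (a := d.s) (by rw [mul_one]; exact e)
      exact (by decide +kernel : sS ≠ 1) (d.κ_injective (h1.symm.trans (map_one _).symm))
  have hsr : d.s * c = d.κ sS := by rw [hcdef, ← mul_assoc, hs2, one_mul]
  have hiso := ZStar.isolated_of_sylow (P := S')
    (orderOf_eq_prime (by rw [pow_two, ← map_mul, hsC2, map_one]) hsne) hsS (by
    intro q hq
    obtain ⟨k, rfl⟩ := hπs q
    obtain ⟨t, ht, hte⟩ := hq
    have hte' : π t = π (k * sC * k⁻¹) := by rw [map_mul, map_mul, map_inv]; exact hte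
    have hmem : k.1 * d.s * (k.1)⁻¹ ∈ E.Nh := by
      have htT : t.1 ∈ E.Tc := Subgroup.mem_subgroupOf.1 ht
      rcases heq _ _ hte' with e | e
      · have e' : k.1 * d.s * (k.1)⁻¹ = t.1 := e
        rw [e']; exact E.Tc_le_Nh htT
      · have e' : k.1 * d.s * (k.1)⁻¹ = t.1 * c := e
        rw [e']; exact E.Tc_le_Nh (mul_mem htT hcT)
    rw [← map_inv, ← map_mul, ← map_mul]
    rcases (hle k hmem).2 with e | e
    · exact congrArg π (Subtype.ext e)
    · rw [show k * sC * k⁻¹ = sC * cC from Subtype.ext (e.trans hsr.symm), map_mul, hπc, mul_one])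
  have hcen := ZStar.mem_center_of_oddCore_eq_bot (ZStar.inZStar hiso) hObot
  intro h hh
  have hc : π (⟨h, hh⟩ * sC * (⟨h, hh⟩ : C)⁻¹) = π sC := by
    rw [map_mul, map_mul, map_inv, Subgroup.mem_center_iff.1 hcen, mul_inv_cancel_right]
  refine (hle ⟨h, hh⟩ ?_).1
  rcases heq sC _ hc.symm with e | e
  · rw [show h * d.s * h⁻¹ = d.s from e]; exact E.Tc_le_Nh hsT
  · rw [show h * d.s * h⁻¹ = d.s * c from e]; exact E.Tc_le_Nh (mul_mem hsT hcT)

theorem Cc_le : Subgroup.centralizer ({d.s * d.κ sS} : Set G) ≤ E.Nh := E.Cc_eq ▸ E.Tc_le_Nh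

theorem not_swap_c : ¬ Swap d (d.s * d.κ sS) := by
  intro h
  obtain ⟨y, hy, h3, h1, -⟩ := E.swap_mixed h
  have hyT : y ∈ E.Tc := E.Cc_eq ▸ Subgroup.mem_centralizer_singleton_iff.2 hy
  have h64 : y ^ 64 = 1 := by
    rw [← E.card_Tc]
    exact congrArg Subtype.val (pow_card_eq_one' (x := (⟨y, hyT⟩ : E.Tc)))
  have := pow_gcd_eq_one.2 ⟨h64, h3⟩
  rw [show Nat.gcd 64 3 = 1 by norm_num, pow_one] at this
  exact h1 this

end Even

end Data

end Cfsg.Agent.SymEightLocal
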