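import Mathlib
import Cfsg.Agent.Lib.SymEightLocal.EvenCentC
import Cfsg.Agent.Lib.Invol.Basic
import Cfsg.Agent.Lib.Components.GenFitting

/-!
# The exceptional configuration
-/

set_option autoImplicit false

namespace Cfsg.Agent.SymEightLocal

open Equiv EightLocal Cfsg
open scoped commutatorElement

universe u

set_option synthInstance.maxHeartbeats 200000
set_option synthInstance.maxSize 1024
set_option maxHeartbeats 1000000

theorem A5_noncentral {a : A5g} (ha : a ≠ 1) : ∃ q : A5g, q * a * q⁻¹ * a⁻¹ ≠ 1 := by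
  by_contra h
  push Not at h
  have key : ∀ p : Perm (Fin 5), Perm.sign p = 1 → a.1 * p = p * a.1 := fun p hp => by
    have h' : p * a.1 * p⁻¹ * (a.1)⁻¹ = 1 := congrArg Subtype.val (h ⟨p, hp⟩)
    exact (mul_inv_eq_iff_eq_mul.1 (mul_inv_eq_one.1 h')).symm
  exact ha (Subtype.ext (A5_center _ a.2 (key c5 five_values.2.2.2.2.2.2.2.2.2.2.2.2.2.2.1)
    (key v5 five_values.2.2.2.2.2.2.2.2.2.2.2.2.1)))

namespace Data

namespace Even

variable {G : Type u} [Group G] [Finite G] {d : Data G} (E : d.Even)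
include E

theorem cent_invol_le {k : G} (hk : k ∈ E.Nh) (h2 : k * k = 1) (h1 : k ≠ 1) :
    Subgroup.centralizer ({k} : Set G) ≤ E.Nh ∨ Swap d k := by
  have key : ∀ {h a : G}, h ∈ E.Nh → h * a * h⁻¹ = k → Subgroup.centralizer ({a} : Set G) ≤ E.Nh →
      Subgroup.centralizer ({k} : Set G) ≤ E.Nh := by
    intro h a hh e hle y hy
    rw [Subgroup.mem_centralizer_singleton_iff] at hy
    have hm : h⁻¹ * y * h ∈ Subgroup.centralizer ({a} : Set G) := by
      rw [Subgroup.mem_centralizer_singleton_iff]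
      calc h⁻¹ * y * h * a = h⁻¹ * (y * (h * a * h⁻¹)) * h := by group
        _ = h⁻¹ * (k * y) * h := by rw [e, hy]
        _ = h⁻¹ * (h * a * h⁻¹ * y) * h := by rw [e]
        _ = _ := by group
    have := mul_mem (mul_mem hh (hle hm)) (inv_mem hh)
    rwa [show h * (h⁻¹ * y * h) * h⁻¹ = y by group] at this
  rcases E.invol_cases hk h2 h1 with ⟨a, b, rfl, ha, hb⟩ | ⟨h, hh, e⟩ | h
  · left
    rcases E.N_classes ha hb with ⟨e1, e2⟩ | ⟨-, h, hh, e⟩ | ⟨-, h, hh, e⟩ | ⟨-, h, hh, e⟩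
    · exfalso; apply h1; rw [e1, e2, map_one, map_one, one_mul]
    · exact key hh e E.Cs_le
    · exact key hh e E.Cs_le
    · exact key hh e E.Cc_le
  · exact Or.inl (key hh e E.Ci_le)
  · exact Or.inr h

theorem not_swap_Cs {k : G} (hk : k * d.s = d.s * k) (h2 : k * k = 1) (h1 : k ≠ 1) : ¬ Swap d k := by
  intro hsw
  obtain ⟨j, hj, m, hm, rfl⟩ := E.Nh_cases (E.Cs_le (Subgroup.mem_centralizer_singleton_iff.2 hk))
  obtain ⟨a, b, rfl⟩ := E.mem_N.1 hm
  simp only [reps, List.mem_cons, List.not_mem_nil, or_false] at hj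
  have back : ∀ {h t x : G}, h * t * h⁻¹ = x → Swap d x → Swap d t := fun {h t x} e hx => by
    have := E.swap_conj hx h⁻¹
    rwa [← e, show h⁻¹ * (h * t * h⁻¹) * h⁻¹⁻¹ = t by group] at this
  let β : A5g := ⟨b5, five_values.2.2.2.2.2.2.2.2.2.2.2.2.2.1⟩
  -- conjugation by `m` keeps `s` in the first factor
  have hm : d.κ5 a.1 * d.ι5 b.1 * d.s * (d.κ5 a.1 * d.ι5 b.1)⁻¹ = d.κ5 (a * β * a⁻¹).1 := by
    rw [show (a * β * a⁻¹).1 = a.1 * b5 * (a.1)⁻¹ from rfl, map_mul, map_mul, map_inv, d.κ5_b E.hs]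
    calc d.κ5 a.1 * d.ι5 b.1 * d.s * (d.κ5 a.1 * d.ι5 b.1)⁻¹
        = d.κ5 a.1 * (d.ι5 b.1 * d.s) * (d.ι5 b.1)⁻¹ * (d.κ5 a.1)⁻¹ := by group
      _ = _ := by rw [(d.ι5_commute_s b.1).eq]; group
  have hp1 : (a * β * a⁻¹).1 ≠ 1 := fun h => by
    have h' : a * β * a⁻¹ = 1 := Subtype.ext h
    exact absurd (congrArg Subtype.val (conj_eq_one_iff.1 h')) (by decide +kernel : b5 ≠ 1)
  rcases hj with rfl | rfl | rfl | rfl
  · rw [one_mul] at h2 h1 hsw
    have hn : E.nf ((a, b) * (a, b)) = 1 := by rw [map_mul, nf_apply]; exact h2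
    have hn' := E.nf_injective (hn.trans (map_one _).symm)
    rcases E.N_classes (congrArg Subtype.val (congrArg Prod.fst hn')) (congrArg Subtype.val (congrArg Prod.snd hn'))
      with ⟨e1, e2⟩ | ⟨-, h, -, f⟩ | ⟨-, h, -, f⟩ | ⟨-, h, -, f⟩
    · apply h1; rw [e1, e2, map_one, map_one, one_mul]
    · exact E.not_swap_s (back f hsw)
    · exact E.not_swap_s (back f hsw)
    · exact E.not_swap_c (back f hsw)
  · obtain ⟨⟨h, -, f⟩, -, -⟩ := E.coset_i h2
    exact E.not_swap_i (back f hsw)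
  · have h := mul_inv_eq_iff_eq_mul.2 hk
    rw [show d.g * (d.κ5 a.1 * d.ι5 b.1) * d.s * (d.g * (d.κ5 a.1 * d.ι5 b.1))⁻¹ =
      d.g * (d.κ5 a.1 * d.ι5 b.1 * d.s * (d.κ5 a.1 * d.ι5 b.1)⁻¹) * d.g⁻¹ by group, hm, conj_g5,
      ← d.κ5_b E.hs] at h
    exact hp1 (E.κ5_eq_ι5 β.2 (a * β * a⁻¹).2 h.symm).2
  · have h := mul_inv_eq_iff_eq_mul.2 hk
    rw [show d.i * d.g * (d.κ5 a.1 * d.ι5 b.1) * d.s * (d.i * d.g * (d.κ5 a.1 * d.ι5 b.1))⁻¹ =
      d.i * (d.g * (d.κ5 a.1 * d.ι5 b.1 * d.s * (d.κ5 a.1 * d.ι5 b.1)⁻¹) * d.g⁻¹) * d.i⁻¹ by group, hm,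
      conj_g5, ← ι5_i, ← map_inv, ← map_mul, ← map_mul, ← d.κ5_b E.hs] at h
    have h' := (E.κ5_eq_ι5 β.2 (by
      rw [map_mul, map_mul, map_inv, show Perm.sign (a * β * a⁻¹).1 = 1 from (a * β * a⁻¹).2, mul_one,
        mul_inv_cancel]) h.symm).2
    exact hp1 (conj_eq_one_iff.1 h')

theorem conj_s_mem (x : G) : x * d.s * x⁻¹ ∈ E.N := by
  have hs2 : d.s * d.s = 1 := by rw [s, ← map_mul, values.2.2.2.2.2.2.2.1, map_one]
  have hs1 : d.s ≠ 1 := fun h => (by decide +kernel : sS ≠ 1) (d.inj (h.trans (map_one _).symm))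
  haveI : Fact (Nat.Prime 2) := ⟨Nat.prime_two⟩
  have ho : orderOf (x * d.s * x⁻¹) = 2 := by
    refine orderOf_eq_prime ?_ fun e => hs1 (conj_eq_one_iff.1 e)
    rw [conj_pow, pow_two, hs2]; group
  have hnc : ¬ IsConj (x * d.s * x⁻¹) d.i := fun h => by
    obtain ⟨k, hk⟩ := isConj_iff.1 h
    exact E.not_isI_s' ⟨(k * x)⁻¹, by rw [← hk]; group⟩
  obtain ⟨k, hk2, hks, hki⟩ := Invol.exists_common_commuting ho d.orderOf_i hnc
  have hkk : k * k = 1 := by rw [← pow_two, ← hk2, pow_orderOf_eq_one]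
  have hk1 : k ≠ 1 := fun e => by rw [e, orderOf_one] at hk2; omega
  have hkN : k ∈ E.Nh := E.Ci_le (d.mem_Ci.2 hki.eq)
  refine (E.conj_s_classes ?_ (isConj_iff.2 ⟨x, rfl⟩)).1
  rcases E.cent_invol_le hkN hkk hk1 with h | h
  · exact h (Subgroup.mem_centralizer_singleton_iff.2 hks.symm.eq)
  · exfalso
    have h' := E.swap_conj h x⁻¹
    rw [inv_inv] at h'
    refine E.not_swap_Cs ?_ ?_ ?_ h'
    · calc x⁻¹ * k * x * d.s = x⁻¹ * (k * (x * d.s * x⁻¹)) * x := by group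
        _ = x⁻¹ * (x * d.s * x⁻¹ * k) * x := by rw [hks.eq]
        _ = _ := by group
    · calc x⁻¹ * k * x * (x⁻¹ * k * x) = x⁻¹ * (k * k) * x := by group
        _ = 1 := by rw [hkk]; group
    · intro e
      exact hk1 (by
        calc k = x * (x⁻¹ * k * x) * x⁻¹ := by group
          _ = 1 := by rw [e]; group)

theorem N_normal : E.N.Normal := by
  have hle : Subgroup.normalClosure ({d.s} : Set G) ≤ E.N := by
    rw [Subgroup.normalClosure, Subgroup.closure_le]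
    intro y hy
    obtain ⟨a, ha, hay⟩ := Group.mem_conjugatesOfSet_iff.1 hy
    obtain rfl := Set.mem_singleton_iff.1 ha
    obtain ⟨c, rfl⟩ := isConj_iff.1 hay
    exact E.conj_s_mem c
  set NC := Subgroup.normalClosure ({d.s} : Set G)
  haveI : IsSimpleGroup A5g := alternatingGroup.isSimpleGroup_five
  have hsNC : d.s ∈ NC := Subgroup.subset_normalClosure rfl
  have hA : ∀ a : A5g, d.κ5 a.1 ∈ NC := by
    haveI : (NC.comap (d.κ5.comp A5g.subtype)).Normal := Subgroup.Normal.comap inferInstance _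
    rcases IsSimpleGroup.eq_bot_or_eq_top_of_normal (NC.comap (d.κ5.comp A5g.subtype)) inferInstance with h | h
    · exfalso
      have hm : (⟨b5, five_values.2.2.2.2.2.2.2.2.2.2.2.2.2.1⟩ : A5g) ∈ NC.comap (d.κ5.comp A5g.subtype) := by
        show d.κ5 b5 ∈ NC
        rw [d.κ5_b E.hs]; exact hsNC
      rw [h, Subgroup.mem_bot] at hm
      exact absurd (congrArg Subtype.val hm) (by decide +kernel)
    · intro a
      have : a ∈ NC.comap (d.κ5.comp A5g.subtype) := h ▸ Subgroup.mem_top a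
      exact this
  have hB : ∀ b : A5g, d.ι5 b.1 ∈ NC := fun b => by
    rw [← conj_g5]
    exact (inferInstance : NC.Normal).conj_mem _ (hA b) d.g
  have hge : E.N ≤ NC := fun x hx => by
    obtain ⟨a, b, rfl⟩ := E.mem_N.1 hx
    exact mul_mem (hA a) (hB b)
  rw [le_antisymm hge hle]
  exact Subgroup.normalClosure_normal

theorem Nh_top : E.Nh = ⊤ := Subgroup.normalizer_eq_top_iff.2 E.N_normal

theorem g_notMem : d.g ∉ E.N ∧ d.i * d.g ∉ E.N := by
  have key : ∀ j : G, j * d.s * j⁻¹ = d.κ sS → j ∉ E.N := by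
    intro j hj hjN
    obtain ⟨a, b, rfl⟩ := E.mem_N.1 hjN
    rw [show d.κ5 a.1 * d.ι5 b.1 * d.s * (d.κ5 a.1 * d.ι5 b.1)⁻¹ =
      d.κ5 a.1 * (d.ι5 b.1 * d.s) * (d.ι5 b.1)⁻¹ * (d.κ5 a.1)⁻¹ by group, (d.ι5_commute_s b.1).eq,
      show d.κ5 a.1 * (d.s * d.ι5 b.1) * (d.ι5 b.1)⁻¹ * (d.κ5 a.1)⁻¹ = d.κ5 a.1 * d.s * (d.κ5 a.1)⁻¹ by group,
      ← d.κ5_b E.hs, ← d.ι5_b E.hs, ← map_inv, ← map_mul, ← map_mul] at hj
    have h := (E.κ5_eq_ι5 (by
      rw [map_mul, map_mul, map_inv, five_values.2.2.2.2.2.2.2.2.2.2.2.2.2.1, mul_one, mul_inv_cancel])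
      five_values.2.2.2.2.2.2.2.2.2.2.2.2.2.1 hj).2
    exact absurd h (by decide +kernel)
  refine ⟨key _ rfl, key _ ?_⟩
  have hir : d.i * d.κ sS * d.i⁻¹ = d.κ sS := by
    rw [← d.κ_iS, ← map_inv, ← map_mul, ← map_mul]
    congr 1
    decide +kernel
  rw [show d.i * d.g * d.s * (d.i * d.g)⁻¹ = d.i * (d.g * d.s * d.g⁻¹) * d.i⁻¹ by group]
  exact hir

theorem index_N : E.N.index = 4 := by
  classical
  let f : Fin 4 → G ⧸ E.N := fun j => QuotientGroup.mk ((reps d)[j.1]'(by simp [reps]))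
  have hf : Function.Bijective f := by
    refine ⟨?_, ?_⟩
    · intro a b h
      have h' := QuotientGroup.eq.1 h
      have hg2 : d.g⁻¹ = d.g := d.g_inv
      have hi2 : d.i⁻¹ = d.i := inv_eq_of_mul_eq_one_right d.i_sq
      obtain ⟨n1, n2⟩ := E.g_notMem
      have n3 : d.g * d.i ∉ E.N := by rw [d.commute_g_i.eq]; exact n2
      have hgig : d.g * (d.i * d.g) = d.i := by
        rw [← mul_assoc, d.commute_g_i.eq, mul_assoc, g_sq, mul_one]
      have higg : d.i * d.g * d.g = d.i := by rw [mul_assoc, g_sq, mul_one]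
      have hiig : d.i * (d.i * d.g) = d.g := by rw [← mul_assoc, i_sq, one_mul]
      have higi : d.g * d.i * d.i = d.g := by rw [mul_assoc, i_sq, mul_one]
      have higg' : d.g * d.i * d.g = d.i := by rw [mul_assoc]; exact hgig
      fin_cases a <;> fin_cases b <;>
        simp only [reps, List.getElem_cons_zero, List.getElem_cons_succ, inv_one, one_mul, mul_one, mul_inv_rev,
          hg2, hi2, hgig, higg, hiig, higi, higg'] at h' <;>
        first
          | rfl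
          | exact absurd h' E.i_notMem_N
          | exact absurd h' n1
          | exact absurd h' n2
          | exact absurd h' n3
    · rintro ⟨x⟩
      obtain ⟨j, hj, m, hm, rfl⟩ := E.Nh_cases (x := x) (E.Nh_top ▸ Subgroup.mem_top _)
      obtain ⟨n, hn, rfl⟩ := List.getElem_of_mem hj
      refine ⟨⟨n, by simpa [reps] using hn⟩, QuotientGroup.eq.2 ?_⟩
      rwa [inv_mul_cancel_left]
  rw [Subgroup.index, ← Nat.card_congr (Equiv.ofBijective f hf), Nat.card_fin]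

theorem sq_mem (x : G) : x ^ 2 ∈ E.N := by
  rw [pow_two]; exact E.sq_mem_N (E.Nh_top ▸ Subgroup.mem_top x)

theorem minimal (K : Subgroup G) [hK : K.Normal] (hle : K ≤ E.N) : K = ⊥ ∨ K = E.N := by
  haveI : IsSimpleGroup A5g := alternatingGroup.isSimpleGroup_five
  rcases eq_or_ne K ⊥ with h | h
  · exact Or.inl h
  right
  refine le_antisymm hle ?_
  obtain ⟨⟨x, hx⟩, hx1⟩ := Subgroup.ne_bot_iff_exists_ne_one.1 h
  obtain ⟨a, b, rfl⟩ := E.mem_N.1 (hle hx)
  set KA := K.comap (d.κ5.comp A5g.subtype) with hKA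
  set KB := K.comap (d.ι5.comp A5g.subtype) with hKB
  have hAB : ∀ p : A5g, d.κ5 p.1 ∈ K ↔ d.ι5 p.1 ∈ K := fun p => by
    constructor
    · intro hp
      have := hK.conj_mem _ hp d.g
      rwa [conj_g5] at this
    · intro hp
      have := hK.conj_mem _ hp d.g
      rwa [conj_g5'] at this
  have hne : ∃ p : A5g, p ≠ 1 ∧ d.κ5 p.1 ∈ K := by
    rcases eq_or_ne a 1 with ha | ha
    · have hb : b ≠ 1 := fun hb => hx1 (Subtype.ext (by simp [ha, hb]))
      refine ⟨b, hb, (hAB b).2 ?_⟩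
      simpa [ha] using hx
    · obtain ⟨q, hq⟩ := A5_noncentral ha
      refine ⟨_, hq, ?_⟩
      have h1 := mul_mem (hK.conj_mem _ hx (d.κ5 q.1)) (inv_mem hx)
      have hc : Commute (d.κ5 q.1) (d.ι5 b.1) := E.commute_nf q b
      rw [show d.κ5 q.1 * (d.κ5 a.1 * d.ι5 b.1) * (d.κ5 q.1)⁻¹ * (d.κ5 a.1 * d.ι5 b.1)⁻¹ =
        d.κ5 q.1 * d.κ5 a.1 * (d.ι5 b.1 * (d.κ5 q.1)⁻¹ * (d.ι5 b.1)⁻¹) * (d.κ5 a.1)⁻¹ by group,
        ← hc.inv_left.eq, mul_inv_cancel_right] at h1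
      simpa [map_mul, map_inv] using h1
  obtain ⟨p, hp1, hp⟩ := hne
  haveI : KA.Normal := Subgroup.Normal.comap hK _
  have htop : KA = ⊤ := by
    rcases IsSimpleGroup.eq_bot_or_eq_top_of_normal KA inferInstance with e | e
    · exfalso
      have : p ∈ KA := hp
      rw [e, Subgroup.mem_bot] at this
      exact hp1 this
    · exact e
  intro y hy
  obtain ⟨a', b', rfl⟩ := E.mem_N.1 hy
  have ha : a' ∈ KA := htop ▸ Subgroup.mem_top _
  have hb : b' ∈ KA := htop ▸ Subgroup.mem_top _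
  exact mul_mem ha ((hAB b').1 hb)

theorem centralizer_N : Subgroup.centralizer (E.N : Set G) = ⊥ := by
  rw [eq_bot_iff]
  intro x hx
  have hcm : ∀ y ∈ E.N, x * y = y * x := fun y hy => (Subgroup.mem_centralizer_iff.1 hx y hy).symm
  obtain ⟨j, hj, m, hm, rfl⟩ := E.Nh_cases (x := x) (E.Nh_top ▸ Subgroup.mem_top _)
  obtain ⟨a, b, rfl⟩ := E.mem_N.1 hm
  have hv := five_values.2.2.2.2.2.2.2.2.2.2.2.2.1
  have hc := five_values.2.2.2.2.2.2.2.2.2.2.2.2.2.2.1
  have eA : ∀ q : Perm (Fin 5), Perm.sign q = 1 →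
      j * d.κ5 (a.1 * q * (a.1)⁻¹) * j⁻¹ = d.κ5 q ∧ j * d.ι5 (b.1 * q * (b.1)⁻¹) * j⁻¹ = d.ι5 q := by
    intro q hq
    have c1 : Commute (d.κ5 q) (d.ι5 b.1) := d.commute_AB E.hs E.hCi hq b.2
    have c2 : Commute (d.κ5 a.1) (d.ι5 (b.1 * q * (b.1)⁻¹)) :=
      d.commute_AB E.hs E.hCi a.2 (by
        rw [map_mul, map_mul, map_inv, hq, mul_one, mul_inv_cancel])
    constructor
    · have h := hcm _ (E.κ5_mem hq)
      calc j * d.κ5 (a.1 * q * (a.1)⁻¹) * j⁻¹
          = j * d.κ5 a.1 * (d.κ5 q * d.ι5 b.1) * (j * (d.κ5 a.1 * d.ι5 b.1))⁻¹ := by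
            rw [map_mul, map_mul, map_inv]; group
        _ = j * d.κ5 a.1 * (d.ι5 b.1 * d.κ5 q) * (j * (d.κ5 a.1 * d.ι5 b.1))⁻¹ := by rw [c1.eq]
        _ = j * (d.κ5 a.1 * d.ι5 b.1) * d.κ5 q * (j * (d.κ5 a.1 * d.ι5 b.1))⁻¹ := by group
        _ = _ := by rw [h]; group
    · have h := hcm _ (E.ι5_mem hq)
      calc j * d.ι5 (b.1 * q * (b.1)⁻¹) * j⁻¹
          = j * (d.ι5 (b.1 * q * (b.1)⁻¹) * d.κ5 a.1) * (d.κ5 a.1)⁻¹ * j⁻¹ := by group
        _ = j * (d.κ5 a.1 * d.ι5 (b.1 * q * (b.1)⁻¹)) * (d.κ5 a.1)⁻¹ * j⁻¹ := by rw [c2.eq]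
        _ = j * (d.κ5 a.1 * d.ι5 b.1) * d.ι5 q * (j * (d.κ5 a.1 * d.ι5 b.1))⁻¹ := by
            rw [map_mul, map_mul, map_inv]; group
        _ = _ := by rw [h]; group
  rw [Subgroup.mem_bot]
  simp only [reps, List.mem_cons, List.not_mem_nil, or_false] at hj
  rcases hj with rfl | rfl | rfl | rfl
  · have ka : ∀ q : Perm (Fin 5), Perm.sign q = 1 → a.1 * q = q * a.1 := fun q hq => by
      have h := (eA q hq).1
      rw [one_mul, inv_one, mul_one] at h
      exact mul_inv_eq_iff_eq_mul.1 (d.κ5_injective h)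
    have kb : ∀ q : Perm (Fin 5), Perm.sign q = 1 → b.1 * q = q * b.1 := fun q hq => by
      have h := (eA q hq).2
      rw [one_mul, inv_one, mul_one] at h
      exact mul_inv_eq_iff_eq_mul.1 (d.ι5_injective h)
    rw [A5_center _ a.2 (ka _ hc) (ka _ hv), A5_center _ b.2 (kb _ hc) (kb _ hv), map_one, map_one, one_mul, one_mul]
  · exfalso
    have ka : ∀ q : Perm (Fin 5), Perm.sign q = 1 → i5 * a.1 * q = q * (i5 * a.1) := fun q hq => by
      have h := (eA q hq).1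
      rw [← κ5_i, ← map_inv, ← map_mul, ← map_mul] at h
      have h' := d.κ5_injective h
      refine mul_inv_eq_iff_eq_mul.1 ?_
      calc i5 * a.1 * q * (i5 * a.1)⁻¹ = i5 * (a.1 * q * (a.1)⁻¹) * i5⁻¹ := by group
        _ = q := h'
    have h1 := congrArg Perm.sign (S5_centralizer _ (ka _ hc) (ka _ hv))
    rw [map_mul, five_values.2.2.2.2.2.2.2.2.2.2.2.2.2.2.2, show Perm.sign a.1 = 1 from a.2, map_one] at h1
    exact absurd h1 (by decide)
  all_goals exfalso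
  · have h := (eA v5 hv).1
    rw [conj_g5] at h
    have := (E.κ5_eq_ι5 hv (by rw [map_mul, map_mul, map_inv, hv, mul_one, mul_inv_cancel]) h.symm).1
    exact five_values.2.2.2.2.1 this
  · have h := (eA v5 hv).1
    rw [show d.i * d.g * d.κ5 (a.1 * v5 * (a.1)⁻¹) * (d.i * d.g)⁻¹ =
      d.i * (d.g * d.κ5 (a.1 * v5 * (a.1)⁻¹) * d.g⁻¹) * d.i⁻¹ by group, conj_g5, ← ι5_i, ← map_inv,
      ← map_mul, ← map_mul] at h
    have := (E.κ5_eq_ι5 hv (by simp [hv]) h.symm).1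
    exact five_values.2.2.2.2.1 this

theorem fittingStar : generalizedFittingSubgroup G = E.N := by
  haveI := E.N_normal
  haveI : Nontrivial G := ⟨⟨d.z, 1, d.z_ne_one⟩⟩
  have hnsolv : ¬ Group.IsSolvable E.N := by
    intro h
    haveI := h
    haveI : IsSimpleGroup A5g := alternatingGroup.isSimpleGroup_five
    let f : A5g →* E.N := (d.κ5.comp A5g.subtype).codRestrict E.N fun a => E.κ5_mem a.2
    have hfi : Function.Injective f := fun a b e =>
      Subtype.ext (d.κ5_injective (congrArg Subtype.val e))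
    have hs5 : Group.IsSolvable A5g := Group.isSolvable_of_isSolvable_injective hfi
    haveI := hs5
    have hcomm := IsSimpleGroup.comm_iff_isSolvable.2 hs5
    have := hcomm ⟨c5, five_values.2.2.2.2.2.2.2.2.2.2.2.2.2.2.1⟩ ⟨v5, five_values.2.2.2.2.2.2.2.2.2.2.2.2.1⟩
    exact absurd (congrArg Subtype.val this) (by decide +kernel)
  have hcomm : ∀ K : Subgroup G, K.Normal → K ⊓ E.N = ⊥ → K = ⊥ := by
    intro K hKn h
    have hle : K ≤ Subgroup.centralizer (E.N : Set G) := fun x hx => by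
      rw [Subgroup.mem_centralizer_iff]
      intro y hy
      exact (Subgroup.commute_of_normal_of_disjoint K E.N hKn E.N_normal (disjoint_iff.2 h) x y hx hy).symm.eq
    rw [E.centralizer_N] at hle
    exact eq_bot_iff.2 hle
  refine le_antisymm (sup_le ?_ ?_) ?_
  · refine sSup_le fun K hK => ?_
    have hperf : Group.IsPerfect K := hK.2.1
    have hKK : ⁅K, K⁆ = K := Subgroup.isPerfect_iff.1 hperf
    rw [← hKK, Subgroup.commutator_le]
    intro x _ y _
    have e : ⁅x, y⁆ = (x * y) ^ 2 * (y⁻¹ * (x⁻¹) ^ 2 * y) * ((y⁻¹) ^ 2) := by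
      rw [commutatorElement_def, pow_two, pow_two, pow_two]; group
    rw [e]
    refine mul_mem (mul_mem (E.sq_mem _) ?_) (E.sq_mem _)
    have := E.N_normal.conj_mem _ (E.sq_mem x⁻¹) y⁻¹
    rwa [inv_inv] at this
  · haveI : (fittingSubgroup G).Normal := Components.fittingSubgroup_normal G
    rcases E.minimal (fittingSubgroup G ⊓ E.N) inf_le_right with h | h
    · rw [hcomm _ inferInstance h]; exact bot_le
    · exfalso
      apply hnsolv
      haveI : Group.IsNilpotent (fittingSubgroup G) := Components.fittingSubgroup_isNilpotent G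
      exact Group.isSolvable_of_isSolvable_injective
        (f := Subgroup.inclusion (inf_eq_right.1 h)) (Subgroup.inclusion_injective _)
  · haveI hFn : (generalizedFittingSubgroup G).Normal := inferInstance
    rcases E.minimal (generalizedFittingSubgroup G ⊓ E.N) inf_le_right with h | h
    · exfalso
      exact Components.generalizedFittingSubgroup_ne_bot (hcomm _ hFn h)
    · exact inf_eq_right.1 h

theorem exceptional : ∃ N : Subgroup G, N.Normal ∧ generalizedFittingSubgroup G = N ∧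
    Nonempty (N ≃* alternatingGroup (Fin 5) × alternatingGroup (Fin 5)) ∧
    (∀ K : Subgroup G, K.Normal → K ≤ N → K = ⊥ ∨ K = N) ∧
    N.index = 4 ∧ ∀ g : G, g ^ 2 ∈ N :=
  ⟨E.N, E.N_normal, E.fittingStar, ⟨(MonoidHom.ofInjective E.nf_injective).symm⟩,
    fun K hK hle => @minimal _ _ _ _ E K hK hle, E.index_N, E.sq_mem⟩

end Even

end Data

end Cfsg.Agent.SymEightLocal
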