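import Mathlib
import Cfsg.Agent.Lib.EightLocal.Model
import Cfsg.Agent.Lib.SymEightLocal.Model
import Cfsg.Agent.Lib.Perm.CoxeterPresentation

/-!
# Computations in the symmetric group of degree eight
-/

set_option autoImplicit false

namespace Cfsg.Agent.SymEightLocal

open Equiv EightLocal

set_option synthInstance.maxHeartbeats 200000
set_option synthInstance.maxSize 1024

def q0S : SF := (1, c[2, 0])
def q1S : SF := (1, c[2, 1])
def t1S : SF := (c[1, 2], 1)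
def t4S : SF := (1, c[1, 2])
def t5S : SF := (1, c[2, 3])

theorem chain_values :
    sS * sS = 1 ∧ t1S * t1S = 1 ∧ iS * iS = 1 ∧ t4S * t4S = 1 ∧ t5S * t5S = 1 ∧ bO * bO = 1 ∧
    q0S * q0S = 1 ∧ q1S * q1S = 1 ∧
    sS * t1S * sS = t1S * sS * t1S ∧ iS * t4S * iS = t4S * iS * t4S ∧
    t4S * t5S * t4S = t5S * t4S * t5S ∧ t5S * bO * t5S = bO * t5S * bO ∧
    sS * iS = iS * sS ∧ sS * t4S = t4S * sS ∧ sS * t5S = t5S * sS ∧ sS * bO = bO * sS ∧
    t1S * iS = iS * t1S ∧ t1S * t4S = t4S * t1S ∧ t1S * t5S = t5S * t1S ∧ t1S * bO = bO * t1S ∧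
    iS * t5S = t5S * iS ∧ iS * bO = bO * iS ∧ t4S * bO = bO * t4S ∧
    sS * t1S = zS ∧ t5S * bO = wS := by decide +kernel

theorem q_values : ∀ q ∈ [q0S, q1S],
    q * q = 1 ∧ q ≠ 1 ∧ q * iS * q = iS * q * iS ∧ q * bO = bO * q ∧ q * sS = sS * q ∧
      q * zS = zS * q ∧ q ≠ iS ∧ (q * iS) ^ 3 = 1 ∧ q ≠ iS * bO ∧
      ∀ k : Fin 3, q * (wS ^ (k : ℕ) * bO * (wS ^ (k : ℕ))⁻¹) * q ≠ 1 := by
  intro q hq
  simp only [List.mem_cons, List.not_mem_nil, or_false] at hq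
  rcases hq with rfl | rfl <;> decide +kernel

theorem t1_as_conj : ∃ m : Fin 3, t1S = zS ^ (m : ℕ) * sS * (zS ^ (m : ℕ))⁻¹ ∧
    (∀ q ∈ [q0S, q1S], q * (wS ^ (m : ℕ) * bO * (wS ^ (m : ℕ))⁻¹) * q =
      (wS ^ (m : ℕ) * bO * (wS ^ (m : ℕ))⁻¹) * q * (wS ^ (m : ℕ) * bO * (wS ^ (m : ℕ))⁻¹)) := by
  decide +kernel

theorem t5_as_conj : ∃ m : Fin 3, t5S = wS ^ (m : ℕ) * bO * (wS ^ (m : ℕ))⁻¹ ∧
    (∀ q ∈ [q0S, q1S], q * (zS ^ (m : ℕ) * sS * (zS ^ (m : ℕ))⁻¹) =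
      zS ^ (m : ℕ) * sS * (zS ^ (m : ℕ))⁻¹ * q) := by decide +kernel

theorem s_times : ((1, c[0, 2] * c[1, 3]) : SF) * iS * ((1, c[0, 2] * c[1, 3]) : SF)⁻¹ = (1, c[2, 3]) ∧
    (1, c[0, 3] * c[1, 4]) * iS * ((1, c[0, 3] * c[1, 4]) : SF)⁻¹ = bO ∧
    (1, c[0, 1, 2]) * (sS * iS) * ((1, c[0, 1, 2]) : SF)⁻¹ = sS * t4S := by decide +kernel

/-- `Sym 2 × Sym 6` on eight points -/
def sum26 : Perm (Fin 2) × Perm (Fin 6) →* Perm (Fin 8) :=
  (Equiv.permCongrHom (finSumFinEquiv (m := 2) (n := 6))).toMonoidHom.comp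
    (Equiv.Perm.sumCongrHom (Fin 2) (Fin 6))

theorem sum26_injective : Function.Injective sum26 :=
  (Equiv.permCongrHom (finSumFinEquiv (m := 2) (n := 6))).injective.comp Equiv.Perm.sumCongrHom_injective

theorem sum35_injective : Function.Injective sum35 :=
  (Equiv.permCongrHom (finSumFinEquiv (m := 3) (n := 5))).injective.comp Equiv.Perm.sumCongrHom_injective

theorem sum26_commute (x : Perm (Fin 2) × Perm (Fin 6)) :
    sum26 x * swap (0 : Fin 8) 1 = swap (0 : Fin 8) 1 * sum26 x := by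
  have h : swap (0 : Fin 8) 1 = sum26 (swap 0 1, 1) := by decide +kernel
  have hc : ∀ p : Perm (Fin 2), p * swap 0 1 = swap 0 1 * p := by decide +kernel
  rw [h, ← map_mul, ← map_mul]
  congr 1
  exact Prod.ext (hc _) (by simp)

/-- the transpositions swapping the two lines -/
def g8 : Perm (Fin 8) := c[0, 6] * c[1, 7] * c[2, 5]

/-- the centraliser of a mixed element -/
def yC (x : Fin 3 × Fin 3 × Fin 2 × Fin 2) : Perm (Fin 8) :=
  z0.1 ^ (x.1 : ℕ) * w0.1 ^ (x.2.1 : ℕ) * c[3, 4] ^ (x.2.2.1 : ℕ) *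
    (c[0, 5] * c[1, 6] * c[2, 7]) ^ (x.2.2.2 : ℕ)

set_option maxHeartbeats 0 in
theorem yC_facts : Function.Injective yC ∧ ∀ x, yC x * y0.1 = y0.1 * yC x := by
  constructor <;> decide +kernel

theorem sym_values :
    sum35 zS = z0.1 ∧ sum35 sS = swap 0 1 ∧ sum35 t1S = swap 1 2 ∧ sum35 iS = swap 3 4 ∧
    sum35 t4S = swap 4 5 ∧ sum35 t5S = swap 5 6 ∧ sum35 bO = swap 6 7 ∧ sum35 wS = w0.1 ∧
    Perm.adjSwap 7 0 = swap 0 1 ∧ Perm.adjSwap 7 1 = swap 1 2 ∧ Perm.adjSwap 7 3 = swap 3 4 ∧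
    Perm.adjSwap 7 4 = swap 4 5 ∧ Perm.adjSwap 7 5 = swap 5 6 ∧ Perm.adjSwap 7 6 = swap 6 7 ∧
    z0.1 * w0.1 = y0.1 ∧ u0.1 * z0.1 * u0.1⁻¹ = w0.1 := by decide +kernel

/-- A permutation commuting with all transpositions is trivial. -/
theorem eq_one_of_commute_swaps (k : Perm (Fin 8)) (h : ∀ a b, k * swap a b = swap a b * k) : k = 1 := by
  ext a
  by_contra hne
  have hne' : k a ≠ a := fun e => hne (by simp [e])
  obtain ⟨c, hc1, hc2⟩ : ∃ c : Fin 8, c ≠ a ∧ c ≠ k a := by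
    have : ∀ x y : Fin 8, ∃ c : Fin 8, c ≠ x ∧ c ≠ y := by decide
    exact this _ _
  have h' := DFunLike.congr_fun (h a c) a
  simp only [Perm.mul_apply, swap_apply_left, swap_apply_of_ne_of_ne hne' (Ne.symm hc2)] at h'
  exact hc1 (k.injective h')

/-- A homomorphism from `Sym 8` nontrivial on a 3-cycle is injective. -/
theorem injective_of_z0 {G : Type*} [Group G] (φ : Perm (Fin 8) →* G) (h : φ z0.1 ≠ 1) :
    Function.Injective φ := by
  have hA := injective_of_apply_ne_one (φ.comp A8.subtype) (p := z0) h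
  rw [injective_iff_map_eq_one]
  intro k hk
  refine eq_one_of_commute_swaps k fun a b => ?_
  set c := k * swap a b * k⁻¹ * (swap a b)⁻¹ with hc
  have hcA : c ∈ A8 := by
    rw [Equiv.Perm.mem_alternatingGroup, hc]
    simp only [map_mul, map_inv]
    generalize Perm.sign k = u
    generalize Perm.sign (swap a b) = v
    rcases Int.units_eq_one_or u with rfl | rfl <;> rcases Int.units_eq_one_or v with rfl | rfl <;> decide
  have hc1 : (⟨c, hcA⟩ : A8) = 1 := hA (by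
    show φ c = φ (1 : Perm (Fin 8))
    rw [hc, map_mul, map_mul, map_mul, map_inv, map_inv, hk]
    simp)
  have hc1' : c = 1 := congrArg Subtype.val hc1
  rw [hc, mul_inv_eq_one, mul_inv_eq_iff_eq_mul] at hc1'
  exact hc1'

end Cfsg.Agent.SymEightLocal
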