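import Mathlib
import Cfsg.Agent.Lib.SymEightLocal.CentI
import Cfsg.Agent.Lib.SymEightLocal.SixLemma
import Cfsg.Agent.Lib.SymEightLocal.SymModel

/-!
# Building the symmetric group of degree eight
-/

set_option autoImplicit false

namespace Cfsg.Agent.SymEightLocal

open Equiv EightLocal

universe u

namespace Data

variable {G : Type u} [Group G] [Finite G] (d : Data G)

theorem odd_κ (hs : d.g * d.s * d.g⁻¹ = d.ι bO) : d.κ sS = d.ι bO ∧ d.κ bO = d.s := by
  refine ⟨hs, ?_⟩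
  have h := d.conj_g sS
  rw [κ_apply d sS, hs] at h
  exact h

theorem odd_not_isI_si (hs : d.g * d.s * d.g⁻¹ = d.ι bO) : ¬ d.IsI (d.ι (sS * iS)) := by
  rw [map_mul, show d.ι sS = d.κ bO from (d.odd_κ hs).2.symm, show d.ι iS = d.κ iS from d.κ_iS.symm, ← map_mul]
  exact d.not_isI_κ (by decide +kernel) (by decide +kernel)

theorem exists_chain (hs : d.g * d.s * d.g⁻¹ = d.ι bO) (e : d.Ci ⧸ d.Zi ≃* Perm (Fin 6)) :
    ∃ q ∈ [q0S, q1S], d.κ q * d.ι t4S = d.ι t4S * d.κ q := by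
  classical
  have hq0 := q_values q0S (by simp)
  have hq1 := q_values q1S (by simp)
  obtain ⟨hκs, hκb⟩ := d.odd_κ hs
  -- transport to the centraliser of `s`
  set h := d.ι ((1, c[0, 3] * c[1, 4]) : SF)⁻¹ * d.g with hh
  have hhs : h * d.s * h⁻¹ = d.i := by
    rw [hh, show d.ι ((1, c[0, 3] * c[1, 4]) : SF)⁻¹ * d.g * d.s * (d.ι ((1, c[0, 3] * c[1, 4]) : SF)⁻¹ * d.g)⁻¹
      = d.ι ((1, c[0, 3] * c[1, 4]) : SF)⁻¹ * (d.g * d.s * d.g⁻¹) * (d.ι ((1, c[0, 3] * c[1, 4]) : SF)⁻¹)⁻¹ by group,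
      hs, ← map_inv, ← map_mul, ← map_mul, i]
    congr 1
    decide +kernel
  set Cs := Subgroup.centralizer ({d.s} : Set G) with hCs
  let f0 : Cs →* d.Ci := ((MulAut.conj h).toMonoidHom.comp Cs.subtype).codRestrict d.Ci fun x => by
    refine d.mem_Ci.2 ?_
    have hx := Subgroup.mem_centralizer_singleton_iff.1 x.2
    rw [← hhs]
    exact ((show Commute x.1 d.s from hx).map (MulAut.conj h).toMonoidHom).eq
  let π : Cs →* Perm (Fin 6) := e.toMonoidHom.comp ((QuotientGroup.mk' d.Zi).comp f0)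
  have hπ : ∀ x : Cs, π x = 1 → x.1 = 1 ∨ x.1 = d.s := by
    intro x hx
    have h1 : f0 x ∈ d.Zi := (QuotientGroup.eq_one_iff _).1 (e.injective (hx.trans (map_one e).symm))
    rcases d.mem_Zi h1 with e1 | e1
    · exact Or.inl (conj_eq_one_iff.1 e1)
    · right
      have e1' : h * x.1 * h⁻¹ = h * d.s * h⁻¹ := e1.trans hhs.symm
      exact mul_left_cancel (mul_right_cancel e1')
  have hι : ∀ k : SF, k * sS = sS * k → d.ι k ∈ Cs := fun k hk =>
    Subgroup.mem_centralizer_singleton_iff.2 (by rw [s, ← map_mul, ← map_mul, hk])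
  have hκ : ∀ k : SF, k * bO = bO * k → d.κ k ∈ Cs := fun k hk =>
    Subgroup.mem_centralizer_singleton_iff.2 (by rw [← hκb, ← map_mul, ← map_mul, hk])
  obtain ⟨v1, v2, v3, v4, v5, v6, v7, v8, v9, v10, v11, v12, v13, v14, v15, v16, v17, v18, v19, v20,
    v21, v22, v23, v24, v25⟩ := chain_values
  set a : Cs := ⟨d.ι iS, hι _ v13.symm⟩
  set b : Cs := ⟨d.ι t4S, hι _ v14.symm⟩
  set c : Cs := ⟨d.ι t5S, hι _ v15.symm⟩
  set e' : Cs := ⟨d.ι bO, hι _ v16.symm⟩
  set q : Cs := ⟨d.κ q0S, hκ _ hq0.2.2.2.1⟩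
  set q' : Cs := ⟨d.κ q1S, hκ _ hq1.2.2.2.1⟩
  -- facts inside the two normalisers
  have inι : ∀ k : SF, k ≠ 1 → k ≠ sS → ∀ x : Cs, x.1 = d.ι k → π x ≠ 1 := by
    intro k h1 h2 x hx e1
    rcases hπ x e1 with e2 | e2 <;> rw [hx] at e2
    · exact h1 (d.inj (e2.trans (map_one _).symm))
    · exact h2 (d.inj e2)
  have inκ : ∀ k : SF, k ≠ 1 → k ≠ bO → ∀ x : Cs, x.1 = d.κ k → π x ≠ 1 := by
    intro k h1 h2 x hx e1
    rcases hπ x e1 with e2 | e2 <;> rw [hx] at e2
    · exact h1 (d.κ_injective (e2.trans (map_one _).symm))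
    · exact h2 (d.κ_injective (e2.trans hκb.symm))
  have sqι : ∀ k : SF, k * k = 1 → ∀ x : Cs, x.1 = d.ι k → π x * π x = 1 := by
    intro k hk x hx
    rw [← map_mul, show x * x = 1 from Subtype.ext (by
      show x.1 * x.1 = 1
      rw [hx, ← map_mul, hk, map_one]), map_one]
  have sqκ : ∀ k : SF, k * k = 1 → ∀ x : Cs, x.1 = d.κ k → π x * π x = 1 := by
    intro k hk x hx
    rw [← map_mul, show x * x = 1 from Subtype.ext (by
      show x.1 * x.1 = 1
      rw [hx, ← map_mul, hk, map_one]), map_one]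
  have neι : ∀ (k l : SF), k * l ≠ 1 → k * l ≠ sS → l * l = 1 →
      ∀ x y : Cs, x.1 = d.ι k → y.1 = d.ι l → π x ≠ π y := by
    intro k l h1 h2 hl x y hx hy e1
    refine inι (k * l) h1 h2 (x * y) (by rw [Subgroup.coe_mul, hx, hy, map_mul]) ?_
    rw [map_mul, e1]
    exact sqι l hl y hy
  have neκ : ∀ (k l : SF), k * l ≠ 1 → k * l ≠ bO → l * l = 1 →
      ∀ x y : Cs, x.1 = d.κ k → y.1 = d.κ l → π x ≠ π y := by
    intro k l h1 h2 hl x y hx hy e1
    refine inκ (k * l) h1 h2 (x * y) (by rw [Subgroup.coe_mul, hx, hy, map_mul]) ?_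
    rw [map_mul, e1]
    exact sqκ l hl y hy
  have pι : ∀ (k l : SF), (k * l) ^ 3 = 1 → ∀ x y : Cs, x.1 = d.ι k → y.1 = d.ι l → (π x * π y) ^ 3 = 1 := by
    intro k l hkl x y hx hy
    rw [← map_mul, ← map_pow, show (x * y) ^ 3 = 1 from Subtype.ext (by
      show (x.1 * y.1) ^ 3 = 1
      rw [hx, hy, ← map_mul, ← map_pow, hkl, map_one]), map_one]
  have cι : ∀ (k l : SF), k * l = l * k → ∀ x y : Cs, x.1 = d.ι k → y.1 = d.ι l → π x * π y = π y * π x := by
    intro k l hkl x y hx hy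
    rw [← map_mul, ← map_mul, show x * y = y * x from Subtype.ext (by
      show x.1 * y.1 = y.1 * x.1
      rw [hx, hy, ← map_mul, ← map_mul, hkl])]
  obtain ⟨m, hm5, hm5q⟩ := t5_as_conj
  have h5κ : d.ι t5S = d.κ (zS ^ (m : ℕ) * sS * (zS ^ (m : ℕ))⁻¹) := by
    rw [hm5, map_mul, map_mul, map_inv, map_pow, map_mul, map_mul, map_inv, map_pow, κ_zS, hκs]
  have cκ : ∀ (k l : SF), k * l = l * k → ∀ x y : Cs, x.1 = d.κ k → y.1 = d.κ l → π x * π y = π y * π x := by
    intro k l hkl x y hx hy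
    rw [← map_mul, ← map_mul, show x * y = y * x from Subtype.ext (by
      show x.1 * y.1 = y.1 * x.1
      rw [hx, hy, ← map_mul, ← map_mul, hkl])]
  have hai : a.1 = d.κ iS := d.κ_iS.symm
  have heκ : e'.1 = d.κ sS := hκs.symm
  have lift : ∀ (k : SF) (hk : k ∈ [q0S, q1S]) (x : Cs), x.1 = d.κ k → π x * π b = π b * π x →
      d.κ k * d.ι t4S = d.ι t4S * d.κ k := by
    intro k hk x hx hc
    obtain ⟨k1, -⟩ := q_values k hk
    have hi : (d.κ k)⁻¹ = d.κ k := inv_eq_of_mul_eq_one_right (by rw [← map_mul, k1, map_one])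
    have h1 : π (x * b * x⁻¹ * b⁻¹) = 1 := by rw [map_mul, map_mul, map_mul, map_inv, map_inv, hc]; group
    rcases hπ _ h1 with e1 | e1
    · have e1' : d.κ k * d.ι t4S * (d.κ k)⁻¹ * (d.ι t4S)⁻¹ = 1 := by rw [← hx]; exact e1
      rw [mul_inv_eq_one, mul_inv_eq_iff_eq_mul] at e1'
      exact e1'
    · exfalso
      have e1' : d.κ k * d.ι t4S * (d.κ k)⁻¹ * (d.ι t4S)⁻¹ = d.s := by rw [← hx]; exact e1
      rw [mul_inv_eq_iff_eq_mul, s, ← map_mul] at e1'
      have h4 : d.IsI (d.ι t4S) := by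
        refine ⟨d.ι (1, c[0, 1, 2]), ?_⟩
        rw [i, ← map_inv, ← map_mul, ← map_mul]
        congr 1
        decide +kernel
      have h5 : d.IsI (d.ι (sS * t4S)) := e1' ▸ d.isI_conj h4 _
      refine d.odd_not_isI_si hs ?_
      have := d.isI_conj h5 (d.ι (1, c[0, 1, 2]))⁻¹
      rwa [inv_inv, ← map_inv, ← map_mul, ← map_mul,
        show ((1, c[0, 1, 2]) : SF)⁻¹ * (sS * t4S) * (1, c[0, 1, 2]) = sS * iS by decide +kernel] at this
  rcases six_chain (a := π a) (b := π b) (c := π c) (e := π e') (q := π q) (q' := π q')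
      (sqι _ v3 a rfl) (sqι _ v4 b rfl) (sqι _ v5 c rfl) (sqι _ v6 e' rfl)
      (inι bO (by decide +kernel) (by decide +kernel) e' rfl)
      (sqκ _ v7 q rfl) (sqκ _ v8 q' rfl)
      (inκ q0S hq0.2.1 (by decide +kernel) q rfl) (inκ q1S hq1.2.1 (by decide +kernel) q' rfl)
      (neι t5S bO (by decide +kernel) (by decide +kernel) v6 c e' rfl rfl)
      (neι t4S t5S (by decide +kernel) (by decide +kernel) v5 b c rfl rfl)
      (neι t4S bO (by decide +kernel) (by decide +kernel) v6 b e' rfl rfl)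
      (neι iS t4S (by decide +kernel) (by decide +kernel) v4 a b rfl rfl)
      (neκ q0S iS (by decide +kernel) (by decide +kernel) v3 q a rfl hai)
      (neκ q1S iS (by decide +kernel) (by decide +kernel) v3 q' a rfl hai)
      (neκ q1S q0S (by decide +kernel) (by decide +kernel) v7 q' q rfl rfl)
      (pι t5S bO (by decide +kernel) c e' rfl rfl)
      (pι t4S t5S (by decide +kernel) b c rfl rfl)
      (pι iS t4S (by decide +kernel) a b rfl rfl)
      (cι t4S bO v23 b e' rfl rfl)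
      (cι iS bO v22 a e' rfl rfl)
      (cι iS t5S v21 a c rfl rfl)
      (cκ q0S sS hq0.2.2.2.2.1 q e' rfl heκ)
      (cκ q0S _ (hm5q q0S (by simp)) q c rfl h5κ)
      (cκ q1S sS hq1.2.2.2.2.1 q' e' rfl heκ)
      (cκ q1S _ (hm5q q1S (by simp)) q' c rfl h5κ) with hc | hc
  · exact ⟨q0S, by simp, lift q0S (by simp) q rfl hc⟩
  · exact ⟨q1S, by simp, lift q1S (by simp) q' rfl hc⟩

theorem exists_hom_sym (hs : d.g * d.s * d.g⁻¹ = d.ι bO) (e : d.Ci ⧸ d.Zi ≃* Perm (Fin 6)) :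
    ∃ φ : Perm (Fin 8) →* G, Function.Injective φ ∧ φ.comp sum35 = d.ι := by
  obtain ⟨q, hqmem, hq4⟩ := d.exists_chain hs e
  obtain ⟨hκs, hκb⟩ := d.odd_κ hs
  obtain ⟨k1, k2, k3, k4, k5, k6, k7, -⟩ := q_values q hqmem
  obtain ⟨v1, v2, v3, v4, v5, v6, v7, v8, v9, v10, v11, v12, v13, v14, v15, v16, v17, v18, v19, v20,
    v21, v22, v23, v24, v25⟩ := chain_values
  obtain ⟨m1, hm1, hm1q⟩ := t1_as_conj
  obtain ⟨m5, hm5, hm5q⟩ := t5_as_conj
  let t : ℕ → G
    | 0 => d.ι sS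
    | 1 => d.ι t1S
    | 2 => d.κ q
    | 3 => d.ι iS
    | 4 => d.ι t4S
    | 5 => d.ι t5S
    | 6 => d.ι bO
    | _ => 1
  have h0κ : d.ι sS = d.κ bO := hκb.symm
  have h3κ : d.ι iS = d.κ iS := d.κ_iS.symm
  have h6κ : d.ι bO = d.κ sS := hκs.symm
  have h1κ : d.ι t1S = d.κ (wS ^ (m1 : ℕ) * bO * (wS ^ (m1 : ℕ))⁻¹) := by
    rw [hm1, map_mul, map_mul, map_inv, map_pow, map_mul, map_mul, map_inv, map_pow, κ_wS, hκb]
  have h5κ : d.ι t5S = d.κ (zS ^ (m5 : ℕ) * sS * (zS ^ (m5 : ℕ))⁻¹) := by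
    rw [hm5, map_mul, map_mul, map_inv, map_pow, map_mul, map_mul, map_inv, map_pow, κ_zS, hκs]
  have bι : ∀ {k l : SF}, k * l * k = l * k * l → d.ι k * d.ι l * d.ι k = d.ι l * d.ι k * d.ι l := fun h => by
    simp only [← map_mul]; rw [h]
  have bκ : ∀ {k l : SF}, k * l * k = l * k * l → d.κ k * d.κ l * d.κ k = d.κ l * d.κ k * d.κ l := fun h => by
    simp only [← map_mul]; rw [h]
  have cι : ∀ {k l : SF}, k * l = l * k → d.ι k * d.ι l = d.ι l * d.ι k := fun h => by
    simp only [← map_mul]; rw [h]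
  have cκ : ∀ {k l : SF}, k * l = l * k → d.κ k * d.κ l = d.κ l * d.κ k := fun h => by
    simp only [← map_mul]; rw [h]
  have hrels : Perm.BraidRels t 7 := by
    refine ⟨?_, ?_, ?_⟩
    · intro n hn
      interval_cases n
      · show d.ι sS * d.ι sS = 1; rw [← map_mul, v1, map_one]
      · show d.ι t1S * d.ι t1S = 1; rw [← map_mul, v2, map_one]
      · show d.κ q * d.κ q = 1; rw [← map_mul, k1, map_one]
      · show d.ι iS * d.ι iS = 1; rw [← map_mul, v3, map_one]
      · show d.ι t4S * d.ι t4S = 1; rw [← map_mul, v4, map_one]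
      · show d.ι t5S * d.ι t5S = 1; rw [← map_mul, v5, map_one]
      · show d.ι bO * d.ι bO = 1; rw [← map_mul, v6, map_one]
    · intro n hn
      have hn' : n < 6 := by omega
      interval_cases n
      · exact bι v9
      · show d.ι t1S * d.κ q * d.ι t1S = d.κ q * d.ι t1S * d.κ q
        rw [h1κ]; exact (bκ (hm1q q hqmem)).symm
      · show d.κ q * d.ι iS * d.κ q = d.ι iS * d.κ q * d.ι iS
        rw [h3κ]; exact bκ k3
      · exact bι v10
      · exact bι v11
      · exact bι v12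
    · intro a b hab hb
      have ha : a < 7 := by omega
      interval_cases b <;> interval_cases a
      all_goals first
        | omega
        | exact cι v13 | exact cι v14 | exact cι v15 | exact cι v16 | exact cι v17 | exact cι v18
        | exact cι v19 | exact cι v20 | exact cι v21 | exact cι v22 | exact cι v23
        | exact hq4
        | (show d.ι sS * d.κ q = d.κ q * d.ι sS; rw [h0κ]; exact cκ k4.symm)
        | (show d.κ q * d.ι t5S = d.ι t5S * d.κ q; rw [h5κ]; exact cκ (hm5q q hqmem))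
        | (show d.κ q * d.ι bO = d.ι bO * d.κ q; rw [h6κ]; exact cκ k5)
  obtain ⟨φ, hφ⟩ := Perm.exists_hom_of_braidRels hrels
  obtain ⟨s1, s2, s3, s4, s5, s6, s7, s8, a0', a1', a3', a4', a5', a6', -, -⟩ := sym_values
  have g0 : φ (sum35 sS) = d.ι sS := by rw [s2, ← a0', hφ 0 (by norm_num)]; rfl
  have g1 : φ (sum35 t1S) = d.ι t1S := by rw [s3, ← a1', hφ 1 (by norm_num)]; rfl
  have g3 : φ (sum35 iS) = d.ι iS := by rw [s4, ← a3', hφ 3 (by norm_num)]; rfl
  have g4 : φ (sum35 t4S) = d.ι t4S := by rw [s5, ← a4', hφ 4 (by norm_num)]; rfl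
  have g5 : φ (sum35 t5S) = d.ι t5S := by rw [s6, ← a5', hφ 5 (by norm_num)]; rfl
  have g6 : φ (sum35 bO) = d.ι bO := by rw [s7, ← a6', hφ 6 (by norm_num)]; rfl
  -- the six transpositions generate `Sym 3 × Sym 5`
  set E := (φ.comp sum35).eqLocus d.ι with hE
  have hS3 : ∀ a : Perm (Fin 3), ((a, 1) : SF) ∈ E := by
    intro a
    have ha : a ∈ Subgroup.closure (Perm.adjSwap 2 '' Set.Iio 2) := by rw [Perm.closure_adjSwap]; trivial
    induction ha using Subgroup.closure_induction with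
    | mem x hx =>
      obtain ⟨n, hn, rfl⟩ := hx
      rw [Set.mem_Iio] at hn
      interval_cases n
      · rw [show ((Perm.adjSwap 2 0, 1) : SF) = sS by decide +kernel]; exact g0
      · rw [show ((Perm.adjSwap 2 1, 1) : SF) = t1S by decide +kernel]; exact g1
    | one => exact E.one_mem
    | mul x y _ _ hx hy =>
      have := E.mul_mem hx hy
      simpa using this
    | inv x _ hx =>
      have := E.inv_mem hx
      simpa using this
  have hS5 : ∀ b : Perm (Fin 5), ((1, b) : SF) ∈ E := by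
    intro b
    have hb : b ∈ Subgroup.closure (Perm.adjSwap 4 '' Set.Iio 4) := by rw [Perm.closure_adjSwap]; trivial
    induction hb using Subgroup.closure_induction with
    | mem x hx =>
      obtain ⟨n, hn, rfl⟩ := hx
      rw [Set.mem_Iio] at hn
      interval_cases n
      · rw [show ((1, Perm.adjSwap 4 0) : SF) = iS by decide +kernel]; exact g3
      · rw [show ((1, Perm.adjSwap 4 1) : SF) = t4S by decide +kernel]; exact g4
      · rw [show ((1, Perm.adjSwap 4 2) : SF) = t5S by decide +kernel]; exact g5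
      · rw [show ((1, Perm.adjSwap 4 3) : SF) = bO by decide +kernel]; exact g6
    | one => exact E.one_mem
    | mul x y _ _ hx hy =>
      have := E.mul_mem hx hy
      simpa using this
    | inv x _ hx =>
      have := E.inv_mem hx
      simpa using this
  have heq : φ.comp sum35 = d.ι := by
    refine MonoidHom.ext fun k => ?_
    have := E.mul_mem (hS3 k.1) (hS5 k.2)
    rw [Prod.mk_mul_mk, mul_one, one_mul] at this
    exact this
  refine ⟨φ, injective_of_z0 φ ?_, heq⟩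
  rw [← s1, show φ (sum35 zS) = d.ι zS from DFunLike.congr_fun heq zS]
  exact d.z_ne_one

end Data

end Cfsg.Agent.SymEightLocal
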