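import Mathlib
import Cfsg.Agent.Lib.SymEightLocal.SymBuild
import Cfsg.Agent.Lib.SymEightLocal.IsI
import Cfsg.Agent.Lib.EightLocal.Main
import Cfsg.Agent.Lib.Transfer.Thompson

/-!
# The symmetric group of degree eight
-/

set_option autoImplicit false

namespace Cfsg.Agent.SymEightLocal

open Equiv EightLocal

universe u

theorem perm_values :
    a0.1 = swap 0 1 * swap 2 3 ∧ swap (0 : Fin 8) 1 * swap 6 7 = sum35 (sS * bO) ∧
    c[0, 6] * c[1, 7] * c[2, 5] = g8 ∧ g8 * y0.1 * g8⁻¹ = y0.1 ∧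
    (g8 * swap 3 4) * y0.1 * (g8 * swap 3 4)⁻¹ = y0.1 ∧ g8 * g8 = 1 ∧
    (g8 * swap 3 4) * (g8 * swap 3 4) = 1 ∧ g8 ≠ swap 3 4 ∧ g8 * swap 3 4 ≠ swap 3 4 := by decide +kernel

/-- The four classes of involutions. -/
theorem invol_classes8 {p : Perm (Fin 8)} (h2 : p * p = 1) (h1 : p ≠ 1) :
    ∃ σ : Perm (Fin 8), σ * p * σ⁻¹ = swap 3 4 ∨ σ * p * σ⁻¹ = swap 3 4 * swap 0 1 ∨
      σ * p * σ⁻¹ = g8 ∨ σ * p * σ⁻¹ = g8 * swap 3 4 := by
  haveI : Fact (Nat.Prime 2) := ⟨Nat.prime_two⟩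
  have ho : orderOf p = 2 := orderOf_eq_prime (by rw [sq, h2]) h1
  obtain ⟨n, hn⟩ := Equiv.Perm.cycleType_prime_order (σ := p) (by rw [ho]; exact Nat.prime_two)
  rw [ho] at hn
  have hle := p.sum_cycleType_le
  rw [hn, Multiset.sum_replicate, Fintype.card_fin, smul_eq_mul] at hle
  have hn' : n = 0 ∨ n = 1 ∨ n = 2 ∨ n = 3 := by omega
  have key : ∀ q : Perm (Fin 8), q.cycleType = p.cycleType → ∃ σ, σ * p * σ⁻¹ = q := fun q hq =>
    isConj_iff.1 (Equiv.Perm.isConj_iff_cycleType_eq.2 hq.symm)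
  rcases hn' with rfl | rfl | rfl | rfl
  · obtain ⟨σ, h⟩ := key (swap 3 4) (by rw [hn]; decide +kernel)
    exact ⟨σ, Or.inl h⟩
  · obtain ⟨σ, h⟩ := key (swap 3 4 * swap 0 1) (by rw [hn]; decide +kernel)
    exact ⟨σ, Or.inr (Or.inl h)⟩
  · obtain ⟨σ, h⟩ := key g8 (by rw [hn]; decide +kernel)
    exact ⟨σ, Or.inr (Or.inr (Or.inl h))⟩
  · obtain ⟨σ, h⟩ := key (g8 * swap 3 4) (by rw [hn]; decide +kernel)
    exact ⟨σ, Or.inr (Or.inr (Or.inr h))⟩

namespace Data

variable {G : Type u} [Group G] [Finite G] (d : Data G)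

section

variable {φ : Perm (Fin 8) →* G} (hφ : Function.Injective φ) (heq : φ.comp sum35 = d.ι)
  (e : d.Ci ⧸ d.Zi ≃* Perm (Fin 6)) (hs : d.g * d.s * d.g⁻¹ = d.ι bO)

include heq in
theorem map_sum35 (k : SF) : φ (sum35 k) = d.ι k := DFunLike.congr_fun heq k

include heq in
theorem map_basic : φ z0.1 = d.z ∧ φ w0.1 = d.w ∧ φ (swap 0 1) = d.s ∧ φ (swap 3 4) = d.i ∧
    φ y0.1 = d.ι (dS 1 1) := by
  obtain ⟨s1, s2, -, s4, -, -, -, s8, -, -, -, -, -, -, s15, -⟩ := sym_values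
  refine ⟨?_, ?_, ?_, ?_, ?_⟩
  · rw [← s1, d.map_sum35 heq]
  · rw [← s8, d.map_sum35 heq]
  · rw [← s2, d.map_sum35 heq]
  · rw [← s4, d.map_sum35 heq]
  · rw [← s15, map_mul, ← s1, ← s8, d.map_sum35 heq, d.map_sum35 heq, ← map_mul]
    congr 1

include heq in
theorem ι_range_le : d.ι.range ≤ φ.range := by
  rintro _ ⟨k, rfl⟩
  exact ⟨sum35 k, d.map_sum35 heq k⟩

theorem mem_range (p : Perm (Fin 8)) : φ p ∈ φ.range := ⟨p, rfl⟩

theorem conj_range {x : G} (σ : Perm (Fin 8)) (h : φ σ * x * (φ σ)⁻¹ ∈ φ.range) : x ∈ φ.range := by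
  have := mul_mem (mul_mem (inv_mem (⟨σ, rfl⟩ : φ σ ∈ φ.range)) h) (⟨σ, rfl⟩ : φ σ ∈ φ.range)
  rwa [show (φ σ)⁻¹ * (φ σ * x * (φ σ)⁻¹) * φ σ = x by group] at this

include heq in
theorem normalizer_z_le {x : G} (hx : x * d.z * x⁻¹ = d.z ∨ x * d.z * x⁻¹ = d.z⁻¹) : x ∈ φ.range :=
  d.ι_range_le heq ((d.range_iff x).2 hx)

include heq in
theorem map_u0 : φ u0.1 * d.z * (φ u0.1)⁻¹ = d.w := by
  obtain ⟨h1, h2, -⟩ := d.map_basic heq
  rw [← h1, ← h2, ← map_inv, ← map_mul, ← map_mul, sym_values.2.2.2.2.2.2.2.2.2.2.2.2.2.2.2]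

include heq in
theorem normalizer_w_le {x : G} (hx : x * d.w * x⁻¹ = d.w ∨ x * d.w * x⁻¹ = d.w⁻¹) : x ∈ φ.range := by
  have hu := d.map_u0 heq
  have h : (φ u0.1)⁻¹ * x * φ u0.1 ∈ φ.range := by
    refine d.normalizer_z_le heq ?_
    rw [show (φ u0.1)⁻¹ * x * φ u0.1 * d.z * ((φ u0.1)⁻¹ * x * φ u0.1)⁻¹ =
      (φ u0.1)⁻¹ * (x * (φ u0.1 * d.z * (φ u0.1)⁻¹) * x⁻¹) * φ u0.1 by group, hu]
    rcases hx with hx | hx <;> rw [hx, ← hu]
    · exact Or.inl (by group)
    · exact Or.inr (by group)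
  have := mul_mem (mul_mem (⟨u0.1, rfl⟩ : φ u0.1 ∈ φ.range) h) (inv_mem (⟨u0.1, rfl⟩ : φ u0.1 ∈ φ.range))
  rwa [show φ u0.1 * ((φ u0.1)⁻¹ * x * φ u0.1) * (φ u0.1)⁻¹ = x by group] at this

include heq in
theorem normalizer_D_le : Subgroup.normalizer (d.D : Set G) ≤ φ.range := by
  intro n hn
  rcases d.line_of_card ((Subgroup.mem_normalizer_iff.1 hn _).1 d.z_mem)
    (fun e => d.z_ne_one (conj_eq_one_iff.1 e)) (by rw [card_centralizer_conj]; exact d.card_C_z)
    with h | h | h | h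
  · exact d.normalizer_z_le heq (Or.inl h)
  · exact d.normalizer_z_le heq (Or.inr h)
  all_goals
    have hm : (φ u0.1)⁻¹ * n ∈ φ.range := by
      refine d.normalizer_z_le heq ?_
      rw [show (φ u0.1)⁻¹ * n * d.z * ((φ u0.1)⁻¹ * n)⁻¹ = (φ u0.1)⁻¹ * (n * d.z * n⁻¹) * φ u0.1 by group,
        h, ← d.map_u0 heq]
      first
      | (left; group; done)
      | (right; group)
    have := mul_mem (⟨u0.1, rfl⟩ : φ u0.1 ∈ φ.range) hm
    rwa [mul_inv_cancel_left] at this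

include hφ heq e hs in
theorem cent_s_le : Subgroup.centralizer ({d.s} : Set G) ≤ φ.range := by
  have hcard : Nat.card (Subgroup.centralizer ({d.s} : Set G)) = 1440 := by
    have hci : Nat.card d.Ci = 1440 := by
      rw [Subgroup.card_eq_card_quotient_mul_card_subgroup d.Zi, d.card_Zi, Nat.card_congr e.toEquiv,
        Nat.card_perm, Nat.card_fin]
      rfl
    have hconj : d.ι (1, c[0, 3] * c[1, 4]) * d.i * (d.ι (1, c[0, 3] * c[1, 4]))⁻¹ = d.ι bO := by
      rw [i, ← map_inv, ← map_mul, ← map_mul, s_times.2.1]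
    rw [← card_centralizer_conj d.g d.s, hs, ← hconj, card_centralizer_conj]
    exact hci
  have hle : (φ.comp sum26).range ≤ Subgroup.centralizer ({d.s} : Set G) := by
    rintro _ ⟨x, rfl⟩
    rw [Subgroup.mem_centralizer_singleton_iff, ← (d.map_basic heq).2.2.1, MonoidHom.comp_apply,
      ← map_mul, ← map_mul, sum26_commute]
  have hge : Nat.card (φ.comp sum26).range = 1440 := by
    rw [← Nat.card_congr (MonoidHom.ofInjective (f := φ.comp sum26) (hφ.comp sum26_injective)).toEquiv,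
      Nat.card_prod, Nat.card_perm, Nat.card_perm, Nat.card_fin, Nat.card_fin]
    rfl
  rw [← Subgroup.eq_of_le_of_card_ge hle (by rw [hge, hcard]), MonoidHom.range_comp]
  exact Subgroup.map_le_range φ _

include hφ heq in
theorem cent_y_le : Subgroup.centralizer ({φ y0.1} : Set G) ≤ φ.range := by
  let f : Fin 3 × Fin 3 × Fin 2 × Fin 2 → Subgroup.centralizer ({φ y0.1} : Set G) := fun x =>
    ⟨φ (yC x), Subgroup.mem_centralizer_singleton_iff.2 (by rw [← map_mul, ← map_mul, yC_facts.2 x])⟩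
  have hf : Function.Bijective f := (Nat.bijective_iff_injective_and_card f).2
    ⟨fun a b h => yC_facts.1 (hφ (congrArg Subtype.val h)), by
      rw [(d.map_basic heq).2.2.2.2, (d.mixed 1 1 (by decide) (by decide)).1]; simp⟩
  intro x hx
  obtain ⟨a, ha⟩ := hf.2 ⟨x, hx⟩
  exact ⟨yC a, congrArg Subtype.val ha⟩

include hφ heq hs in
theorem isI_map {p : Perm (Fin 8)} (hp : d.IsI (φ p)) : Perm.sign p = -1 := by
  have hp2 : p * p = 1 := hφ (by
    obtain ⟨h, hh⟩ := hp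
    rw [map_mul, ← hh, show h * d.i * h⁻¹ * (h * d.i * h⁻¹) = h * (d.i * d.i) * h⁻¹ by group, i_sq, map_one]
    group)
  have hp1 : p ≠ 1 := by
    rintro rfl
    obtain ⟨h, hh⟩ := hp
    rw [map_one, conj_eq_one_iff] at hh
    exact d.i_ne_one hh
  obtain ⟨σ, hσ⟩ := invol_classes8 hp2 hp1
  have hI := d.isI_conj hp (φ σ)
  rw [← map_inv, ← map_mul, ← map_mul] at hI
  have hsign : Perm.sign (σ * p * σ⁻¹) = Perm.sign p := by
    rw [map_mul, map_mul, map_inv, mul_comm, ← mul_assoc, inv_mul_cancel, one_mul]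
  obtain ⟨-, -, b3, b4, b5⟩ := d.map_basic heq
  rcases hσ with h | h | h | h <;> rw [h] at hI hsign
  · rw [← hsign, Perm.sign_swap (by decide)]
  · exfalso
    rw [map_mul, b4, b3, show d.i * d.s = d.ι (iS * sS) from (map_mul _ _ _).symm,
      show iS * sS = sS * iS by decide +kernel] at hI
    exact d.odd_not_isI_si hs hI
  all_goals exfalso
  · have hc : φ g8 * d.ι (dS 1 1) = d.ι (dS 1 1) * φ g8 := by
      rw [← b5, ← map_mul, ← map_mul, mul_inv_eq_iff_eq_mul.1 perm_values.2.2.2.1]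
    have := d.eq_i_of_isI hI (p := 1) (q := 1) (by decide) (by decide) hc
    rw [← b4] at this
    exact perm_values.2.2.2.2.2.2.2.1 (hφ this)
  · have hc : φ (g8 * swap 3 4) * d.ι (dS 1 1) = d.ι (dS 1 1) * φ (g8 * swap 3 4) := by
      rw [← b5, ← map_mul, ← map_mul, mul_inv_eq_iff_eq_mul.1 perm_values.2.2.2.2.1]
    have := d.eq_i_of_isI hI (p := 1) (q := 1) (by decide) (by decide) hc
    rw [← b4] at this
    exact perm_values.2.2.2.2.2.2.2.2 (hφ this)

include hφ heq e hs in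
theorem isI_conj_le {h : G} (hh : h * d.s * h⁻¹ ∈ φ.range) : h ∈ φ.range := by
  obtain ⟨p, hp⟩ := hh
  have hsI : d.IsI d.s := by
    have h1 : d.IsI (d.ι bO) := ⟨d.ι (1, c[0, 3] * c[1, 4]), by
      rw [i, ← map_inv, ← map_mul, ← map_mul, s_times.2.1]⟩
    have h2 := d.isI_conj h1 d.g⁻¹
    rwa [← hs, show d.g⁻¹ * (d.g * d.s * d.g⁻¹) * d.g⁻¹⁻¹ = d.s by group] at h2
  have hI : d.IsI (φ p) := hp ▸ d.isI_conj hsI h
  have hsign := d.isI_map hφ heq hs hI
  have hp2 : p * p = 1 := hφ (by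
    rw [map_mul, hp, show h * d.s * h⁻¹ * (h * d.s * h⁻¹) = h * (d.s * d.s) * h⁻¹ by group, s,
      ← map_mul, show sS * sS = 1 by decide +kernel, map_one, map_one]
    group)
  obtain ⟨σ, hσ⟩ := invol_classes8 hp2 (fun e0 => by rw [e0, map_one] at hsign; exact absurd hsign (by decide))
  have hI2 := d.isI_conj hI (φ σ)
  rw [← map_inv, ← map_mul, ← map_mul] at hI2
  obtain ⟨-, -, b3, b4, -⟩ := d.map_basic heq
  obtain ⟨τ, hτ⟩ : ∃ τ : Perm (Fin 8), τ * p * τ⁻¹ = swap 0 1 := by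
    rcases hσ with h0 | h0 | h0 | h0
    · obtain ⟨c', hc'⟩ : ∃ c' : Perm (Fin 8), c' * swap 3 4 * c'⁻¹ = swap 0 1 :=
        ⟨swap 0 3 * swap 1 4, by decide +kernel⟩
      exact ⟨c' * σ, by rw [show c' * σ * p * (c' * σ)⁻¹ = c' * (σ * p * σ⁻¹) * c'⁻¹ by group, h0, hc']⟩
    all_goals exfalso
    all_goals rw [h0] at hI2
    all_goals have hh2 := d.isI_map hφ heq hs hI2
    · exact absurd hh2 (by decide +kernel)
    · have hc : φ g8 * d.ι (dS 1 1) = d.ι (dS 1 1) * φ g8 := by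
        rw [← (d.map_basic heq).2.2.2.2, ← map_mul, ← map_mul, mul_inv_eq_iff_eq_mul.1 perm_values.2.2.2.1]
      have := d.eq_i_of_isI hI2 (p := 1) (q := 1) (by decide) (by decide) hc
      rw [← b4] at this
      exact perm_values.2.2.2.2.2.2.2.1 (hφ this)
    · exact absurd hh2 (by decide +kernel)
  refine conj_range (φ := φ) τ ?_
  have hc : φ τ * h ∈ Subgroup.centralizer ({d.s} : Set G) := by
    rw [Subgroup.mem_centralizer_singleton_iff]
    refine mul_inv_eq_iff_eq_mul.1 ?_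
    rw [show φ τ * h * d.s * (φ τ * h)⁻¹ = φ τ * (h * d.s * h⁻¹) * (φ τ)⁻¹ by group, ← hp, ← map_inv,
      ← map_mul, ← map_mul, hτ, b3]
  have hm := d.cent_s_le hφ heq e hs hc
  have := mul_mem hm (inv_mem (⟨τ, rfl⟩ : φ τ ∈ φ.range))
  exact this

include hφ heq e hs in
theorem nonempty_mulEquiv : Nonempty (G ≃* Perm (Fin 8)) := by
  classical
  haveI : Fact (Nat.Prime 2) := ⟨Nat.prime_two⟩
  haveI : Fact (Nat.Prime 3) := ⟨Nat.prime_three⟩
  obtain ⟨b1, b2, b3, b4, b5⟩ := d.map_basic heq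
  let S : Sylow 2 (Perm (Fin 8)) :=
    ((IsPGroup.of_card (n := 1) (show Nat.card (Subgroup.zpowers (swap (0 : Fin 8) 1)) = 2 ^ 1 by
      rw [Nat.card_zpowers, pow_one]
      exact orderOf_eq_prime (by rw [sq, swap_mul_self]) (by decide))).exists_le_sylow).choose
  have hS : Subgroup.zpowers (swap (0 : Fin 8) 1) ≤ (S : Subgroup (Perm (Fin 8))) :=
    ((IsPGroup.of_card (n := 1) (show Nat.card (Subgroup.zpowers (swap (0 : Fin 8) 1)) = 2 ^ 1 by
      rw [Nat.card_zpowers, pow_one]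
      exact orderOf_eq_prime (by rw [sq, swap_mul_self]) (by decide))).exists_le_sylow).choose_spec
  have hSs : swap (0 : Fin 8) 1 ∈ (S : Subgroup (Perm (Fin 8))) := hS (Subgroup.mem_zpowers _)
  set T0 := (S : Subgroup (Perm (Fin 8))).map φ with hT0
  obtain ⟨T, hT⟩ := (S.isPGroup'.map φ).exists_le_sylow
  have hTeq : T0 = (T : Subgroup G) := by
    refine le_antisymm hT ?_
    by_contra hne
    have hne' : T0.subgroupOf (T : Subgroup G) ≠ ⊤ := fun h => hne (Subgroup.subgroupOf_eq_top.1 h)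
    haveI := T.isPGroup'.isNilpotent
    obtain ⟨h, hh, hhT⟩ := SetLike.exists_of_lt
      (Group.normalizerCondition_of_isNilpotent (G := (T : Subgroup G)) _ hne'.lt_top)
    have hsT : d.s ∈ T0 := ⟨_, hSs, b3⟩
    obtain ⟨q, hq, hqe⟩ := (Subgroup.mem_normalizer_iff.1 hh ⟨d.s, hT hsT⟩).1 hsT
    obtain ⟨p, hp⟩ := d.isI_conj_le hφ heq e hs (h := h.1) ⟨q, hqe⟩
    have hle : (S : Subgroup (Perm (Fin 8))) ≤ (T : Subgroup G).comap φ := fun x hx => hT ⟨x, hx, rfl⟩
    have := S.is_maximal' (T.isPGroup'.comap_of_injective φ hφ) hle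
    exact hhT (Subgroup.mem_subgroupOf.2 ⟨p, this ▸ (show φ p ∈ (T : Subgroup G) by rw [hp]; exact h.2), hp⟩)
  set Q := ((S : Subgroup (Perm (Fin 8))) ⊓ A8).map φ with hQ
  have hQi : Q.relIndex (T : Subgroup G) = 2 := by
    rw [hQ, ← hTeq, hT0, Subgroup.relIndex_map_map_of_injective _ _ hφ, Subgroup.inf_relIndex_left,
      Subgroup.relIndex]
    refine (Subgroup.index_eq_two_iff).2 ⟨⟨_, hSs⟩, fun b => ?_⟩
    rw [Subgroup.mem_subgroupOf, Subgroup.mem_subgroupOf, Equiv.Perm.mem_alternatingGroup,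
      Equiv.Perm.mem_alternatingGroup, Subgroup.coe_mul, map_mul]
    simp only [Perm.sign_swap (show (0 : Fin 8) ≠ 1 by decide)]
    rcases Int.units_eq_one_or (Perm.sign b.1) with h | h <;> rw [h] <;> simp [Xor', Units.ext_iff]
  have hnotQ : ∀ x : G, x * d.s * x⁻¹ ∉ Q := by
    rintro x ⟨p, hp, hpe⟩
    obtain ⟨hpS, hpA⟩ := Subgroup.mem_inf.1 hp
    have hsI : d.IsI d.s := by
      have h1 : d.IsI (d.ι bO) := ⟨d.ι (1, c[0, 3] * c[1, 4]), by
        rw [i, ← map_inv, ← map_mul, ← map_mul, s_times.2.1]⟩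
      have h2 := d.isI_conj h1 d.g⁻¹
      rwa [← hs, show d.g⁻¹ * (d.g * d.s * d.g⁻¹) * d.g⁻¹⁻¹ = d.s by group] at h2
    have := d.isI_map hφ heq hs (hpe ▸ d.isI_conj hsI x)
    rw [Equiv.Perm.mem_alternatingGroup.1 hpA] at this
    exact absurd this (by decide)
  obtain ⟨M0, hM0n, hM0i, hsM0⟩ := Transfer.exists_index_two_of_involution T Q
    (hTeq ▸ Subgroup.map_mono inf_le_left) hQi d.s
    (by rw [sq, s, ← map_mul, show sS * sS = 1 by decide +kernel, map_one])
    (hTeq ▸ ⟨_, hSs, b3⟩) (fun h => hnotQ 1 (by simpa using h)) hnotQ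
  have hcube : ∀ a : G, a ^ 3 = 1 → a ∈ M0 := by
    intro a ha
    have h := Subgroup.mul_self_mem_of_index_two hM0i (a * a)
    rwa [show a * a * (a * a) = a ^ 3 * a by simp [pow_succ, mul_assoc], ha, one_mul] at h
  -- the even permutations
  haveI : (M0.comap (φ.comp A8.subtype)).Normal := hM0n.comap _
  have hA8 : ∀ p : A8, φ p.1 ∈ M0 := by
    rcases isSimpleGroup_A8.eq_bot_or_eq_top_of_normal (M0.comap (φ.comp A8.subtype)) inferInstance with h | h
    · exfalso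
      have hm : z0 ∈ M0.comap (φ.comp A8.subtype) :=
        hcube _ (by show φ z0.1 ^ 3 = 1; rw [b1]; exact d.z_cube)
      rw [h, Subgroup.mem_bot] at hm
      revert hm
      decide +kernel
    · intro p
      have : p ∈ M0.comap (φ.comp A8.subtype) := by rw [h]; trivial
      exact this
  have hback : ∀ x ∈ φ.range, x ∈ M0 → ∃ p : A8, φ p.1 = x := by
    rintro _ ⟨p, rfl⟩ hx
    rcases Int.units_eq_one_or (Perm.sign p) with hp | hp
    · exact ⟨⟨p, hp⟩, rfl⟩
    · exfalso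
      have h2 := hA8 ⟨p * swap 0 1, by rw [Equiv.Perm.mem_alternatingGroup, map_mul, hp, Perm.sign_swap (by decide)]; rfl⟩
      have h3 := mul_mem (inv_mem hx) h2
      rw [map_mul, inv_mul_cancel_left, b3] at h3
      exact hsM0 h3
  have hDM : ∀ a ∈ d.D, a ∈ M0 := fun a ha => hcube a (d.D_cube ha)
  have hPM : (d.P : Subgroup G) ≤ M0 := by rw [← d.hDP]; exact hDM
  have hiM : d.i ∉ M0 := by
    intro hi
    apply hsM0
    have h1 := hM0n.conj_mem _ hi (d.ι (1, c[0, 3] * c[1, 4]))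
    rw [i, ← map_inv, ← map_mul, ← map_mul, s_times.2.1, ← hs] at h1
    have := hM0n.conj_mem _ h1 d.g⁻¹
    rwa [show d.g⁻¹ * (d.g * d.s * d.g⁻¹) * d.g⁻¹⁻¹ = d.s by group] at this
  have hhalf : ∀ a : M0, d.i * a.1 = a.1 * d.i →
      Nat.card (Subgroup.centralizer ({a} : Set M0)) * 2 = Nat.card (Subgroup.centralizer ({a.1} : Set G)) := by
    intro a hia
    set C := Subgroup.centralizer ({a.1} : Set G)
    have he : Subgroup.centralizer ({a} : Set M0) = C.subgroupOf M0 := by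
      ext x
      rw [Subgroup.mem_subgroupOf, Subgroup.mem_centralizer_singleton_iff, Subgroup.mem_centralizer_singleton_iff,
        ← Subgroup.coe_mul, ← Subgroup.coe_mul]
      exact Subtype.ext_iff
    have hrel : (M0.subgroupOf C).index = 2 := by
      rcases Nat.prime_two.eq_one_or_self_of_dvd _
        (show M0.relIndex C ∣ 2 from hM0i ▸ Subgroup.relIndex_dvd_index_of_normal M0 C) with h | h
      · exact absurd ((Subgroup.relIndex_eq_one.1 h) (Subgroup.mem_centralizer_singleton_iff.2 hia)) hiM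
      · exact h
    have h1 := Subgroup.card_mul_index (M0.subgroupOf C)
    rw [hrel] at h1
    have h2 : Nat.card (M0.subgroupOf C) = Nat.card (C.subgroupOf M0) := by
      rw [← Subgroup.card_map_of_injective C.subtype_injective,
        ← Subgroup.card_map_of_injective (K := C.subgroupOf M0) M0.subtype_injective,
        Subgroup.subgroupOf_map_subtype, Subgroup.subgroupOf_map_subtype, inf_comm]
    rw [he, ← h2]
    exact h1
  let φ0 : A8 →* M0 := (φ.comp A8.subtype).codRestrict M0 hA8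
  have hinj0 : Function.Injective φ0 := fun p q h =>
    Subtype.ext (hφ (congrArg (fun x : M0 => (x : G)) h))
  have hmemφ : ∀ x : M0, x.1 ∈ φ.range → x ∈ φ0.range := fun x hx => by
    obtain ⟨p, hp⟩ := hback _ hx x.2
    exact ⟨p, Subtype.ext hp⟩
  have hz0M : (φ0 z0).1 = d.z := b1
  have hw0M : (φ0 w0).1 = d.w := b2
  let E : Emb M0 := {
    D := d.D.subgroupOf M0
    P := d.P.subtype hPM
    hDP := by rw [Sylow.coe_subtype, d.hDP]
    hcard := by rw [Nat.card_congr (Subgroup.subgroupOfEquivOfLe hDM).toEquiv, d.hcard]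
    hC := by
      refine le_antisymm (fun x hx => ?_) (fun x hx => ?_)
      · have hc : ∀ a (ha : a ∈ d.D), x.1 * a = a * x.1 := fun a ha =>
          (congrArg Subtype.val (Subgroup.mem_centralizer_iff.1 hx ⟨a, hDM a ha⟩ ha)).symm
        obtain ⟨⟨p, q, f⟩, hu⟩ := d.centralizer_D (hc _ d.z_mem) (hc _ d.w_mem)
        rw [cS, map_mul, map_pow] at hu
        rw [Subgroup.mem_subgroupOf, hu]
        have hf : f = 0 ∨ f = 1 := (by decide : ∀ f : Fin 2, f = 0 ∨ f = 1) f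
        rcases hf with rfl | rfl
        · simp only [Fin.val_zero, pow_zero, mul_one]
          exact (d.mem_D _).2 ⟨p, q, rfl⟩
        · exfalso
          have h1 := mul_mem (inv_mem (hDM _ ((d.mem_D _).2 ⟨p, q, rfl⟩))) x.2
          simp only [Fin.val_one, pow_one] at hu
          rw [hu, inv_mul_cancel_left] at h1
          exact hiM h1
      · rw [Subgroup.mem_centralizer_iff]
        intro a ha
        exact Subtype.ext (d.D_comm (show a.1 ∈ d.D from ha) hx)
    φ := φ0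
    inj := hinj0
    mem_D := fun x => by
      rw [Subgroup.mem_subgroupOf, d.mem_D]
      refine exists_congr fun p => exists_congr fun q => ?_
      rw [Subtype.ext_iff, map_mul, map_pow, map_pow, Subgroup.coe_mul, Subgroup.coe_pow, Subgroup.coe_pow,
        hz0M, hw0M, dS, map_mul, map_pow, map_pow]
    card_z := by
      have h := hhalf (φ0 z0) (by rw [hz0M]; exact d.i_commute_D d.z_mem)
      rw [hz0M, d.card_C_z] at h
      omega
    card_y := by
      have h := hhalf (φ0 y0) (by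
        show d.i * φ y0.1 = φ y0.1 * d.i
        rw [b5]; exact d.i_commute_D ((d.mem_D _).2 ⟨1, 1, rfl⟩))
      rw [show (φ0 y0).1 = d.ι (dS 1 1) from b5, (d.mixed 1 1 (by decide) (by decide)).1] at h
      omega
    cent_three := fun p hp3 hp1 x hx => by
      obtain ⟨γ, hγ⟩ := three_classes hp3 hp1
      refine hmemφ x (conj_range (φ := φ) γ.1 ?_)
      have hx' : Commute x.1 (φ p.1) := congrArg Subtype.val (Subgroup.mem_centralizer_singleton_iff.1 hx)
      have hc : Commute (φ γ.1 * x.1 * (φ γ.1)⁻¹) (φ (γ * p * γ⁻¹).1) := by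
        rw [Subgroup.coe_mul, Subgroup.coe_mul, Subgroup.coe_inv, map_mul, map_mul, map_inv]
        exact hx'.map (MulAut.conj (φ γ.1)).toMonoidHom
      rcases hγ with hγ | hγ <;> rw [hγ] at hc
      · rw [b1] at hc
        exact d.normalizer_z_le heq (Or.inl (by rw [hc.eq]; group))
      · exact d.cent_y_le hφ heq (Subgroup.mem_centralizer_singleton_iff.2 hc)
    normalizer_D := fun x hx => hmemφ x (d.normalizer_D_le heq (mem_normalizer_of_conj_mem fun a ha =>
      (Subgroup.mem_normalizer_iff.1 hx ⟨a, hDM a ha⟩).1 ha))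
    normalizer_w := fun x hx => hmemφ x (d.normalizer_w_le heq (by
      rw [← hw0M]
      exact hx.imp (congrArg Subtype.val) (congrArg Subtype.val))) }
  have htop := E.range_eq_top
  have hM0c : Nat.card M0 = 20160 := by
    rw [← Emb.card_A8, Nat.card_congr (MulEquiv.ofBijective E.φ ⟨E.inj, MonoidHom.range_eq_top.1 htop⟩).toEquiv.symm]
  have hG : Nat.card G = Nat.card (Perm (Fin 8)) := by
    rw [← Subgroup.card_mul_index M0, hM0c, hM0i, Nat.card_perm, Nat.card_fin]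
    rfl
  exact ⟨(MulEquiv.ofBijective φ ((Nat.bijective_iff_injective_and_card φ).2 ⟨hφ, hG.symm⟩)).symm⟩

end

end Data

end Cfsg.Agent.SymEightLocal
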